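import Cfsg.Agent.H557.Bs.Herm

/-!
# Generation of special unitary groups by the groups `SU₂` of pairs of an orthogonal basis

`phan` : let `b` be an orthogonal basis of the hermitian space `V` over the field with `r²` elements, `r > 2`,
and `M` a group of linear maps.  Join `i` and `j` if `M` contains all isometries of determinant one which fix
all `b k`, `k ≠ i, j`.  If this graph is connected then `M` contains `SU(V)`.
-/

set_option autoImplicit false
set_option linter.unusedSectionVars false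
set_option linter.style.haveILetI false

namespace Cfsg.Agent.H557.Gp

open Cfsg.Agent.H847.Bs Cfsg.Agent.H557.Bs

section Field

variable {F : Type*} [Field F] [Finite F] {r : ℕ}

theorem neg_pow_r (hc : Nat.card F = r ^ 2) (a : F) : (-a) ^ r = -(a ^ r) := by
  have := map_neg (sig hc) a
  exact this

/-- norms: every `n` of the small field is a norm -/
theorem exists_norm (hc : Nat.card F = r ^ 2) {n : F} (hn : n ^ r = n) : ∃ c : F, c ^ (r + 1) = n := by
  have h2 := two_le_of_card hc
  rcases eq_or_ne n 0 with rfl | h0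
  · exact ⟨0, zero_pow (by omega)⟩
  obtain ⟨ζ, hζ⟩ := IsCyclic.exists_ofOrder_eq_natCard (α := Fˣ)
  have hgen : ∀ x : Fˣ, x ∈ Subgroup.zpowers ζ := by
    intro x
    have h1 : Nat.card (Subgroup.zpowers ζ) = Nat.card Fˣ := by rw [Nat.card_zpowers, hζ]
    rw [(Subgroup.card_eq_iff_eq_top _).1 h1]; trivial
  obtain ⟨k, hk⟩ := (mem_powers_iff_mem_zpowers (x := ζ)).2 (hgen (Units.mk0 n h0))
  have hk' : ζ ^ k = Units.mk0 n h0 := hk
  have h3 : (Units.mk0 n h0) ^ r = Units.mk0 n h0 := Units.ext (by simpa using hn)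
  have h4 : ζ ^ (k * (r - 1)) = 1 := by
    rw [pow_mul, hk']
    have : (Units.mk0 n h0) ^ (r - 1) * Units.mk0 n h0 = 1 * Units.mk0 n h0 := by
      rw [← pow_succ, Nat.sub_add_cancel (by omega), h3, one_mul]
    exact mul_right_cancel this
  have h5 := orderOf_dvd_of_pow_eq_one h4
  rw [hζ, card_units hc, mul_comm] at h5
  obtain ⟨m, hm⟩ := Nat.dvd_of_mul_dvd_mul_right (by omega : 0 < r - 1) h5
  refine ⟨((ζ ^ m : Fˣ) : F), ?_⟩
  rw [← Units.val_pow_eq_pow_val, ← pow_mul, mul_comm, ← hm, hk']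
  rfl

/-- traces: every element of the small field is a trace -/
theorem exists_trace (hc : Nat.card F = r ^ 2) {n : F} (hn : n ^ r = n) : ∃ c : F, c + c ^ r = n := by
  obtain ⟨u, hu⟩ : ∃ u : F, u + u ^ r ≠ 0 := by
    by_contra! h
    obtain ⟨a, ha⟩ := exists_pow_ne hc
    apply ha
    have h1 := h 1
    rw [one_pow] at h1
    have h2 := h a
    have h3 : (2 : F) = 0 := by rw [← h1]; norm_num
    linear_combination h2 - a * h3
  have hu' : (u + u ^ r) ^ r = u + u ^ r := by
    rw [add_pow_r hc, pow_r_pow_r hc, add_comm]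
  refine ⟨n / (u + u ^ r) * u, ?_⟩
  rw [mul_pow, div_pow, hn, hu', ← mul_add, div_mul_cancel₀ _ hu]

theorem exists_lam (hc : Nat.card F = r ^ 2) (hr : 2 < r) : ∃ l : F, l ^ r = l ∧ l ≠ 0 ∧ l ≠ 1 := by
  obtain ⟨ζ, hζ⟩ := IsCyclic.exists_ofOrder_eq_natCard (α := Fˣ)
  have hu := card_units hc
  refine ⟨((ζ ^ (r + 1) : Fˣ) : F), ?_, Units.ne_zero _, ?_⟩
  · rw [← Units.val_pow_eq_pow_val]
    congr 1
    have h1 : (ζ ^ (r + 1)) ^ (r - 1) = 1 := by
      rw [← pow_mul, mul_comm, ← hu, ← hζ, pow_orderOf_eq_one]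
    calc (ζ ^ (r + 1)) ^ r = (ζ ^ (r + 1)) ^ (r - 1) * ζ ^ (r + 1) := by
          rw [← pow_succ, Nat.sub_add_cancel (by omega)]
      _ = _ := by rw [h1, one_mul]
  · intro h
    have h1 : ζ ^ (r + 1) = 1 := Units.ext h
    have h2 := Nat.le_of_dvd (by omega) (orderOf_dvd_of_pow_eq_one h1)
    rw [hζ, hu] at h2
    have : 2 * (r + 1) ≤ (r - 1) * (r + 1) := Nat.mul_le_mul_right _ (by omega)
    omega

end Field

section Basis

variable {F V ι : Type*} [Field F] [AddCommGroup V] [Module F V]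

/-- `b` is orthonormal -/
def ON (Φ : Frm F V) (b : Module.Basis ι F V) : Prop :=
  (∀ i j, i ≠ j → Φ.B (b i) (b j) = 0) ∧ ∀ i, Φ.B (b i) (b i) = 1

/-- `M` contains all isometries of determinant one which fix all `b k`, `k ≠ i, j` -/
def HasP (Φ : Frm F V) (b : Module.Basis ι F V) (M : Subgroup (V ≃ₗ[F] V)) (i j : ι) : Prop :=
  ∀ g ∈ Φ.Iso, LinearMap.det (g : V →ₗ[F] V) = 1 → (∀ k, k ≠ i → k ≠ j → g (b k) = b k) → g ∈ M

theorem HasP.symm {Φ : Frm F V} {b : Module.Basis ι F V} {M : Subgroup (V ≃ₗ[F] V)} {i j : ι} (h : HasP Φ b M i j) :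
    HasP Φ b M j i := fun g hg hd hk => h g hg hd fun k h1 h2 => hk k h2 h1

variable [Finite ι]

/-- a linear map preserving the values of the form on a basis preserves the form -/
theorem iso_of_basis [Finite F] {Φ : Frm F V} (hq : ∀ x, Φ.q x = 0) (b : Module.Basis ι F V) (g : V ≃ₗ[F] V)
    (h : ∀ i j, Φ.B (g (b i)) (g (b j)) = Φ.B (b i) (b j)) : g ∈ Φ.Iso := by
  have := Fintype.ofFinite ι
  have := Module.Finite.of_basis b
  refine ⟨fun x y => ?_, fun x => by rw [hq, hq]⟩
  have h1 : ∀ x : V, ∀ j, Φ.B (g x) (g (b j)) = Φ.B x (b j) := by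
    intro x j
    conv_lhs => rw [← b.sum_repr x, map_sum]
    conv_rhs => rw [← b.sum_repr x]
    rw [B_sum_left, B_sum_left]
    refine Finset.sum_congr rfl fun i _ => ?_
    rw [map_smul, Φ.smul_left, Φ.smul_left, h]
  conv_lhs => rw [← b.sum_repr y, map_sum]
  conv_rhs => rw [← b.sum_repr y]
  rw [B_sum_right, B_sum_right]
  refine Finset.sum_congr rfl fun j _ => ?_
  rw [map_smul, Φ.smul_right, Φ.smul_right, h1]

section Plane

variable [DecidableEq ι] (b : Module.Basis ι F V) (r : ℕ) (i j : ι)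

/-- the linear map `b i ↦ u b i + v b j`, `b j ↦ - v^r b i + u^r b j` -/
noncomputable def pl (u v : F) : V →ₗ[F] V :=
  b.constr F fun k => if k = i then u • b i + v • b j else if k = j then (-(v ^ r)) • b i + (u ^ r) • b j else b k

theorem pl_i (u v : F) : pl b r i j u v (b i) = u • b i + v • b j := by
  rw [pl, Module.Basis.constr_basis, if_pos rfl]

variable {i j} (hij : i ≠ j)
include hij

theorem pl_j (u v : F) : pl b r i j u v (b j) = (-(v ^ r)) • b i + (u ^ r) • b j := by
  rw [pl, Module.Basis.constr_basis, if_neg hij.symm, if_pos rfl]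

omit hij in
theorem pl_k (u v : F) {k : ι} (hi : k ≠ i) (hj : k ≠ j) : pl b r i j u v (b k) = b k := by
  rw [pl, Module.Basis.constr_basis, if_neg hi, if_neg hj]

theorem pl_comp [Finite F] (hc : Nat.card F = r ^ 2) {u v : F} (h : u ^ (r + 1) + v ^ (r + 1) = 1) :
    pl b r i j u v ∘ₗ pl b r i j (u ^ r) (-v) = LinearMap.id := by
  have e1 : u ^ r * u = u ^ (r + 1) := (pow_succ _ _).symm
  have e2 : v ^ r * v = v ^ (r + 1) := (pow_succ _ _).symm
  refine b.ext fun k => ?_
  show pl b r i j u v (pl b r i j (u ^ r) (-v) (b k)) = b k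
  by_cases hi : k = i
  · subst hi
    rw [pl_i, map_add, map_smul, map_smul, pl_i, pl_j b r hij]
    have : u ^ r • (u • b k + v • b j) + -v • (-v ^ r • b k + u ^ r • b j) =
        (u ^ r * u + v ^ r * v) • b k := by module
    rw [this, e1, e2, h, one_smul]
  by_cases hj : k = j
  · subst hj
    rw [pl_j b r hij, map_add, map_smul, map_smul, pl_i, pl_j b r hij, neg_pow_r hc, pow_r_pow_r hc]
    have : -(-v ^ r) • (u • b i + v • b k) + u • (-v ^ r • b i + u ^ r • b k) =
        (u ^ r * u + v ^ r * v) • b k := by module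
    rw [this, e1, e2, h, one_smul]
  · rw [pl_k b r _ _ hi hj, pl_k b r _ _ hi hj]

/-- the isometry `pl` -/
noncomputable def plE [Finite F] (hc : Nat.card F = r ^ 2) {u v : F} (h : u ^ (r + 1) + v ^ (r + 1) = 1) :
    V ≃ₗ[F] V :=
  LinearEquiv.ofLinearMap (pl b r i j u v) (pl b r i j (u ^ r) (-v)) (pl_comp b r hij hc h) (by
    have h1 : (u ^ r) ^ (r + 1) + (-v) ^ (r + 1) = 1 := by
      rw [pow_succ (u ^ r), pow_r_pow_r hc, pow_succ (-v), neg_pow_r hc, neg_mul_neg, ← pow_succ v, ← pow_succ' u, h]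
    have := pl_comp b r hij hc h1
    rwa [pow_r_pow_r hc, neg_neg] at this)

theorem plE_apply [Finite F] (hc : Nat.card F = r ^ 2) {u v : F} (h : u ^ (r + 1) + v ^ (r + 1) = 1) (x : V) :
    plE b r hij hc h x = pl b r i j u v x := rfl

theorem det_pl (u v : F) : LinearMap.det (pl b r i j u v) = u ^ (r + 1) + v ^ (r + 1) := by
  have := Fintype.ofFinite ι
  rw [← LinearMap.det_toMatrix b]
  let P : Matrix ι (Fin 2) F := fun k l => if k = ![i, j] l then 1 else 0
  let Q : Matrix (Fin 2) ι F := fun l k => if k = i then ![u - 1, v] l else if k = j then ![-(v ^ r), u ^ r - 1] l else 0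
  have h1 : LinearMap.toMatrix b b (pl b r i j u v) = 1 + P * Q := by
    ext k l
    rw [LinearMap.toMatrix_apply, Matrix.add_apply, Matrix.mul_apply, Fin.sum_univ_two]
    by_cases hi : l = i
    · subst hi
      rw [pl_i]
      simp only [map_add, map_smul, Module.Basis.repr_self, Finsupp.coe_add, Finsupp.coe_smul, Pi.add_apply, Pi.smul_apply,
        smul_eq_mul, P, Q, if_pos, Matrix.cons_val_zero, Matrix.cons_val_one, Matrix.one_apply, Finsupp.single_apply]
      by_cases h2 : k = l
      · subst h2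
        simp [hij, hij.symm]
      · by_cases h3 : k = j
        · subst h3
          simp [hij, hij.symm]
        · simp [h2, h3, Ne.symm h2, Ne.symm h3]
    by_cases hj : l = j
    · subst hj
      rw [pl_j b r hij]
      simp only [map_add, map_smul, Module.Basis.repr_self, Finsupp.coe_add, Finsupp.coe_smul, Pi.add_apply, Pi.smul_apply,
        smul_eq_mul, P, Q, if_pos, if_neg hi, Matrix.cons_val_zero, Matrix.cons_val_one, Matrix.one_apply,
        Finsupp.single_apply]
      by_cases h2 : k = i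
      · subst h2
        simp [hij, hij.symm]
      · by_cases h3 : k = l
        · subst h3
          simp [hij, hij.symm]
        · simp [h2, h3, Ne.symm h2, Ne.symm h3]
    · rw [pl_k b r _ _ hi hj]
      simp only [Module.Basis.repr_self, P, Q, if_neg hi, if_neg hj, Matrix.one_apply, Finsupp.single_apply]
      by_cases h2 : k = l
      · subst h2; simp
      · simp [h2, Ne.symm h2]
  rw [h1, Matrix.det_one_add_mul_comm, Matrix.det_fin_two]
  have h2 : ∀ l l' : Fin 2, (Q * P) l l' = Q l (![i, j] l') := by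
    intro l l'
    rw [Matrix.mul_apply, Finset.sum_eq_single (![i, j] l')]
    · simp [P]
    · intro k _ hk
      simp [P, hk]
    · simp
  simp only [Matrix.add_apply, h2, Matrix.one_apply, Q]
  simp [hij.symm]
  ring

theorem plE_det [Finite F] (hc : Nat.card F = r ^ 2) {u v : F} (h : u ^ (r + 1) + v ^ (r + 1) = 1) :
    LinearMap.det (plE b r hij hc h : V →ₗ[F] V) = 1 := by
  have : (plE b r hij hc h : V →ₗ[F] V) = pl b r i j u v := rfl
  rw [this, det_pl b r hij, h]

end Plane

section Main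

variable [Finite F] {r : ℕ} {Φ : Frm F V}

theorem plE_iso [DecidableEq ι] (hΦ : IsHerm r Φ) {b : Module.Basis ι F V} (hb : ON Φ b) {i j : ι} (hij : i ≠ j)
    {u v : F} (h : u ^ (r + 1) + v ^ (r + 1) = 1) : plE b r hij hΦ.card h ∈ Φ.Iso := by
  have h1 : ∀ {k}, k ≠ i → k ≠ j → plE b r hij hΦ.card h (b k) = b k := fun {k} hi hj => pl_k b r u v hi hj
  have h2 : plE b r hij hΦ.card h (b i) = u • b i + v • b j := pl_i b r i j u v
  have h3 : plE b r hij hΦ.card h (b j) = (-(v ^ r)) • b i + (u ^ r) • b j := pl_j b r hij u v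
  have e1 : u * u ^ r = u ^ (r + 1) := (pow_succ' _ _).symm
  have e2 : v * v ^ r = v ^ (r + 1) := (pow_succ' _ _).symm
  have o1 := hb.1 i j hij
  have o2 := hb.1 j i hij.symm
  refine iso_of_basis hΦ.q b _ fun k l => ?_
  by_cases ki : k = i
  · subst ki
    by_cases li : l = k
    · subst li
      rw [h2, Φ.add_left, Φ.add_right, Φ.add_right, Φ.smul_left, Φ.smul_left, Φ.smul_left, Φ.smul_left,
        Φ.smul_right, Φ.smul_right, Φ.smul_right, Φ.smul_right, hb.2, hb.2, o1, o2, hΦ.s, hΦ.s]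
      linear_combination h + e1 + e2
    by_cases lj : l = j
    · subst lj
      rw [h2, h3, Φ.add_left, Φ.add_right, Φ.add_right, Φ.smul_left, Φ.smul_left, Φ.smul_left, Φ.smul_left,
        Φ.smul_right, Φ.smul_right, Φ.smul_right, Φ.smul_right, hb.2, hb.2, o1, o2, hΦ.s, hΦ.s,
        neg_pow_r hΦ.card, pow_r_pow_r hΦ.card, pow_r_pow_r hΦ.card]
      ring
    · rw [h2, h1 li lj, Φ.add_left, Φ.smul_left, Φ.smul_left, hb.1 k l (Ne.symm li), hb.1 j l (Ne.symm lj)]
      ring
  by_cases kj : k = j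
  · subst kj
    by_cases li : l = i
    · subst li
      rw [h2, h3, Φ.add_left, Φ.add_right, Φ.add_right, Φ.smul_left, Φ.smul_left, Φ.smul_left, Φ.smul_left,
        Φ.smul_right, Φ.smul_right, Φ.smul_right, Φ.smul_right, hb.2, hb.2, o1, o2, hΦ.s, hΦ.s]
      ring
    by_cases lk : l = k
    · subst lk
      rw [h3, Φ.add_left, Φ.add_right, Φ.add_right, Φ.smul_left, Φ.smul_left, Φ.smul_left, Φ.smul_left,
        Φ.smul_right, Φ.smul_right, Φ.smul_right, Φ.smul_right, hb.2, hb.2, o1, o2, hΦ.s, hΦ.s,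
        neg_pow_r hΦ.card, pow_r_pow_r hΦ.card, pow_r_pow_r hΦ.card]
      linear_combination h + e1 + e2
    · rw [h3, h1 li lk, Φ.add_left, Φ.smul_left, Φ.smul_left, hb.1 i l (Ne.symm li), hb.1 k l (Ne.symm lk)]
      ring
  · rw [h1 ki kj]
    by_cases li : l = i
    · subst li
      rw [h2, Φ.add_right, Φ.smul_right, Φ.smul_right, hb.1 k l ki, hb.1 k j kj]
      ring
    by_cases lj : l = j
    · subst lj
      rw [h3, Φ.add_right, Φ.smul_right, Φ.smul_right, hb.1 k l kj, hb.1 k i ki]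
      ring
    · rw [h1 li lj]

theorem HasP.plE_mem [DecidableEq ι] (hΦ : IsHerm r Φ) {b : Module.Basis ι F V} (hb : ON Φ b) {i j : ι} (hij : i ≠ j)
    {M : Subgroup (V ≃ₗ[F] V)} (hM : HasP Φ b M i j)
    {u v : F} (h : u ^ (r + 1) + v ^ (r + 1) = 1) : plE b r hij hΦ.card h ∈ M :=
  hM _ (plE_iso hΦ hb hij h) (plE_det b r hij hΦ.card h) fun _ hi hj => pl_k b r u v hi hj

theorem det_inv_mul_mul (g h : V ≃ₗ[F] V) :
    LinearMap.det ((h⁻¹ * g * h : V ≃ₗ[F] V) : V →ₗ[F] V) = LinearMap.det (g : V →ₗ[F] V) := by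
  have := det_conj' (h⁻¹) g
  rw [inv_inv] at this
  exact this

/-- the relation is transitive -/
theorem HasP.trans (hΦ : IsHerm r Φ) {b : Module.Basis ι F V} (hb : ON Φ b) {i j k : ι} (hij : i ≠ j) (hjk : j ≠ k)
    (hik : i ≠ k) {M : Subgroup (V ≃ₗ[F] V)} (h1 : HasP Φ b M i j) (h2 : HasP Φ b M j k) : HasP Φ b M i k := by
  classical
  intro g hg hd hk
  have h01 : (0 : F) ^ (r + 1) + 1 ^ (r + 1) = 1 := by
    rw [zero_pow (by omega), one_pow, zero_add]
  have hr0 : r ≠ 0 := by have := two_le_of_card hΦ.card; omega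
  set h := plE b r hjk hΦ.card h01 with hh
  have hM : h ∈ M := h2.plE_mem hΦ hb hjk h01
  have hI : h ∈ Φ.Iso := plE_iso hΦ hb hjk h01
  have e1 : h (b j) = b k := by
    have : h (b j) = (0 : F) • b j + (1 : F) • b k := pl_i b r j k 0 1
    rw [this, zero_smul, one_smul, zero_add]
  have e2 : h (b k) = - b j := by
    have : h (b k) = (-((1 : F) ^ r)) • b j + ((0 : F) ^ r) • b k := pl_j b r hjk 0 1
    rw [this, one_pow, zero_pow hr0, zero_smul, add_zero, neg_smul, one_smul]
  have e3 : ∀ l, l ≠ j → l ≠ k → h (b l) = b l := fun l hl hl' => pl_k b r 0 1 hl hl'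
  have h3 : h⁻¹ * g * h ∈ M := by
    refine h1 _ (Φ.Iso.mul_mem (Φ.Iso.mul_mem (Φ.Iso.inv_mem hI) hg) hI) ?_ fun l hl hl' => ?_
    · rw [det_inv_mul_mul, hd]
    · show h⁻¹ (g (h (b l))) = b l
      have h4 : g (h (b l)) = h (b l) := by
        by_cases hlk : l = k
        · subst hlk
          rw [e2, map_neg, hk j hij.symm hjk]
        · rw [e3 l hl' hlk, hk l hl hlk]
      rw [h4]
      exact h.symm_apply_apply _
  have h4 : g = h * (h⁻¹ * g * h) * h⁻¹ := by group
  rw [h4]
  exact M.mul_mem (M.mul_mem hM h3) (M.inv_mem hM)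

theorem HasP.of_conn (hΦ : IsHerm r Φ) {b : Module.Basis ι F V} (hb : ON Φ b) {M : Subgroup (V ≃ₗ[F] V)} {i j : ι}
    (h : Relation.ReflTransGen (HasP Φ b M) i j) (hij : i ≠ j) : HasP Φ b M i j := by
  induction h with
  | refl => exact absurd rfl hij
  | @tail j k h1 h2 ih =>
    by_cases h3 : i = j
    · subst h3; exact h2
    by_cases h4 : j = k
    · subst h4; exact ih hij
    · exact (ih h3).trans hΦ hb h3 h4 hij h2

/-- the norm in coordinates -/
theorem B_self [Fintype ι] (hΦ : IsHerm r Φ) {b : Module.Basis ι F V} (hb : ON Φ b) (x : V) :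
    Φ.B x x = ∑ k, (b.repr x k) ^ (r + 1) := by
  have := Module.Finite.of_basis b
  have h1 : ∀ l, Φ.B x (b l) = b.repr x l := by
    intro l
    conv_lhs => rw [← b.sum_repr x]
    rw [B_sum_left, Finset.sum_eq_single l]
    · rw [Φ.smul_left, hb.2, mul_one]
    · intro k _ hk
      rw [Φ.smul_left, hb.1 k l hk, mul_zero]
    · intro h; exact absurd (Finset.mem_univ _) h
  conv_lhs => arg 3; rw [← b.sum_repr x]
  rw [B_sum_right]
  refine Finset.sum_congr rfl fun l _ => ?_
  rw [Φ.smul_right, h1, hΦ.s, pow_succ]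

/-- the isometries in `M` of determinant one supported on `T` -/
def MT (Φ : Frm F V) (b : Module.Basis ι F V) (M : Subgroup (V ≃ₗ[F] V)) (T : Set ι) : Subgroup (V ≃ₗ[F] V) where
  carrier := {g | g ∈ M ∧ g ∈ Φ.Iso ∧ LinearMap.det (g : V →ₗ[F] V) = 1 ∧ ∀ k ∉ T, g (b k) = b k}
  one_mem' := ⟨M.one_mem, Φ.Iso.one_mem, LinearMap.det_id, fun _ _ => rfl⟩
  mul_mem' := by
    rintro g h ⟨g1, g2, g3, g4⟩ ⟨h1, h2, h3, h4⟩
    refine ⟨M.mul_mem g1 h1, Φ.Iso.mul_mem g2 h2, ?_, fun k hk => ?_⟩
    · rw [det_mul', g3, h3, one_mul]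
    · show g (h (b k)) = b k
      rw [h4 k hk, g4 k hk]
  inv_mem' := by
    rintro g ⟨g1, g2, g3, g4⟩
    refine ⟨M.inv_mem g1, Φ.Iso.inv_mem g2, ?_, fun k hk => ?_⟩
    · have := det_mul' g⁻¹ g
      rw [g3, mul_one, inv_mul_cancel] at this
      rw [← this]
      exact LinearMap.det_id
    · calc g⁻¹ (b k) = g⁻¹ (g (b k)) := by rw [g4 k hk]
        _ = b k := g.symm_apply_apply _

theorem plE_MT [DecidableEq ι] (hΦ : IsHerm r Φ) {b : Module.Basis ι F V} (hb : ON Φ b) {i j : ι} (hij : i ≠ j)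
    {M : Subgroup (V ≃ₗ[F] V)} (hM : HasP Φ b M i j) {T : Set ι} (hi : i ∈ T) (hj : j ∈ T)
    {u v : F} (h : u ^ (r + 1) + v ^ (r + 1) = 1) : plE b r hij hΦ.card h ∈ MT Φ b M T :=
  ⟨hM.plE_mem hΦ hb hij h, plE_iso hΦ hb hij h, plE_det b r hij hΦ.card h, fun _ hk =>
    pl_k b r u v (fun e => hk (e ▸ hi)) (fun e => hk (e ▸ hj))⟩

/-- the coordinates after applying `plE` -/
theorem repr_plE [Fintype ι] [DecidableEq ι] (hc : Nat.card F = r ^ 2) (b : Module.Basis ι F V) {i j : ι} (hij : i ≠ j)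
    {u v : F} (h : u ^ (r + 1) + v ^ (r + 1) = 1) (x : V) (k : ι) :
    b.repr (plE b r hij hc h x) k = if k = i then u * b.repr x i - v ^ r * b.repr x j
      else if k = j then v * b.repr x i + u ^ r * b.repr x j else b.repr x k := by
  have h0 : plE b r hij hc h x = ∑ l, b.repr x l • pl b r i j u v (b l) := by
    rw [plE_apply]
    conv_lhs => rw [← b.sum_repr x, map_sum]
    exact Finset.sum_congr rfl fun l _ => map_smul _ _ _
  rw [h0, map_sum, Finsupp.finsetSum_apply]
  have h1 : ∀ l, (b.repr (b.repr x l • pl b r i j u v (b l))) k =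
      (if l = i then b.repr x i * ((if k = i then u else 0) + if k = j then v else 0) else 0) +
      (if l = j then b.repr x j * ((if k = i then -(v ^ r) else 0) + if k = j then u ^ r else 0) else 0) +
      (if l = k then (if k = i then 0 else if k = j then 0 else b.repr x k) else 0) := by
    intro l
    by_cases hi : l = i
    · subst hi
      rw [pl_i, if_pos rfl, if_neg hij]
      simp only [map_smul, map_add, Module.Basis.repr_self, Finsupp.coe_add, Finsupp.coe_smul, Pi.add_apply,
        Pi.smul_apply, smul_eq_mul, Finsupp.single_apply]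
      by_cases hk : k = l
      · subst hk; simp [hij, hij.symm]
      · by_cases hk' : k = j
        · subst hk'; simp [hij, hij.symm]
        · simp [hk, hk', Ne.symm hk, Ne.symm hk']
    by_cases hj : l = j
    · subst hj
      rw [pl_j b r hij, if_neg hi, if_pos rfl]
      simp only [map_smul, map_add, Module.Basis.repr_self, Finsupp.coe_add, Finsupp.coe_smul, Pi.add_apply,
        Pi.smul_apply, smul_eq_mul, Finsupp.single_apply]
      by_cases hk : k = i
      · subst hk; simp [hij, hij.symm]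
      · by_cases hk' : k = l
        · subst hk'; simp [hij, hij.symm]
        · simp [hk, hk', Ne.symm hk, Ne.symm hk']
    · rw [pl_k b r u v hi hj, if_neg hi, if_neg hj]
      simp only [map_smul, Module.Basis.repr_self, Finsupp.coe_smul, Pi.smul_apply, smul_eq_mul, Finsupp.single_apply]
      by_cases hk : l = k
      · subst hk; simp [hi, hj]
      · simp [hk]
  rw [Finset.sum_congr rfl fun l _ => h1 l, Finset.sum_add_distrib, Finset.sum_add_distrib,
    Finset.sum_ite_eq' Finset.univ i, Finset.sum_ite_eq' Finset.univ j, Finset.sum_ite_eq' Finset.univ k]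
  simp only [Finset.mem_univ, if_true]
  by_cases hk : k = i
  · subst hk; simp [hij]; ring
  · by_cases hk' : k = j
    · subst hk'; simp [hij.symm]; ring
    · simp [hk, hk']

theorem norm_pow_r (hc : Nat.card F = r ^ 2) (a : F) : (a ^ (r + 1)) ^ r = a ^ (r + 1) := by
  rw [← pow_mul, mul_comm, pow_mul, pow_succ, pow_r_pow_r hc, ← pow_succ']

/-- a vector of nonzero norm can be moved to a line of the basis -/
theorem move [Fintype ι] [DecidableEq ι] (hΦ : IsHerm r Φ) (hr : 2 < r) {b : Module.Basis ι F V} (hb : ON Φ b)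
    {M : Subgroup (V ≃ₗ[F] V)} {T : Set ι} (hM : ∀ i ∈ T, ∀ j ∈ T, i ≠ j → HasP Φ b M i j) :
    ∀ n : ℕ, ∀ x : V, (∀ k, b.repr x k ≠ 0 → k ∈ T) → (b.repr x).support.card = n → Φ.B x x ≠ 0 →
      ∃ m ∈ MT Φ b M T, ∃ t ∈ T, ∃ c : F, m x = c • b t := by
  have hc := hΦ.card
  have hr0 : r ≠ 0 := by omega
  intro n
  induction n using Nat.strong_induction_on with
  | _ n ih =>
  -- first case
  have case1 : ∀ x : V, (∀ k, b.repr x k ≠ 0 → k ∈ T) → (b.repr x).support.card = n → Φ.B x x ≠ 0 →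
      (∃ i j, i ≠ j ∧ b.repr x i ≠ 0 ∧ b.repr x j ≠ 0 ∧ b.repr x i ^ (r + 1) + b.repr x j ^ (r + 1) ≠ 0) →
      ∃ m ∈ MT Φ b M T, ∃ t ∈ T, ∃ c : F, m x = c • b t := by
    intro x hxT hn hx ⟨i, j, hij, hi, hj, hne⟩
    obtain ⟨c, hcn⟩ := exists_norm hc (n := b.repr x i ^ (r + 1) + b.repr x j ^ (r + 1))
      (by rw [add_pow_r hc, norm_pow_r hc, norm_pow_r hc])
    have hc0 : c ≠ 0 := by
      rintro rfl
      rw [zero_pow (by omega)] at hcn
      exact hne hcn.symm
    have huv : ((b.repr x i / c) ^ r) ^ (r + 1) + (-(b.repr x j / c)) ^ (r + 1) = 1 := by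
      have e1 : ((b.repr x i / c) ^ r) ^ (r + 1) = (b.repr x i / c) ^ (r + 1) := by
        rw [pow_succ ((b.repr x i / c) ^ r), pow_r_pow_r hc, ← pow_succ']
      have e2 : (-(b.repr x j / c)) ^ (r + 1) = (b.repr x j / c) ^ (r + 1) := by
        rw [pow_succ (-_), neg_pow_r hc, neg_mul_neg, ← pow_succ]
      rw [e1, e2, div_pow, div_pow, ← add_div, hcn]
      exact div_self (hcn ▸ hne)
    have hmem := plE_MT hΦ hb hij (hM i (hxT i hi) j (hxT j hj) hij) (hxT i hi) (hxT j hj) huv
    set g := plE b r hij hc huv with hg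
    have hr1 : ∀ k, b.repr (g x) k = if k = i then c else if k = j then 0 else b.repr x k := by
      intro k
      rw [repr_plE hc b hij huv]
      by_cases hki : k = i
      · rw [if_pos hki, if_pos hki, neg_pow_r hc, div_pow, div_pow]
        have : b.repr x i ^ r / c ^ r * b.repr x i - -(b.repr x j ^ r / c ^ r) * b.repr x j =
            (b.repr x i ^ (r + 1) + b.repr x j ^ (r + 1)) / c ^ r := by
          rw [pow_succ, pow_succ]; ring
        rw [this, ← hcn, pow_succ, mul_comm, mul_div_assoc, div_self (pow_ne_zero _ hc0), mul_one]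
      · rw [if_neg hki, if_neg hki]
        by_cases hkj : k = j
        · rw [if_pos hkj, if_pos hkj, pow_r_pow_r hc]
          ring
        · rw [if_neg hkj, if_neg hkj]
    have hsub : (b.repr (g x)).support ⊆ (b.repr x).support.erase j := by
      intro k hk
      rw [Finsupp.mem_support_iff, hr1] at hk
      rw [Finset.mem_erase, Finsupp.mem_support_iff]
      by_cases hki : k = i
      · subst hki; exact ⟨hij, hi⟩
      · rw [if_neg hki] at hk
        by_cases hkj : k = j
        · rw [if_pos hkj] at hk; exact absurd rfl hk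
        · rw [if_neg hkj] at hk; exact ⟨hkj, hk⟩
    have hcard : (b.repr (g x)).support.card < n := by
      have h1 := Finset.card_le_card hsub
      have h2 : ((b.repr x).support.erase j).card < (b.repr x).support.card :=
        Finset.card_erase_lt_of_mem (Finsupp.mem_support_iff.2 hj)
      omega
    obtain ⟨m, hm, t, ht, d, hd⟩ := ih _ hcard (g x) (fun k hk => by
      have := Finset.mem_erase.1 (hsub (Finsupp.mem_support_iff.2 hk))
      exact hxT k (Finsupp.mem_support_iff.1 this.2)) rfl (by rw [hmem.2.1.1]; exact hx)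
    exact ⟨m * g, (MT Φ b M T).mul_mem hm hmem, t, ht, d, hd⟩
  intro x hxT hn hx
  by_cases hex : ∃ i j, i ≠ j ∧ b.repr x i ≠ 0 ∧ b.repr x j ≠ 0 ∧ b.repr x i ^ (r + 1) + b.repr x j ^ (r + 1) ≠ 0
  · exact case1 x hxT hn hx hex
  push Not at hex
  have hself := B_self hΦ hb x
  have hself' : Φ.B x x = ∑ k ∈ (b.repr x).support, (b.repr x k) ^ (r + 1) := by
    rw [hself]
    symm
    refine Finset.sum_subset (Finset.subset_univ _) fun k _ hk => ?_
    rw [Finsupp.notMem_support_iff.1 hk, zero_pow (by omega)]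
  obtain ⟨i, hi⟩ : (b.repr x).support.Nonempty := by
    rw [Finset.nonempty_iff_ne_empty]
    intro h
    rw [h, Finset.sum_empty] at hself'
    exact hx hself'
  by_cases h1 : (b.repr x).support = {i}
  · refine ⟨1, Subgroup.one_mem _, i, hxT i (Finsupp.mem_support_iff.1 hi), b.repr x i, ?_⟩
    show x = _
    conv_lhs => rw [← b.sum_repr x]
    refine Finset.sum_eq_single i (fun k _ hk => ?_) (fun h => absurd (Finset.mem_univ _) h)
    have : k ∉ (b.repr x).support := by rw [h1, Finset.mem_singleton]; exact hk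
    rw [Finsupp.notMem_support_iff.1 this, zero_smul]
  obtain ⟨j, hj, hji⟩ : ∃ j ∈ (b.repr x).support, j ≠ i := by
    by_contra! h
    exact h1 (Finset.eq_singleton_iff_unique_mem.2 ⟨hi, h⟩)
  have hi0 := Finsupp.mem_support_iff.1 hi
  have hj0 := Finsupp.mem_support_iff.1 hj
  have hij0 := hex i j hji.symm hi0 hj0
  obtain ⟨k, hk, hki, hkj⟩ : ∃ k ∈ (b.repr x).support, k ≠ i ∧ k ≠ j := by
    by_contra! h
    have h2 : (b.repr x).support = {i, j} := by
      ext k
      rw [Finset.mem_insert, Finset.mem_singleton]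
      constructor
      · intro hk
        by_cases hki : k = i
        · exact Or.inl hki
        · exact Or.inr (h k hk hki)
      · rintro (rfl | rfl) <;> assumption
    rw [h2, Finset.sum_pair hji.symm] at hself'
    exact hx (hself'.trans hij0)
  have hk0 := Finsupp.mem_support_iff.1 hk
  have hik0 := hex i k hki.symm hi0 hk0
  have hjk0 := hex j k hkj.symm hj0 hk0
  have ha : b.repr x i ^ (r + 1) ≠ 0 := pow_ne_zero _ hi0
  have h20 : (2 : F) = 0 := by
    have : (2 : F) * b.repr x i ^ (r + 1) = 0 := by linear_combination hij0 + hik0 - hjk0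
    rcases mul_eq_zero.1 this with h | h
    · exact h
    · exact absurd h ha
  obtain ⟨l, hl, hl0, hl1⟩ := exists_lam hc hr
  obtain ⟨u, hu⟩ := exists_trace hc (n := l + l⁻¹) (by rw [add_pow_r hc, inv_pow, hl])
  set α := b.repr x i with hα
  set β := b.repr x j with hβ
  have hab : α ^ (r + 1) = β ^ (r + 1) := by linear_combination hij0 - β ^ (r + 1) * h20
  have hq : (α / β) ^ (r + 1) = 1 := by
    rw [div_pow, hab, div_self (pow_ne_zero _ hj0)]
  have hll : l * l⁻¹ = 1 := mul_inv_cancel₀ hl0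
  have hlu : (l + u) ^ r = l + u ^ r := by rw [add_pow_r hc, hl]
  have hv1 : (((l + u) * (α / β)) ^ r) ^ (r + 1) = (l + u ^ r) * (l + u) := by
    have : (((l + u) * (α / β)) ^ r) ^ (r + 1) = ((l + u) * (α / β)) ^ (r + 1) := by
      rw [pow_succ (_ ^ r), pow_r_pow_r hc, ← pow_succ']
    rw [this, mul_pow, hq, mul_one, pow_succ, hlu]
  have huv : u ^ (r + 1) + (((l + u) * (α / β)) ^ r) ^ (r + 1) = 1 := by
    rw [hv1, pow_succ]
    linear_combination l * hu + (u * u ^ r + l * l) * h20 + hll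
  have hxi := hxT i hi0
  have hxj := hxT j hj0
  have hmem := plE_MT hΦ hb hji.symm (hM i hxi j hxj hji.symm) hxi hxj huv
  set g := plE b r hji.symm hc huv with hg
  have hr1 : ∀ k, b.repr (g x) k = if k = i then l * α else if k = j then l * β else b.repr x k := by
    intro k
    rw [repr_plE hc b hji.symm huv, pow_r_pow_r hc]
    have e3 : (l + u) * (α / β) * β = (l + u) * α := by field_simp
    by_cases hki : k = i
    · rw [if_pos hki, if_pos hki, e3]
      linear_combination (-(l * α)) * h20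
    · rw [if_neg hki, if_neg hki]
      by_cases hkj : k = j
      · rw [if_pos hkj, if_pos hkj, mul_pow, hlu, div_pow]
        have e4 : α ^ r / β ^ r * α = β := by
          rw [div_mul_eq_mul_div, ← pow_succ, hab, pow_succ, mul_comm, mul_div_assoc, div_self (pow_ne_zero _ hj0),
            mul_one]
        linear_combination (l + u ^ r) * e4 + (u ^ r * β) * h20
      · rw [if_neg hkj, if_neg hkj]
  have hne : ∀ k, b.repr (g x) k ≠ 0 ↔ b.repr x k ≠ 0 := by
    intro k
    rw [hr1]
    by_cases hki : k = i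
    · subst hki
      rw [if_pos rfl]
      exact ⟨fun _ => hi0, fun _ => mul_ne_zero hl0 hi0⟩
    · rw [if_neg hki]
      by_cases hkj : k = j
      · subst hkj
        rw [if_pos rfl]
        exact ⟨fun _ => hj0, fun _ => mul_ne_zero hl0 hj0⟩
      · rw [if_neg hkj]
  have hsupp : (b.repr (g x)).support = (b.repr x).support := by
    ext k
    rw [Finsupp.mem_support_iff, Finsupp.mem_support_iff, hne]
  obtain ⟨m, hm, t, ht, d, hd⟩ := case1 (g x) (fun k hk => hxT k ((hne k).1 hk)) (by rw [hsupp, hn])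
    (by rw [hmem.2.1.1]; exact hx) ⟨i, k, hki.symm, (hne i).2 hi0, (hne k).2 hk0, by
      rw [hr1, hr1, if_pos rfl, if_neg hki, if_neg hkj, mul_pow]
      have e5 : l ^ (r + 1) = l * l := by rw [pow_succ, hl]
      rw [e5]
      have e6 : l * l * α ^ (r + 1) + b.repr x k ^ (r + 1) = (l - 1) * (l - 1) * α ^ (r + 1) := by
        linear_combination hik0 + (l * α ^ (r + 1) - α ^ (r + 1)) * h20
      rw [e6]
      exact mul_ne_zero (mul_ne_zero (sub_ne_zero.2 hl1) (sub_ne_zero.2 hl1)) ha⟩
  exact ⟨m * g, (MT Φ b M T).mul_mem hm hmem, t, ht, d, hd⟩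

/-- all isometries of determinant one supported on `T` -/
theorem full [Fintype ι] [DecidableEq ι] (hΦ : IsHerm r Φ) (hr : 2 < r) {b : Module.Basis ι F V} (hb : ON Φ b)
    {M : Subgroup (V ≃ₗ[F] V)} (hM : ∀ i j, i ≠ j → HasP Φ b M i j) :
    ∀ n : ℕ, ∀ T : Finset ι, T.card = n + 2 → ∀ g ∈ Φ.Iso, LinearMap.det (g : V →ₗ[F] V) = 1 →
      (∀ k ∉ T, g (b k) = b k) → g ∈ M := by
  have hc := hΦ.card
  have hr0 : r ≠ 0 := by omega
  intro n
  induction n with
  | zero =>
    intro T hT g hg hd hk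
    obtain ⟨i, j, hij, rfl⟩ := Finset.card_eq_two.1 hT
    refine hM i j hij g hg hd fun k hi hj => hk k ?_
    rw [Finset.mem_insert, Finset.mem_singleton, not_or]
    exact ⟨hi, hj⟩
  | succ n ih =>
    intro T hT g hg hd hk
    have hTM : ∀ i ∈ (T : Set ι), ∀ j ∈ (T : Set ι), i ≠ j → HasP Φ b M i j := fun i _ j _ h => hM i j h
    obtain ⟨t, ht⟩ : T.Nonempty := Finset.card_pos.1 (by omega)
    obtain ⟨s, hs⟩ : (T.erase t).Nonempty := Finset.card_pos.1 (by rw [Finset.card_erase_of_mem ht]; omega)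
    obtain ⟨hst, hsT⟩ := Finset.mem_erase.1 hs
    have hB : Φ.B (g (b t)) (g (b t)) = 1 := by rw [hg.1, hb.2]
    have hxT : ∀ k, b.repr (g (b t)) k ≠ 0 → k ∈ (T : Set ι) := by
      intro k hk'
      by_contra hkT
      apply hk'
      have hkT' : k ∉ T := hkT
      have h1 : Φ.B (g (b t)) (b k) = 0 := by
        have h2 := hg.1 (b t) (b k)
        rw [hk k hkT'] at h2
        rw [h2]
        exact hb.1 t k (fun h => hkT' (h ▸ ht))
      have h2 : ∀ x l, Φ.B x (b l) = b.repr x l := by
        intro x l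
        have := Module.Finite.of_basis b
        conv_lhs => rw [← b.sum_repr x]
        rw [B_sum_left, Finset.sum_eq_single l]
        · rw [Φ.smul_left, hb.2, mul_one]
        · intro k _ hk
          rw [Φ.smul_left, hb.1 k l hk, mul_zero]
        · intro h; exact absurd (Finset.mem_univ _) h
      rw [← h2, h1]
    obtain ⟨m, hm, t', ht', c, hmc⟩ := move hΦ hr hb hTM _ (g (b t)) hxT rfl (by rw [hB]; exact one_ne_zero)
    -- move `b t'` to `b t`
    obtain ⟨m₂, hm₂, hm₂c⟩ : ∃ m₂ ∈ MT Φ b M (T : Set ι), m₂ (g (b t)) = c • b t := by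
      by_cases h : t' = t
      · exact ⟨m, hm, by rw [hmc, h]⟩
      · have h01 : (0 : F) ^ (r + 1) + 1 ^ (r + 1) = 1 := by
          rw [zero_pow (by omega), one_pow, zero_add]
        refine ⟨plE b r h hc h01 * m, (MT Φ b M (T : Set ι)).mul_mem (plE_MT hΦ hb h (hM _ _ h) ht' ht h01) hm, ?_⟩
        show plE b r h hc h01 (m (g (b t))) = _
        rw [hmc, map_smul]
        have : plE b r h hc h01 (b t') = (0 : F) • b t' + (1 : F) • b t := pl_i b r t' t 0 1
        rw [this, zero_smul, one_smul, zero_add]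
    have hcn : c ^ (r + 1) = 1 := by
      have h1 : Φ.B (m₂ (g (b t))) (m₂ (g (b t))) = 1 := by rw [hm₂.2.1.1, hB]
      rw [hm₂c, Φ.smul_left, Φ.smul_right, hb.2, hΦ.s, mul_one] at h1
      rw [pow_succ', h1]
    have hc0 : c ≠ 0 := by
      rintro rfl
      rw [zero_pow (by omega)] at hcn
      exact zero_ne_one hcn
    have hts : t ≠ s := hst.symm
    have huv : (c⁻¹) ^ (r + 1) + (0 : F) ^ (r + 1) = 1 := by
      rw [zero_pow (by omega), add_zero, inv_pow, hcn, inv_one]
    have hm₃ := plE_MT hΦ hb hts (hM _ _ hts) ht hsT huv (T := (T : Set ι))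
    set m₃ := plE b r hts hc huv with hm₃'
    have he : m₃ (c • b t) = b t := by
      rw [map_smul]
      have : m₃ (b t) = c⁻¹ • b t + (0 : F) • b s := pl_i b r t s _ _
      rw [this, zero_smul, add_zero, smul_smul, mul_inv_cancel₀ hc0, one_smul]
    have hm₄ : m₃ * m₂ ∈ MT Φ b M (T : Set ι) := (MT Φ b M (T : Set ι)).mul_mem hm₃ hm₂
    have h5 : m₃ * m₂ * g ∈ M := by
      refine ih (T.erase t) (by rw [Finset.card_erase_of_mem ht]; omega) _ (Φ.Iso.mul_mem hm₄.2.1 hg) ?_ fun k hk' => ?_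
      · rw [det_mul', hm₄.2.2.1, hd, one_mul]
      · show m₃ (m₂ (g (b k))) = b k
        by_cases hkt : k = t
        · subst hkt
          rw [hm₂c, he]
        · have hkT : k ∉ T := fun h => hk' (Finset.mem_erase.2 ⟨hkt, h⟩)
          rw [hk k hkT]
          exact hm₄.2.2.2 k hkT
    have h6 : g = (m₃ * m₂)⁻¹ * (m₃ * m₂ * g) := by group
    rw [h6]
    exact M.mul_mem (M.inv_mem hm₄.1) h5

/-- **Generation of `SU(V)`**, orthonormal basis -/
theorem phan_ON (hΦ : IsHerm r Φ) (hr : 2 < r) {b : Module.Basis ι F V} (hb : ON Φ b)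
    {M : Subgroup (V ≃ₗ[F] V)} (hconn : ∀ i j, Relation.ReflTransGen (HasP Φ b M) i j) :
    ∀ g ∈ Φ.Iso, LinearMap.det (g : V →ₗ[F] V) = 1 → g ∈ M := by
  classical
  have := Fintype.ofFinite ι
  have := Module.Finite.of_basis b
  have hM : ∀ i j, i ≠ j → HasP Φ b M i j := fun i j hij => HasP.of_conn hΦ hb (hconn i j) hij
  intro g hg hd
  rcases Nat.lt_or_ge (Fintype.card ι) 2 with h | h
  · have hg1 : g = 1 := by
      rcases Nat.eq_zero_or_pos (Fintype.card ι) with h0 | h0
      · have := Fintype.card_eq_zero_iff.1 h0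
        refine LinearEquiv.toLinearMap_injective (b.ext fun k => ?_)
        exact (IsEmpty.false k).elim
      · obtain ⟨t, ht⟩ := Fintype.card_eq_one_iff.1 (by omega : Fintype.card ι = 1)
        have h1 : (g : V →ₗ[F] V) = (b.repr (g (b t)) t) • LinearMap.id := by
          refine b.ext fun k => ?_
          rw [ht k]
          show g (b t) = (b.repr (g (b t)) t) • b t
          conv_lhs => rw [← b.sum_repr (g (b t))]
          refine Finset.sum_eq_single t (fun k _ hk => absurd (ht k) hk) (fun h => absurd (Finset.mem_univ _) h)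
        have h2 : Module.finrank F V = 1 := by
          rw [Module.finrank_eq_card_basis b]; omega
        rw [h1, LinearMap.det_smul, LinearMap.det_id, mul_one, h2, pow_one] at hd
        rw [hd, one_smul] at h1
        exact LinearEquiv.toLinearMap_injective h1
    rw [hg1]
    exact M.one_mem
  · obtain ⟨n, hn⟩ : ∃ n, Fintype.card ι = n + 2 := ⟨_, (Nat.sub_add_cancel h).symm⟩
    exact full hΦ hr hb hM n Finset.univ (by rw [Finset.card_univ, hn]) g hg hd fun k hk =>
      absurd (Finset.mem_univ k) hk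

/-- **Generation of `SU(V)`** by the groups `SU₂` of pairs of an orthogonal basis -/
theorem phan (hΦ : IsHerm r Φ) (hr : 2 < r) (b : Module.Basis ι F V) (hb : ∀ i j, i ≠ j → Φ.B (b i) (b j) = 0)
    (M : Subgroup (V ≃ₗ[F] V)) (hconn : ∀ i j, Relation.ReflTransGen (HasP Φ b M) i j) :
    ∀ g ∈ Φ.Iso, LinearMap.det (g : V →ₗ[F] V) = 1 → g ∈ M := by
  classical
  have := Fintype.ofFinite ι
  have := Module.Finite.of_basis b
  have hc := hΦ.card
  have hN : ∀ i, Φ.B (b i) (b i) ≠ 0 := by
    intro i h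
    have h1 : b i = 0 := by
      refine hΦ.nd _ fun y => ?_
      rw [← b.sum_repr y, B_sum_right]
      refine Finset.sum_eq_zero fun j _ => ?_
      rw [Φ.smul_right]
      by_cases hij : i = j
      · subst hij; rw [h, mul_zero]
      · rw [hb i j hij, mul_zero]
    exact b.ne_zero i h1
  have hw : ∀ i, ∃ c : F, c ^ (r + 1) = Φ.B (b i) (b i) := fun i =>
    exists_norm hc (by rw [← hΦ.symm])
  choose w hw using hw
  have hw0 : ∀ i, w i ≠ 0 := by
    intro i h
    have := hw i
    rw [h, zero_pow (by omega)] at this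
    exact hN i this.symm
  let b' := b.unitsSMul fun i => (Units.mk0 (w i) (hw0 i))⁻¹
  have hb' : ∀ i, b' i = (w i)⁻¹ • b i := by
    intro i
    rw [Module.Basis.unitsSMul_apply, Units.smul_def, Units.val_inv_eq_inv_val]
    rfl
  have hON : ON Φ b' := by
    refine ⟨fun i j hij => ?_, fun i => ?_⟩
    · rw [hb', hb', Φ.smul_left, Φ.smul_right, hb i j hij, mul_zero, mul_zero]
    · rw [hb', Φ.smul_left, Φ.smul_right, hΦ.s, ← hw, pow_succ', inv_pow]
      have := pow_ne_zero r (hw0 i)
      field_simp [hw0 i]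
  have hmono : ∀ i j, HasP Φ b M i j → HasP Φ b' M i j := by
    intro i j h g hg hd hk
    refine h g hg hd fun k hi hj => ?_
    have := hk k hi hj
    rw [hb', map_smul] at this
    have h2 := congrArg (fun y => (w k) • y) this
    simp only [smul_smul, mul_inv_cancel₀ (hw0 k), one_smul] at h2
    exact h2
  refine phan_ON hΦ hr hON fun i j => ?_
  have h := hconn i j
  induction h with
  | refl => exact Relation.ReflTransGen.refl
  | tail _ h2 ih => exact ih.tail (hmono _ _ h2)

end Main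

end Basis

end Cfsg.Agent.H557.Gp
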