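import Cfsg.Agent.H557.Gp.NcBlocks
import Cfsg.Agent.H557.Gp.Phan

/-! # S2187, non-commuting preimage: the decomposition, inductive step (helper557) -/

section
/-!
# S2187, non-commuting preimage: the decomposition `V = ⨁ f^j V₀`

`a, f` linear automorphisms with `a^p = 1`, `a f = ζ f a`, `f^p` scalar, `V₀ = C_V(a)`.  `psi : (Fin p → V₀) ≃ V`,
`lft T` : the operator `f^j v ↦ f^j (T v)`.
-/

set_option autoImplicit false
set_option linter.unusedSectionVars false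
set_option linter.unusedVariables false

namespace Cfsg.Agent.H557.Gp

open Cfsg.Agent.H847.Bs Cfsg.Agent.H557.Bs

universe u v

variable {F : Type u} {V : Type v} [Field F] [AddCommGroup V] [Module F V]

/-- an automorphism of order `p` -/
structure Rt (p : ℕ) (ζ : Fˣ) (a : V ≃ₗ[F] V) : Prop where
  hp : p.Prime
  z : ζ ^ p = 1
  z1 : ζ ≠ 1
  ap : a ^ p = 1

/-- a Heisenberg pair -/
structure Pr (p : ℕ) (ζ : Fˣ) (a f : V ≃ₗ[F] V) : Prop extends Rt p ζ a where
  af : ∀ v, a (f v) = (ζ : F) • f (a v)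

/-- the fixed space of `a` -/
def V0 (a : V ≃ₗ[F] V) : Submodule F V where
  carrier := {v | a v = v}
  zero_mem' := map_zero a
  add_mem' := fun {x y} hx hy => by
    show a (x + y) = x + y
    rw [map_add, hx, hy]
  smul_mem' := fun c x hx => by
    show a (c • x) = c • x
    rw [map_smul, hx]

theorem mem_V0 {a : V ≃ₗ[F] V} {v : V} : v ∈ V0 a ↔ a v = v := Iff.rfl

section

variable {p : ℕ} {ζ : Fˣ} {a f : V ≃ₗ[F] V}

theorem Rt.order (P : Rt p ζ a) : orderOf ζ = p := orderOf_eq_prime (hp := ⟨P.hp⟩) P.z P.z1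

theorem Rt.pow_inj (P : Rt p ζ a) {i j : ℕ} (hi : i < p) (hj : j < p) (h : ζ ^ i = ζ ^ j) : i = j := by
  have h1 := pow_inj_mod.1 h
  rwa [P.order, Nat.mod_eq_of_lt hi, Nat.mod_eq_of_lt hj] at h1

theorem Rt.geom (P : Rt p ζ a) {x : Fˣ} (hx : x ^ p = 1) (hx1 : x ≠ 1) : ∑ k ∈ Finset.range p, (x : F) ^ k = 0 := by
  have h1 : (x : F) ≠ 1 := fun h => hx1 (Units.ext h)
  have h2 := geom_sum_mul (x : F) p
  rw [← Units.val_pow_eq_pow_val, hx, Units.val_one, sub_self] at h2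
  exact (mul_eq_zero.1 h2).resolve_right (sub_ne_zero.2 h1)

theorem Rt.p_ne (P : Rt p ζ a) : (p : F) ≠ 0 := by
  intro h0
  have h1 := P.geom P.z P.z1
  -- `(X - 1)^p = X^p - 1` in characteristic `p`
  have hchar : CharP F p := by
    obtain ⟨q, hq⟩ := CharP.exists F
    have h2 : q ∣ p := (CharP.cast_eq_zero_iff F q p).1 h0
    rcases (Nat.dvd_prime P.hp).1 h2 with h3 | h3
    · exfalso
      rw [h3] at hq
      exact one_ne_zero ((Nat.cast_one (R := F)).symm.trans ((hq.cast_eq_zero_iff 1).2 (dvd_refl 1)))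
    · rwa [h3] at hq
  have : Fact p.Prime := ⟨P.hp⟩
  have h3 : ((ζ : F) - 1) ^ p = 0 := by
    rw [sub_pow_char, one_pow, ← Units.val_pow_eq_pow_val, P.z, Units.val_one, sub_self]
  exact P.z1 (Units.ext (sub_eq_zero.1 (pow_eq_zero_iff P.hp.ne_zero |>.1 h3)))

theorem Pr.a_pow_f (P : Pr p ζ a f) (j : ℕ) (v : V) : a ((f ^ j) v) = (ζ : F) ^ j • (f ^ j) (a v) := by
  induction j generalizing v with
  | zero => rw [pow_zero, pow_zero, one_smul]; rfl
  | succ j ih =>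
    rw [coe_pow_apply, P.af, ih, map_smul, smul_smul, coe_pow_apply, pow_succ']

theorem Pr.a_V0 (P : Pr p ζ a f) (j : ℕ) {v : V} (hv : v ∈ V0 a) : a ((f ^ j) v) = (ζ : F) ^ j • (f ^ j) v := by
  rw [P.a_pow_f, mem_V0.1 hv]

theorem Rt.a_pow_eig (P : Rt p ζ a) {j : ℕ} {w : V} (hw : a w = (ζ : F) ^ j • w) (k : ℕ) :
    (a ^ k) w = ((ζ : F) ^ j) ^ k • w := by
  induction k with
  | zero => rw [pow_zero, pow_zero, one_smul]; rfl
  | succ k ih => rw [coe_pow_apply, ih, map_smul, hw, smul_smul, pow_succ]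

/-- the projection to the eigenspace of `a` for `ζ^j` -/
noncomputable def pj (p : ℕ) (ζ : Fˣ) (a : V ≃ₗ[F] V) (j : ℕ) : V →ₗ[F] V :=
  (p : F)⁻¹ • ∑ k ∈ Finset.range p, (((ζ⁻¹ : Fˣ) : F) ^ j) ^ k • ((a ^ k : V ≃ₗ[F] V) : V →ₗ[F] V)

theorem pj_apply (j : ℕ) (v : V) : pj p ζ a j v =
    (p : F)⁻¹ • ∑ k ∈ Finset.range p, (((ζ⁻¹ : Fˣ) : F) ^ j) ^ k • (a ^ k) v := by
  rw [pj, LinearMap.smul_apply, LinearMap.sum_apply]
  rfl

theorem Rt.pj_eig (P : Rt p ζ a) {i j : ℕ} (hi : i < p) (hj : j < p) {w : V} (hw : a w = (ζ : F) ^ i • w) :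
    pj p ζ a j w = if i = j then w else 0 := by
  rw [pj_apply]
  have h1 : ∀ k, (((ζ⁻¹ : Fˣ) : F) ^ j) ^ k • (a ^ k) w = (((ζ⁻¹ ^ j * ζ ^ i : Fˣ) : F) ^ k) • w := by
    intro k
    rw [P.a_pow_eig hw, smul_smul, ← mul_pow]
    push_cast
    rfl
  rw [Finset.sum_congr rfl fun k _ => h1 k, ← Finset.sum_smul]
  split_ifs with h
  · subst h
    have h2 : (ζ⁻¹ ^ i * ζ ^ i : Fˣ) = 1 := by rw [inv_pow, inv_mul_cancel]
    rw [h2]
    simp only [Units.val_one, one_pow, Finset.sum_const, Finset.card_range, nsmul_eq_mul, mul_one]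
    rw [smul_smul, inv_mul_cancel₀ P.p_ne, one_smul]
  · have h2 : (ζ⁻¹ ^ j * ζ ^ i : Fˣ) ≠ 1 := by
      intro h2
      apply h
      rw [inv_pow, inv_mul_eq_one] at h2
      exact (P.pow_inj hj hi h2).symm
    rw [P.geom ?_ h2, zero_smul, smul_zero]
    rw [mul_pow, ← pow_mul, ← pow_mul, mul_comm j, mul_comm i, pow_mul, pow_mul, P.z, inv_pow, P.z, inv_one, one_pow,
      one_pow, one_mul]

theorem Rt.a_pj (P : Rt p ζ a) (j : ℕ) (v : V) : a (pj p ζ a j v) = (ζ : F) ^ j • pj p ζ a j v := by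
  rw [pj_apply, map_smul, map_sum, smul_comm]
  congr 1
  rw [Finset.smul_sum]
  obtain ⟨n, hn⟩ : ∃ n, p = n + 1 := ⟨p - 1, by have := P.hp.pos; omega⟩
  have h1 : ∀ k, a ((((ζ⁻¹ : Fˣ) : F) ^ j) ^ k • (a ^ k) v) =
      (ζ : F) ^ j • ((((ζ⁻¹ : Fˣ) : F) ^ j) ^ (k + 1) • (a ^ (k + 1)) v) := by
    intro k
    rw [map_smul, coe_pow_apply, smul_smul]
    congr 1
    have : (ζ : F) ^ j * ((ζ⁻¹ : Fˣ) : F) ^ j = 1 := by
      rw [← mul_pow, ← Units.val_mul, mul_inv_cancel, Units.val_one, one_pow]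
    rw [pow_succ' (((ζ⁻¹ : Fˣ) : F) ^ j), ← mul_assoc, this, one_mul]
  rw [Finset.sum_congr rfl fun k _ => h1 k]
  rw [hn, Finset.sum_range_succ, Finset.sum_range_succ', add_comm]
  rw [add_comm (∑ k ∈ Finset.range n, _)]
  congr 1
  rw [← hn, P.ap, pow_zero, pow_zero, ← pow_mul, mul_comm, pow_mul]
  have : ((ζ⁻¹ : Fˣ) : F) ^ p = 1 := by
    rw [← Units.val_pow_eq_pow_val, inv_pow, P.z, inv_one, Units.val_one]
  rw [this, one_pow]

theorem Rt.sum_pj (P : Rt p ζ a) (v : V) : ∑ j ∈ Finset.range p, pj p ζ a j v = v := by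
  simp only [pj_apply]
  rw [← Finset.smul_sum, Finset.sum_comm]
  have h1 : ∀ k ∈ Finset.range p, ∑ j ∈ Finset.range p, (((ζ⁻¹ : Fˣ) : F) ^ j) ^ k • (a ^ k) v =
      if k = 0 then (p : F) • v else 0 := by
    intro k hk
    rw [← Finset.sum_smul]
    have h2 : ∀ j, (((ζ⁻¹ : Fˣ) : F) ^ j) ^ k = (((ζ⁻¹ ^ k : Fˣ)) : F) ^ j := by
      intro j
      rw [← pow_mul, mul_comm, pow_mul]; push_cast; rfl
    rw [Finset.sum_congr rfl fun j _ => h2 j]
    split_ifs with h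
    · subst h
      simp
    · rw [P.geom ?_ ?_, zero_smul]
      · rw [← pow_mul, mul_comm, pow_mul, inv_pow, P.z, inv_one, one_pow]
      · intro h2
        rw [inv_pow, inv_eq_one] at h2
        have h3 := P.pow_inj (Finset.mem_range.1 hk) P.hp.pos (h2.trans (pow_zero ζ).symm)
        exact h h3
  rw [Finset.sum_congr rfl h1, Finset.sum_ite_eq' (Finset.range p) 0, if_pos (Finset.mem_range.2 P.hp.pos), smul_smul,
    inv_mul_cancel₀ P.p_ne, one_smul]

/-- `v ↦ ∑ f^j v_j` -/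
def psiL (p : ℕ) (a f : V ≃ₗ[F] V) : (Fin p → V0 a) →ₗ[F] V where
  toFun v := ∑ j : Fin p, (f ^ (j : ℕ)) (v j : V)
  map_add' v w := by
    rw [← Finset.sum_add_distrib]
    exact Finset.sum_congr rfl fun j _ => by rw [Pi.add_apply, Submodule.coe_add, map_add]
  map_smul' c v := by
    rw [RingHom.id_apply, Finset.smul_sum]
    exact Finset.sum_congr rfl fun j _ => by rw [Pi.smul_apply, Submodule.coe_smul, map_smul]

theorem Pr.bij (P : Pr p ζ a f) : Function.Bijective (psiL p a f) := by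
  constructor
  · rw [← LinearMap.ker_eq_bot, LinearMap.ker_eq_bot']
    intro v hv
    funext i
    have h1 : pj p ζ a i (psiL p a f v) = (f ^ (i : ℕ)) (v i : V) := by
      show pj p ζ a i (∑ j : Fin p, (f ^ (j : ℕ)) (v j : V)) = _
      rw [map_sum, Finset.sum_eq_single i]
      · rw [P.pj_eig i.2 i.2 (P.a_V0 i (v i).2), if_pos rfl]
      · intro j _ hj
        rw [P.pj_eig j.2 i.2 (P.a_V0 j (v j).2), if_neg (fun h => hj (Fin.ext h))]
      · intro h; exact absurd (Finset.mem_univ _) h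
    rw [hv, map_zero] at h1
    have h2 := (LinearEquiv.map_eq_zero_iff _).1 h1.symm
    exact Subtype.ext h2
  · intro v
    have hmem : ∀ j : ℕ, (f ^ j).symm (pj p ζ a j v) ∈ V0 a := by
      intro j
      rw [mem_V0]
      apply (f ^ j).injective
      have h1 := P.a_pow_f j ((f ^ j).symm (pj p ζ a j v))
      rw [LinearEquiv.apply_symm_apply, P.a_pj] at h1
      have h2 : ((ζ : F) ^ j) ≠ 0 := pow_ne_zero _ ζ.ne_zero
      have h3 := smul_right_injective V h2 h1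
      rw [LinearEquiv.apply_symm_apply]
      exact h3.symm
    refine ⟨fun j => ⟨_, hmem j⟩, ?_⟩
    show ∑ j : Fin p, (f ^ (j : ℕ)) ((f ^ (j : ℕ)).symm (pj p ζ a j v)) = v
    conv_rhs => rw [← P.sum_pj v, Finset.sum_range]
    refine Finset.sum_congr rfl fun j _ => ?_
    rw [LinearEquiv.apply_symm_apply]

/-- `(Fin p → V₀) ≃ V` -/
noncomputable def psi (P : Pr p ζ a f) : (Fin p → V0 a) ≃ₗ[F] V := LinearEquiv.ofBijective (psiL p a f) P.bij

theorem psi_apply (P : Pr p ζ a f) (v : Fin p → V0 a) : psi P v = ∑ j : Fin p, (f ^ (j : ℕ)) (v j : V) := rfl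

theorem psi_single (P : Pr p ζ a f) (j : Fin p) (v : V0 a) : psi P (Pi.single j v) = (f ^ (j : ℕ)) (v : V) := by
  rw [psi_apply, Finset.sum_eq_single j]
  · rw [Pi.single_eq_same]
  · intro i _ hi
    rw [Pi.single_eq_of_ne hi]
    exact map_zero _
  · intro h; exact absurd (Finset.mem_univ _) h

/-- operators are determined by the values on `f^j V₀` -/
theorem Pr.ext (P : Pr p ζ a f) {S T : Module.End F V} (h : ∀ (j : Fin p) (v : V0 a), S ((f ^ (j : ℕ)) (v : V)) =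
    T ((f ^ (j : ℕ)) (v : V))) : S = T := by
  refine LinearMap.ext fun x => ?_
  obtain ⟨v, rfl⟩ := (psi P).surjective x
  rw [psi_apply, map_sum, map_sum]
  exact Finset.sum_congr rfl fun j _ => h j (v j)

/-- lifting of operators -/
noncomputable def lft (P : Pr p ζ a f) : Module.End F (V0 a) →ₗ[F] Module.End F V where
  toFun T := (psi P : (Fin p → V0 a) →ₗ[F] V) ∘ₗ (T.compLeft (Fin p)) ∘ₗ ((psi P).symm : V →ₗ[F] (Fin p → V0 a))
  map_add' S T := by
    ext x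
    simp only [LinearMap.comp_apply, LinearMap.add_apply]
    rw [← map_add]
    rfl
  map_smul' c T := by
    ext x
    simp only [LinearMap.comp_apply, LinearMap.smul_apply, RingHom.id_apply]
    rw [← map_smul]
    rfl

theorem lft_apply (P : Pr p ζ a f) (T : Module.End F (V0 a)) (j : Fin p) (v : V0 a) :
    lft P T ((f ^ (j : ℕ)) (v : V)) = (f ^ (j : ℕ)) (T v : V) := by
  show psi P ((T.compLeft (Fin p)) ((psi P).symm ((f ^ (j : ℕ)) (v : V)))) = _
  rw [← psi_single P j v, LinearEquiv.symm_apply_apply]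
  have : (T.compLeft (Fin p)) (Pi.single j v) = Pi.single j (T v) := by
    funext i
    rw [LinearMap.compLeft_apply]
    show T ((Pi.single j v : Fin p → V0 a) i) = _
    by_cases h : i = j
    · subst h; rw [Pi.single_eq_same, Pi.single_eq_same]
    · rw [Pi.single_eq_of_ne h, Pi.single_eq_of_ne h, map_zero]
  rw [this, psi_single]

theorem lft_a (P : Pr p ζ a f) (T : Module.End F (V0 a)) (x : V) : a (lft P T x) = lft P T (a x) := by
  have h : ((a : V →ₗ[F] V) * lft P T) = lft P T * (a : V →ₗ[F] V) := by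
    refine P.ext fun j v => ?_
    show a (lft P T _) = lft P T (a _)
    rw [lft_apply, P.a_V0 j (T v).2, P.a_V0 j v.2, map_smul, lft_apply]
  exact LinearMap.congr_fun h x

theorem lft_f (P : Pr p ζ a f) {β : F} (hβ : ∀ v, (f ^ p) v = β • v) (T : Module.End F (V0 a)) (x : V) :
    f (lft P T x) = lft P T (f x) := by
  have h : ((f : V →ₗ[F] V) * lft P T) = lft P T * (f : V →ₗ[F] V) := by
    refine P.ext fun j v => ?_
    show f (lft P T _) = lft P T (f _)
    rw [lft_apply, ← coe_pow_apply, ← coe_pow_apply]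
    rcases Nat.lt_or_ge ((j : ℕ) + 1) p with h | h
    · exact (lft_apply P T ⟨(j : ℕ) + 1, h⟩ v).symm
    · have hj : (j : ℕ) + 1 = p := by have := j.2; omega
      rw [hj, hβ, hβ, map_smul]
      congr 1
      exact (lft_apply P T ⟨0, P.hp.pos⟩ v).symm
  exact LinearMap.congr_fun h x

end

end Cfsg.Agent.H557.Gp

end

section
/-!
# S2187, non-commuting preimage: the monomial basis, inductive step

`Good p ζ N ν Φ E b` : the basis `b`, indexed by `I × Y`, is adapted to `E`.  `Good.step` : from `V₀ = C_V(a)` to `V`.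
-/

set_option autoImplicit false
set_option linter.unusedSectionVars false
set_option linter.unusedVariables false

namespace Cfsg.Agent.H557.Gp

open Cfsg Cfsg.Geo
open scoped MatrixGroups Matrix
open Cfsg.Agent.H847.Bs Cfsg.Agent.H557.Bs
open Cfsg.Agent.H321.Ker

universe u v

variable {F : Type u} {V : Type v} [Field F] [AddCommGroup V] [Module F V]

/-- `E` contains the scalar isometries and is elementary abelian modulo scalars -/
structure EA (p : ℕ) (Φ : Frm F V) (E : Subgroup (V ≃ₗ[F] V)) : Prop where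
  le : E ≤ Φ.Iso
  scal : ∀ g ∈ Φ.Iso, (∃ c : F, ∀ v, g v = c • v) → g ∈ E
  pow : ∀ x ∈ E, ∃ c : F, ∀ v, (x ^ p) v = c • v
  comm : ∀ x ∈ E, ∀ y ∈ E, ∃ c : F, ∀ v, x (y v) = c • y (x v)

/-- no invariant totally isotropic subspaces -/
def An (Φ : Frm F V) (E : Subgroup (V ≃ₗ[F] V)) : Prop :=
  ∀ W : Submodule F V, (∀ f ∈ E, ∀ w ∈ W, f w ∈ W) → Φ.TI W → W = ⊥ ∨ W = ⊤

section Basis

variable {X : Type} (b : Module.Basis X F V)

/-- diagonal operators -/
noncomputable def dgo (l : X → F) : Module.End F V := b.constr F fun x => l x • b x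

theorem dgo_apply (l : X → F) (x : X) : dgo b l (b x) = l x • b x := b.constr_basis _ _ _

/-- edges -/
def Edge (p : ℕ) [NeZero p] (ζ : Fˣ) (N : Subgroup Fˣ) (E : Subgroup (V ≃ₗ[F] V)) (x x' : X) : Prop :=
  ∃ (W : Type) (_ : Fintype W) (_ : DecidableEq W) (κ : X ≃ Fin p × W) (β : Fˣ), β ∈ N ∧ (κ x).2 = (κ x').2 ∧
    Chart (b.reindex κ) E ζ β (κ x).2

end Basis

variable {I Y : Type} [DecidableEq I] [DecidableEq Y]

/-- the operators permuting the components -/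
noncomputable def th (b : Module.Basis (I × Y) F V) (i j : I) : Module.End F V :=
  b.constr F fun x => if x.1 = i then b (j, x.2) else 0

theorem th_apply (b : Module.Basis (I × Y) F V) (i j : I) (x : I × Y) :
    th b i j (b x) = if x.1 = i then b (j, x.2) else 0 := b.constr_basis _ _ _

/-- **adapted bases** -/
structure Good (p : ℕ) [NeZero p] (ζ : Fˣ) (N : Subgroup Fˣ) (ν : F) (Φ : Frm F V) (E : Subgroup (V ≃ₗ[F] V))
    (b : Module.Basis (I × Y) F V) : Prop where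
  gram : ∀ x x', Φ.B (b x) (b x') = if x = x' then ν else 0
  theta : ∀ i j, EO E (th b i j)
  sep : ∀ x x', x ≠ x' → ∃ s : I × Y → ℕ, EO E (dgo b fun x => ((ζ ^ s x : Fˣ) : F)) ∧ ζ ^ s x ≠ ζ ^ s x'
  conn : ∀ i y y', Relation.ReflTransGen (Edge b p ζ N E) (i, y) (i, y')

section Step

variable {p : ℕ} {ζ : Fˣ} {a f : V ≃ₗ[F] V}

/-- the operators induced on `V₀` by the elements of `E` commuting with `a` and `f` -/
def E0 (E : Subgroup (V ≃ₗ[F] V)) (a f : V ≃ₗ[F] V) : Subgroup (V0 a ≃ₗ[F] V0 a) where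
  carrier := {h | ∃ c ∈ E, (∀ v, c (a v) = a (c v)) ∧ (∀ v, c (f v) = f (c v)) ∧ ∀ v : V0 a, (h v : V) = c v}
  one_mem' := ⟨1, E.one_mem, fun _ => rfl, fun _ => rfl, fun _ => rfl⟩
  mul_mem' := by
    rintro h h' ⟨c, hc, ha, hf, hh⟩ ⟨c', hc', ha', hf', hh'⟩
    refine ⟨c * c', E.mul_mem hc hc', fun v => ?_, fun v => ?_, fun v => ?_⟩
    · show c (c' (a v)) = a (c (c' v))
      rw [ha', ha]
    · show c (c' (f v)) = f (c (c' v))
      rw [hf', hf]
    · show ((h (h' v) : V0 a) : V) = c (c' v)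
      rw [hh, hh']
  inv_mem' := by
    rintro h ⟨c, hc, ha, hf, hh⟩
    have e : ∀ v, c (c⁻¹ v) = v := fun v => c.apply_symm_apply v
    refine ⟨c⁻¹, E.inv_mem hc, fun v => ?_, fun v => ?_, fun v => ?_⟩
    · apply c.injective
      rw [e, ha, e]
    · apply c.injective
      rw [e, hf, e]
    · apply c.injective
      rw [e, ← hh]
      have : h (h⁻¹ v) = v := h.apply_symm_apply v
      rw [this]

variable {E : Subgroup (V ≃ₗ[F] V)} {Φ : Frm F V}

/-- roots of unity -/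
theorem Pr.exists_pow (P : Pr p ζ a f) {c : F} (hc : c ^ p = 1) : ∃ s : ℕ, (ζ : F) ^ s = c := by
  have h1 : IsPrimitiveRoot (ζ : F) p := by
    rw [← P.order]
    exact (IsPrimitiveRoot.orderOf ζ).map_of_injective (f := Units.coeHom F) Units.val_injective
  have : NeZero p := ⟨P.hp.ne_zero⟩
  obtain ⟨i, -, hi⟩ := h1.eq_pow_of_pow_eq_one hc
  exact ⟨i, hi⟩

/-- decomposition of the elements of `E` -/
theorem decomp (P : Pr p ζ a f) (hE : EA p Φ E) (ha : a ∈ E) (hf : f ∈ E) [Nontrivial V] {y : V ≃ₗ[F] V}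
    (hy : y ∈ E) : ∃ s t : ℕ, (∀ v, (a ^ t * (f ^ s * y)) (a v) = a ((a ^ t * (f ^ s * y)) v)) ∧
      ∀ v, (a ^ t * (f ^ s * y)) (f v) = f ((a ^ t * (f ^ s * y)) v) := by
  have ha0 : (a : V →ₗ[F] V) ≠ 0 := by
    intro h
    obtain ⟨v, hv⟩ := exists_ne (0 : V)
    exact hv ((LinearEquiv.map_eq_zero_iff a).1 (LinearMap.congr_fun h v))
  have hf0 : (f : V →ₗ[F] V) ≠ 0 := by
    intro h
    obtain ⟨v, hv⟩ := exists_ne (0 : V)
    exact hv ((LinearEquiv.map_eq_zero_iff f).1 (LinearMap.congr_fun h v))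
  -- roots of unity
  have hroot : ∀ {x y : V ≃ₗ[F] V} {c : F}, x ∈ E → y ∈ E → (∀ v, y (x v) = c • x (y v)) → c ^ p = 1 := by
    intro x y c hx hy h
    have hx0 : (x : V →ₗ[F] V) ≠ 0 := by
      intro h
      obtain ⟨v, hv⟩ := exists_ne (0 : V)
      exact hv ((LinearEquiv.map_eq_zero_iff x).1 (LinearMap.congr_fun h v))
    obtain ⟨d, hd⟩ := hE.pow y hy
    have h1 := EO.pow_left (T := (x : V →ₗ[F] V)) h p
    have h2 : ∀ v, (y ^ p) ((x : V →ₗ[F] V) v) = (1 : F) • (x : V →ₗ[F] V) ((y ^ p) v) := by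
      intro v
      rw [hd, hd, map_smul, one_smul]
    exact EO.unique hx0 h1 h2
  obtain ⟨c, hc⟩ := hE.comm y hy a ha
  obtain ⟨s, hs⟩ := P.exists_pow (hroot ha hy hc)
  have h1 : ∀ v, (f ^ s * y) (a v) = a ((f ^ s * y) v) := by
    intro v
    show (f ^ s) (y (a v)) = a ((f ^ s) (y v))
    rw [hc, P.a_pow_f, map_smul, hs]
  have hy1 : f ^ s * y ∈ E := E.mul_mem (E.pow_mem hf s) hy
  obtain ⟨d, hd⟩ := hE.comm _ hy1 f hf
  have hdp := hroot hf hy1 hd
  have hd0 : d ≠ 0 := by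
    rintro rfl
    rw [zero_pow P.hp.ne_zero] at hdp
    exact zero_ne_one hdp
  obtain ⟨t, ht⟩ := P.exists_pow (c := d⁻¹) (by rw [inv_pow, hdp, inv_one])
  have haf : ∀ (n : ℕ) (v : V), (a ^ n) (f v) = (ζ : F) ^ n • f ((a ^ n) v) := by
    intro n
    induction n with
    | zero => intro v; rw [pow_zero, pow_zero, one_smul]; rfl
    | succ n ih =>
      intro v
      rw [coe_pow_apply, ih, map_smul, P.af, smul_smul, coe_pow_apply, pow_succ]
  refine ⟨s, t, fun v => ?_, fun v => ?_⟩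
  · show (a ^ t) ((f ^ s * y) (a v)) = a ((a ^ t) ((f ^ s * y) v))
    rw [h1, ← coe_pow_apply, pow_succ]; rfl
  · show (a ^ t) ((f ^ s * y) (f v)) = f ((a ^ t) ((f ^ s * y) v))
    rw [hd, map_smul, haf, ht, smul_smul, mul_inv_cancel₀ hd0, one_smul]

/-- elements commuting with `a` and `f` induce elements of `E0` -/
theorem exists_restr {c : V ≃ₗ[F] V} (hc : c ∈ E) (ha : ∀ v, c (a v) = a (c v)) (hf : ∀ v, c (f v) = f (c v)) :
    ∃ h ∈ E0 E a f, ∀ v : V0 a, (h v : V) = c v := by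
  have h1 : ∀ v ∈ V0 a, c v ∈ V0 a := by
    intro v hv
    rw [mem_V0, ← ha, mem_V0.1 hv]
  have e : ∀ v, c (c.symm v) = v := fun v => c.apply_symm_apply v
  have h2 : ∀ v ∈ V0 a, c.symm v ∈ V0 a := by
    intro v hv
    rw [mem_V0]
    apply c.injective
    rw [ha, e, mem_V0.1 hv]
  let h : V0 a ≃ₗ[F] V0 a := LinearEquiv.ofLinearMap ((c : V →ₗ[F] V).restrict h1) ((c.symm : V →ₗ[F] V).restrict h2)
    (by ext v; exact e v) (by ext v; exact c.symm_apply_apply (v : V))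
  exact ⟨h, ⟨c, hc, ha, hf, fun v => rfl⟩, fun v => rfl⟩

/-- **lifting of eigen-operators** -/
theorem EO.lft (P : Pr p ζ a f) (hE : EA p Φ E) (ha : a ∈ E) (hf : f ∈ E) [Nontrivial V]
    {T : Module.End F (V0 a)} (hT : EO (E0 E a f) T) : EO E (lft P T) := by
  intro y hy
  obtain ⟨β, hβ⟩ := hE.pow f hf
  obtain ⟨s, t, h1, h2⟩ := decomp P hE ha hf hy
  have hc : a ^ t * (f ^ s * y) ∈ E := E.mul_mem (E.pow_mem ha t) (E.mul_mem (E.pow_mem hf s) hy)
  obtain ⟨h, hh, hhc⟩ := exists_restr (E := E) hc h1 h2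
  obtain ⟨ρ, hρ⟩ := hT h hh
  refine ⟨ρ, fun v => ?_⟩
  set c := a ^ t * (f ^ s * y) with hcdef
  have hcf : ∀ (j : ℕ) (v : V), c ((f ^ j) v) = (f ^ j) (c v) := by
    intro j
    induction j with
    | zero => intro v; rfl
    | succ j ih => intro v; rw [coe_pow_apply, h2, ih, coe_pow_apply]
  have key : ((c : V →ₗ[F] V) * Cfsg.Agent.H557.Gp.lft P T) = ρ • (Cfsg.Agent.H557.Gp.lft P T * (c : V →ₗ[F] V)) := by
    refine P.ext fun j v => ?_
    show c (Cfsg.Agent.H557.Gp.lft P T _) = ρ • Cfsg.Agent.H557.Gp.lft P T (c _)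
    rw [lft_apply, hcf, hcf, ← hhc, ← hhc, lft_apply, hρ, Submodule.coe_smul, map_smul]
  have h3 : c (Cfsg.Agent.H557.Gp.lft P T v) = ρ • Cfsg.Agent.H557.Gp.lft P T (c v) := LinearMap.congr_fun key v
  have hLa : ∀ (n : ℕ) (v : V), (a ^ n) (Cfsg.Agent.H557.Gp.lft P T v) = Cfsg.Agent.H557.Gp.lft P T ((a ^ n) v) := by
    intro n
    induction n with
    | zero => intro v; rfl
    | succ n ih => intro v; rw [coe_pow_apply, ih, lft_a, coe_pow_apply]
  have hLf : ∀ (n : ℕ) (v : V), (f ^ n) (Cfsg.Agent.H557.Gp.lft P T v) = Cfsg.Agent.H557.Gp.lft P T ((f ^ n) v) := by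
    intro n
    induction n with
    | zero => intro v; rfl
    | succ n ih => intro v; rw [coe_pow_apply, ih, lft_f P hβ, coe_pow_apply]
  have h4 : c v = (a ^ t) ((f ^ s) (y v)) := rfl
  have h5 : c (Cfsg.Agent.H557.Gp.lft P T v) = (a ^ t) ((f ^ s) (y (Cfsg.Agent.H557.Gp.lft P T v))) := rfl
  rw [h5, h4, ← hLa, ← hLf, ← map_smul, ← map_smul] at h3
  exact (f ^ s).injective ((a ^ t).injective h3)

end Step

end Cfsg.Agent.H557.Gp

end

section
/-!
# S2187, non-commuting preimage: the inductive step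

`Good.step` : from a good basis of `V₀ = C_V(a)` to a good basis of `V`.
-/

set_option autoImplicit false
set_option linter.unusedSectionVars false
set_option linter.unusedVariables false

namespace Cfsg.Agent.H557.Gp

open Cfsg Cfsg.Geo
open scoped MatrixGroups Matrix
open Cfsg.Agent.H847.Bs Cfsg.Agent.H557.Bs
open Cfsg.Agent.H321.Ker

universe u v

variable {F : Type u} {V : Type v} [Field F] [AddCommGroup V] [Module F V]
variable {I Y : Type} [DecidableEq I] [DecidableEq Y] [Fintype I] [Fintype Y]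
variable {p : ℕ} {ζ : Fˣ} {a f : V ≃ₗ[F] V} {E : Subgroup (V ≃ₗ[F] V)} {Φ : Frm F V}

/-- the lifted basis -/
noncomputable def liftb (P : Pr p ζ a f) (b0 : Module.Basis (I × Y) F (V0 a)) : Module.Basis (I × (Fin p × Y)) F V :=
  ((Pi.basis fun _ : Fin p => b0).map (psi P)).reindex
    { toFun := fun x => (x.2.1, (x.1, x.2.2))
      invFun := fun x => ⟨x.2.1, (x.1, x.2.2)⟩
      left_inv := fun _ => rfl
      right_inv := fun _ => rfl }

theorem liftb_apply (P : Pr p ζ a f) (b0 : Module.Basis (I × Y) F (V0 a)) (i : I) (j : Fin p) (y : Y) :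
    liftb P b0 (i, (j, y)) = (f ^ (j : ℕ)) (b0 (i, y) : V) := by
  rw [liftb, Module.Basis.reindex_apply, Module.Basis.map_apply]
  show psi P ((Pi.basis fun _ : Fin p => b0) ⟨j, (i, y)⟩) = _
  rw [Pi.basis_apply, psi_single]

theorem Pr.pow_f_succ (P : Pr p ζ a f) {β : F} (hβ : ∀ v, (f ^ p) v = β • v) [NeZero p] (j : Fin p) (v : V) :
    f ((f ^ (j : ℕ)) v) = (if j + 1 = 0 then β else 1) • (f ^ ((j + 1 : Fin p) : ℕ)) v := by
  rw [← coe_pow_apply, val_succ]
  rcases Nat.lt_or_ge ((j : ℕ) + 1) p with h | h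
  · rw [Nat.mod_eq_of_lt h, if_neg, one_smul]
    intro h0
    have h1 := congrArg Fin.val h0
    rw [val_succ, Nat.mod_eq_of_lt h, Fin.val_zero] at h1
    omega
  · have hj : (j : ℕ) + 1 = p := by have := j.2; omega
    rw [hj, Nat.mod_self, if_pos, hβ, pow_zero]
    · rfl
    · apply Fin.ext
      rw [val_succ, hj, Nat.mod_self, Fin.val_zero]

section Blocks

variable {W : Type} [Fintype W] [DecidableEq W] [NeZero p]

theorem Bd_diag {X : Type} (b : Module.Basis X F V) (κ : X ≃ Fin p × W) (l : X → F) (h : W → Matrix (Fin p) (Fin p) F)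
    (hh : ∀ w i j, h w i j = if i = j then l (κ.symm (j, w)) else 0) : Bd (b.reindex κ) h = dgo b l := by
  refine (b.reindex κ).ext fun x => ?_
  obtain ⟨j, w⟩ := x
  rw [Bd_apply, Module.Basis.reindex_apply, dgo_apply, Finset.sum_eq_single j]
  · rw [hh, if_pos rfl, Module.Basis.reindex_apply]
  · intro i _ hi
    rw [hh, if_neg hi, zero_smul]
  · intro h; exact absurd (Finset.mem_univ _) h

theorem Bd_lft (P : Pr p ζ a f) (b0 : Module.Basis (I × Y) F (V0 a)) (κ0 : I × Y ≃ Fin p × W)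
    (κ : I × (Fin p × Y) ≃ Fin p × (Fin p × W))
    (hκ : ∀ m j w, κ.symm (m, (j, w)) = ((κ0.symm (m, w)).1, (j, (κ0.symm (m, w)).2)))
    (h : W → Matrix (Fin p) (Fin p) F) :
    Bd ((liftb P b0).reindex κ) (fun w => h w.2) = lft P (Bd (b0.reindex κ0) h) := by
  refine ((liftb P b0).reindex κ).ext fun x => ?_
  obtain ⟨m, ⟨j, w⟩⟩ := x
  have hb : ∀ m, (liftb P b0).reindex κ (m, (j, w)) = (f ^ (j : ℕ)) (b0.reindex κ0 (m, w) : V) := by
    intro m
    rw [Module.Basis.reindex_apply, hκ, liftb_apply, Module.Basis.reindex_apply]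
  rw [Bd_apply, hb, lft_apply, Bd_apply]
  simp only [hb]
  rw [AddSubmonoidClass.coe_finsetSum, map_sum]
  refine Finset.sum_congr rfl fun i _ => ?_
  rw [Submodule.coe_smul, map_smul]

end Blocks

theorem th_lft (P : Pr p ζ a f) (b0 : Module.Basis (I × Y) F (V0 a)) (i i' : I) :
    th (liftb P b0) i i' = lft P (th b0 i i') := by
  refine (liftb P b0).ext fun x => ?_
  obtain ⟨k, ⟨j, y⟩⟩ := x
  rw [th_apply, liftb_apply P b0 k j y, lft_apply, th_apply]
  show (if k = i then liftb P b0 (i', (j, y)) else 0) = (f ^ (j : ℕ)) ((if k = i then b0 (i', y) else 0 : V0 a) : V)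
  split_ifs with h
  · rw [liftb_apply]
  · rw [Submodule.coe_zero, map_zero]

theorem dgo_lft (P : Pr p ζ a f) (b0 : Module.Basis (I × Y) F (V0 a)) (l : I × Y → F) :
    dgo (liftb P b0) (fun x => l (x.1, x.2.2)) = lft P (dgo b0 l) := by
  refine (liftb P b0).ext fun x => ?_
  obtain ⟨k, ⟨j, y⟩⟩ := x
  rw [dgo_apply, liftb_apply, lft_apply, dgo_apply, Submodule.coe_smul, map_smul]

theorem dgo_a (P : Pr p ζ a f) (b0 : Module.Basis (I × Y) F (V0 a)) :
    dgo (liftb P b0) (fun x => ((ζ ^ (x.2.1 : ℕ) : Fˣ) : F)) = (a : V →ₗ[F] V) := by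
  refine (liftb P b0).ext fun x => ?_
  obtain ⟨k, ⟨j, y⟩⟩ := x
  rw [dgo_apply, liftb_apply]
  show _ = a _
  rw [P.a_V0 j (b0 (k, y)).2, Units.val_pow_eq_pow_val]

theorem dgo_ext {X : Type} {b : Module.Basis X F V} {l l' : X → F} (h : ∀ x, l x = l' x) : dgo b l = dgo b l' := by
  have : l = l' := funext h
  rw [this]

variable {N : Subgroup Fˣ} {ν : F}

/-- `a` and `f` are eigen-operators -/
theorem EA.EO (hE : EA p Φ E) {x : V ≃ₗ[F] V} (hx : x ∈ E) : Cfsg.Agent.H557.Gp.EO E (x : V →ₗ[F] V) :=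
  fun y hy => hE.comm y hy x hx

/-- eigenspaces are orthogonal -/
theorem Pr.orth (P : Pr p ζ a f) (haI : a ∈ Φ.Iso) (hs : (∀ x y, Φ.B x y = 0) ∨ Φ.s (ζ : F) = ((ζ⁻¹ : Fˣ) : F))
    {i j : ℕ} (hi : i < p) (hj : j < p) (hij : i ≠ j) {v w : V} (hv : a v = (ζ : F) ^ i • v)
    (hw : a w = (ζ : F) ^ j • w) : Φ.B v w = 0 := by
  rcases hs with hs | hs
  · exact hs _ _
  · have h1 := haI.1 v w
    have h2 : ∀ (n : ℕ) (x y : V), Φ.B x ((ζ : F) ^ n • y) = (((ζ⁻¹) ^ n : Fˣ) : F) * Φ.B x y := by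
      intro n
      induction n with
      | zero => intro x y; rw [pow_zero, one_smul, pow_zero, Units.val_one, one_mul]
      | succ n ih =>
        intro x y
        rw [pow_succ, mul_smul, ih, Φ.smul_right, hs, pow_succ, Units.val_mul, mul_assoc]
    rw [hv, hw, Φ.smul_left, h2, ← mul_assoc] at h1
    by_contra hne
    have h3 : (ζ : F) ^ i * (((ζ⁻¹) ^ j : Fˣ) : F) = 1 := by
      have : ((ζ : F) ^ i * (((ζ⁻¹) ^ j : Fˣ) : F)) * Φ.B v w = 1 * Φ.B v w := by rw [h1, one_mul]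
      exact mul_right_cancel₀ hne this
    have h4 : ζ ^ i * (ζ⁻¹) ^ j = 1 := Units.ext (by rw [Units.val_mul, Units.val_pow_eq_pow_val, h3, Units.val_one])
    rw [inv_pow, mul_inv_eq_one] at h4
    exact hij (P.pow_inj hi hj h4)

theorem pow_iso (hf : f ∈ Φ.Iso) (j : ℕ) (v w : V) : Φ.B ((f ^ j) v) ((f ^ j) w) = Φ.B v w := (Φ.Iso.pow_mem hf j).1 v w

/-- lifting edges -/
theorem Edge.lift [NeZero p] (P : Pr p ζ a f) (hE : EA p Φ E) (ha : a ∈ E) (hf : f ∈ E) [Nontrivial V]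
    {b0 : Module.Basis (I × Y) F (V0 a)} {x x' : I × Y} (h : Edge b0 p ζ N (E0 E a f) x x') (j : Fin p) :
    Edge (liftb P b0) p ζ N E (x.1, (j, x.2)) (x'.1, (j, x'.2)) := by
  obtain ⟨W, hW, hW', κ0, β, hβ, hxx, C⟩ := h
  let κ : I × (Fin p × Y) ≃ Fin p × (Fin p × W) :=
    { toFun := fun x => ((κ0 (x.1, x.2.2)).1, (x.2.1, (κ0 (x.1, x.2.2)).2))
      invFun := fun x => ((κ0.symm (x.1, x.2.2)).1, (x.2.1, (κ0.symm (x.1, x.2.2)).2))
      left_inv := fun x => by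
        obtain ⟨i, ⟨j, y⟩⟩ := x
        show ((κ0.symm ((κ0 (i, y)).1, (κ0 (i, y)).2)).1, (j, (κ0.symm ((κ0 (i, y)).1, (κ0 (i, y)).2)).2)) = _
        rw [Prod.mk.eta, Equiv.symm_apply_apply]
      right_inv := fun x => by
        obtain ⟨i, ⟨j, y⟩⟩ := x
        show ((κ0 ((κ0.symm (i, y)).1, (κ0.symm (i, y)).2)).1, (j, (κ0 ((κ0.symm (i, y)).1, (κ0.symm (i, y)).2)).2)) = _
        rw [Prod.mk.eta, Equiv.apply_symm_apply] }
  refine ⟨Fin p × W, inferInstance, inferInstance, κ, β, hβ, ?_, ?_, ?_, ?_⟩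
  · show (j, (κ0 (x.1, x.2)).2) = (j, (κ0 (x'.1, x'.2)).2)
    rw [Prod.mk.eta, Prod.mk.eta, hxx]
  · have := Bd_lft P b0 κ0 κ (fun _ _ _ => rfl) (fun _ => (Dm p ζ : Matrix (Fin p) (Fin p) F))
    rw [this]
    exact EO.lft P hE ha hf C.a
  · have := Bd_lft P b0 κ0 κ (fun _ _ _ => rfl) (fun _ => (Bm p β : Matrix (Fin p) (Fin p) F))
    rw [this]
    exact EO.lft P hE ha hf C.f
  · rintro ⟨j', w⟩ hw
    by_cases hj : j' = j
    · have hw' : w ≠ (κ0 x).2 := by
        intro h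
        apply hw
        rw [hj, h]
        rfl
      obtain ⟨s, hs, hs'⟩ := C.sep w hw'
      refine ⟨fun w => s w.2, ?_, hs'⟩
      have := Bd_lft P b0 κ0 κ (fun _ _ _ => rfl) (fun w => ((ζ ^ s w : Fˣ) : F) • (1 : Matrix (Fin p) (Fin p) F))
      rw [this]
      exact EO.lft P hE ha hf hs
    · refine ⟨fun w => (w.1 : ℕ), ?_, ?_⟩
      · rw [Bd_diag (liftb P b0) κ (fun x => ((ζ ^ (x.2.1 : ℕ) : Fˣ) : F))]
        · rw [dgo_a]
          exact hE.EO ha
        · intro w i j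
          rw [Matrix.smul_apply, Matrix.one_apply, smul_eq_mul, mul_ite, mul_one, mul_zero]
          rfl
      · intro h
        exact hj (Fin.ext (P.pow_inj j'.2 j.2 h))

/-- **the inductive step** -/
theorem Good.step [NeZero p] (P : Pr p ζ a f) (hE : EA p Φ E) (ha : a ∈ E) (hf : f ∈ E) [Nontrivial V]
    (hs : (∀ x y, Φ.B x y = 0) ∨ Φ.s (ζ : F) = ((ζ⁻¹ : Fˣ) : F)) {β : Fˣ} (hβ : ∀ v, (f ^ p) v = (β : F) • v)
    (hN : β ∈ N) {b0 : Module.Basis (I × Y) F (V0 a)} (G : Good p ζ N ν (Φ.on (V0 a)) (E0 E a f) b0) :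
    Good p ζ N ν Φ E (liftb P b0) := by
  -- separation
  have hsep : ∀ x x' : I × Y, x ≠ x' → ∃ s : I × Y → ℕ,
      EO E (dgo (liftb P b0) fun x => ((ζ ^ s (x.1, x.2.2) : Fˣ) : F)) ∧ ζ ^ s x ≠ ζ ^ s x' := by
    intro x x' hxx
    obtain ⟨s, hs, hs'⟩ := G.sep x x' hxx
    refine ⟨s, ?_, hs'⟩
    have := dgo_lft P b0 fun x => ((ζ ^ s x : Fˣ) : F)
    rw [this]
    exact EO.lft P hE ha hf hs
  refine ⟨?_, ?_, ?_, ?_⟩
  · rintro ⟨i, ⟨j, y⟩⟩ ⟨i', ⟨j', y'⟩⟩
    rw [liftb_apply, liftb_apply]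
    by_cases hj : j = j'
    · subst hj
      rw [pow_iso (hE.le hf)]
      have := G.gram (i, y) (i', y')
      have h2 : ((i, (j, y)) = (i', (j, y'))) ↔ ((i, y) = (i', y')) := by
        simp only [Prod.mk.injEq, true_and]
      rw [if_congr h2 rfl rfl]
      exact this
    · rw [if_neg]
      · refine P.orth (hE.le ha) hs j.2 j'.2 (fun h => hj (Fin.ext h)) ?_ ?_
        · exact P.a_V0 _ (b0 _).2
        · exact P.a_V0 _ (b0 _).2
      · intro h
        simp only [Prod.mk.injEq] at h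
        exact hj h.2.1
  · intro i j
    rw [th_lft]
    exact EO.lft P hE ha hf (G.theta i j)
  · rintro ⟨i, ⟨j, y⟩⟩ ⟨i', ⟨j', y'⟩⟩ hxx
    by_cases hj : j = j'
    · obtain ⟨s, hs, hs'⟩ := hsep (i, y) (i', y') (by
        intro h
        apply hxx
        simp only [Prod.mk.injEq] at h
        rw [hj, h.1, h.2])
      exact ⟨fun x => s (x.1, x.2.2), hs, hs'⟩
    · refine ⟨fun x => (x.2.1 : ℕ), ?_, ?_⟩
      · rw [dgo_a]
        exact hE.EO ha
      · intro h
        exact hj (Fin.ext (P.pow_inj j.2 j'.2 h))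
  · -- connectedness
    rintro i ⟨j, y⟩ ⟨j', y'⟩
    have h1 : ∀ {x x' : I × Y}, Relation.ReflTransGen (Edge b0 p ζ N (E0 E a f)) x x' →
        Relation.ReflTransGen (Edge (liftb P b0) p ζ N E) (x.1, (j, x.2)) (x'.1, (j, x'.2)) := by
      intro x x' h
      induction h with
      | refl => exact Relation.ReflTransGen.refl
      | tail _ h ih => exact ih.tail (h.lift P hE ha hf j)
    refine (h1 (G.conn i y y')).tail ?_
    let κ : I × (Fin p × Y) ≃ Fin p × (I × Y) :=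
      { toFun := fun x => (x.2.1, (x.1, x.2.2))
        invFun := fun x => (x.2.1, (x.1, x.2.2))
        left_inv := fun _ => rfl
        right_inv := fun _ => rfl }
    refine ⟨I × Y, inferInstance, inferInstance, κ, β, hN, rfl, ?_, ?_, ?_⟩
    · rw [Bd_diag (liftb P b0) κ (fun x => ((ζ ^ (x.2.1 : ℕ) : Fˣ) : F))]
      · rw [dgo_a]
        exact hE.EO ha
      · intro w i j
        rw [Dm_coe, Matrix.diagonal_apply]
        split_ifs with h
        · rw [h]
          rfl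
        · rfl
    · have : Bd ((liftb P b0).reindex κ) (fun _ => (Bm p β : Matrix (Fin p) (Fin p) F)) = (f : V →ₗ[F] V) := by
        refine ((liftb P b0).reindex κ).ext fun x => ?_
        obtain ⟨m, ⟨i, y⟩⟩ := x
        have hb : ∀ m, (liftb P b0).reindex κ (m, (i, y)) = (f ^ (m : ℕ)) (b0 (i, y) : V) := by
          intro m
          rw [Module.Basis.reindex_apply]
          exact liftb_apply P b0 i m y
        rw [Bd_apply, hb]
        show _ = f _
        rw [P.pow_f_succ hβ]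
        simp only [hb]
        rw [Finset.sum_eq_single (m + 1)]
        · congr 1
          rw [Bm_apply, if_pos rfl]
        · intro k _ hk
          rw [Bm_apply, if_neg hk, zero_smul]
        · intro h; exact absurd (Finset.mem_univ _) h
      rw [this]
      exact hE.EO hf
    · intro w hw
      obtain ⟨s, hs, hs'⟩ := hsep w (i, y') hw
      refine ⟨s, ?_, hs'⟩
      rw [Bd_diag (liftb P b0) κ (fun x => ((ζ ^ s (x.1, x.2.2) : Fˣ) : F))]
      · exact hs
      · intro w i j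
        rw [Matrix.smul_apply, Matrix.one_apply, smul_eq_mul, mul_ite, mul_one, mul_zero]
        rfl

end Cfsg.Agent.H557.Gp

end

section
/-!
# S2187, non-commuting preimage: zero forms and hermitian forms, inheritance to `V₀`, existence of the pair
-/

set_option autoImplicit false
set_option linter.unusedSectionVars false
set_option linter.unusedVariables false

namespace Cfsg.Agent.H557.Gp

open Cfsg Cfsg.Geo
open scoped MatrixGroups Matrix
open Cfsg.Agent.H847.Bs Cfsg.Agent.H557.Bs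
open Cfsg.Agent.H321.Ker

universe u v

variable {F : Type u} {V : Type v} [Field F] [AddCommGroup V] [Module F V]
variable {p r : ℕ} {ζ : Fˣ} {a f : V ≃ₗ[F] V} {E : Subgroup (V ≃ₗ[F] V)} {Φ : Frm F V} {N : Subgroup Fˣ} {ν : F}

/-- the two kinds of forms -/
def Kd (r : ℕ) (N : Subgroup Fˣ) (ν : F) (Φ : Frm F V) : Prop :=
  (ν = 0 ∧ (∀ x y, Φ.B x y = 0) ∧ (∀ x, Φ.q x = 0) ∧ N = ⊤) ∨ (ν = 1 ∧ IsHerm r Φ ∧ ∀ c : Fˣ, c ∈ N ↔ c ^ (r + 1) = 1)

theorem B_zero_r (Φ : Frm F V) (x : V) : Φ.B x 0 = 0 := Φ.refl _ _ (B_zero_left Φ x)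

theorem Kd.scal_iff [Nontrivial V] (K : Kd r N ν Φ) {g : V ≃ₗ[F] V} {c : Fˣ} (hg : ∀ v, g v = (c : F) • v) :
    g ∈ Φ.Iso ↔ c ∈ N := by
  rcases K with ⟨-, hB, hq, hN⟩ | ⟨-, hΦ, hN⟩
  · rw [hN]
    exact ⟨fun _ => trivial, fun _ => ⟨fun _ _ => by rw [hB, hB], fun _ => by rw [hq, hq]⟩⟩
  · rw [hN]
    have h1 : ∀ v w, Φ.B (g v) (g w) = (c : F) ^ (r + 1) * Φ.B v w := by
      intro v w
      rw [hg, hg, Φ.smul_left, Φ.smul_right, hΦ.s, ← mul_assoc, pow_succ']
    constructor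
    · intro h
      obtain ⟨v, hv⟩ := exists_ne (0 : V)
      obtain ⟨w, hw⟩ : ∃ w, Φ.B v w ≠ 0 := by
        by_contra! h0
        exact hv (hΦ.nd v h0)
      have h2 := h.1 v w
      rw [h1] at h2
      have h3 : (c : F) ^ (r + 1) * Φ.B v w = 1 * Φ.B v w := by rw [h2, one_mul]
      exact Units.ext (by rw [Units.val_pow_eq_pow_val, mul_right_cancel₀ hw h3, Units.val_one])
    · intro h
      have h2 : (c : F) ^ (r + 1) = 1 := by rw [← Units.val_pow_eq_pow_val, h, Units.val_one]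
      exact ⟨fun v w => by rw [h1, h2, one_mul], fun v => by rw [hΦ.q, hΦ.q]⟩

theorem Kd.s_zeta (K : Kd r N ν Φ) (hζ : ζ ∈ N) : (∀ x y, Φ.B x y = 0) ∨ Φ.s (ζ : F) = ((ζ⁻¹ : Fˣ) : F) := by
  rcases K with ⟨-, hB, hq, hN⟩ | ⟨-, hΦ, hN⟩
  · exact Or.inl hB
  · right
    rw [hΦ.s, ← Units.val_pow_eq_pow_val]
    congr 1
    rw [hN, pow_succ] at hζ
    exact eq_inv_of_mul_eq_one_left hζ

/-- vectors orthogonal to `V₀` -/
theorem Pr.orth_all (P : Pr p ζ a f) (haI : a ∈ Φ.Iso)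
    (hs : (∀ x y, Φ.B x y = 0) ∨ Φ.s (ζ : F) = ((ζ⁻¹ : Fˣ) : F)) {v : V} (hv : v ∈ V0 a)
    (h : ∀ w ∈ V0 a, Φ.B v w = 0) (w : V) : Φ.B v w = 0 := by
  obtain ⟨x, rfl⟩ := (psi P).surjective w
  rw [psi_apply]
  have hadd : ∀ (s : Finset (Fin p)), Φ.B v (∑ j ∈ s, (f ^ (j : ℕ)) (x j : V)) = 0 := by
    intro s
    induction s using Finset.induction_on with
    | empty => rw [Finset.sum_empty]; exact B_zero_r Φ v
    | insert j s hj ih =>
      rw [Finset.sum_insert hj, Φ.add_right, ih, add_zero]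
      by_cases h0 : (j : ℕ) = 0
      · rw [h0, pow_zero]
        exact h _ (x j).2
      · refine P.orth haI hs P.hp.pos j.2 (Ne.symm h0) ?_ (P.a_V0 _ (x j).2)
        rw [pow_zero, one_smul]
        exact hv
  exact hadd _

theorem Kd.on (K : Kd r N ν Φ) (P : Pr p ζ a f) (haI : a ∈ Φ.Iso) (hζ : ζ ∈ N) [Finite F] [Module.Finite F V] :
    Kd r N ν (Φ.on (V0 a)) := by
  have hs := K.s_zeta hζ
  rcases K with ⟨h0, hB, hq, hN⟩ | ⟨h0, hΦ, hN⟩
  · exact Or.inl ⟨h0, fun x y => hB x y, fun x => hq x, hN⟩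
  · refine Or.inr ⟨h0, IsHerm.on hΦ ?_, hN⟩
    intro x hx
    exact Subtype.ext (hΦ.nd x (P.orth_all haI hs x.2 fun w hw => hx ⟨w, hw⟩))

theorem Pr.nontrivial [Nontrivial V] (P : Pr p ζ a f) : Nontrivial (V0 a) := by
  by_contra h
  rw [not_nontrivial_iff_subsingleton] at h
  obtain ⟨v, hv⟩ := exists_ne (0 : V)
  apply hv
  obtain ⟨x, rfl⟩ := (psi P).surjective v
  have : x = 0 := funext fun j => Subsingleton.elim _ _
  rw [this, map_zero]

theorem Pr.finrank [Module.Finite F V] (P : Pr p ζ a f) : Module.finrank F V = p * Module.finrank F (V0 a) := by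
  rw [← (psi P).finrank_eq, Module.finrank_pi_fintype]
  simp

/-- a multiple of an automorphism -/
noncomputable def scE (V : Type v) [AddCommGroup V] [Module F V] (c : Fˣ) : V ≃ₗ[F] V := LinearEquiv.smulOfUnit c

theorem scE_apply (c : Fˣ) (v : V) : scE V c v = (c : F) • v := rfl

theorem EA.E0 [Nontrivial V] [Finite F] [Module.Finite F V] (hE : EA p Φ E) (K : Kd r N ν Φ) (P : Pr p ζ a f)
    (haI : a ∈ Φ.Iso) (hζ : ζ ∈ N) : EA p (Φ.on (V0 a)) (Cfsg.Agent.H557.Gp.E0 E a f) := by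
  have := P.nontrivial
  refine ⟨?_, ?_, ?_, ?_⟩
  · rintro h ⟨c, hc, -, -, hh⟩
    refine ⟨fun x y => ?_, fun x => ?_⟩
    · show Φ.B (h x : V) (h y : V) = Φ.B x y
      rw [hh, hh]
      exact (hE.le hc).1 x y
    · show Φ.q (h x : V) = Φ.q x
      rw [hh]
      exact (hE.le hc).2 x
  · rintro g hg ⟨c, hc⟩
    have hc0 : c ≠ 0 := by
      rintro rfl
      obtain ⟨v, hv⟩ := exists_ne (0 : V0 a)
      have := hc v
      rw [zero_smul] at this
      exact hv ((LinearEquiv.map_eq_zero_iff g).1 this)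
    have h1 : Units.mk0 c hc0 ∈ N := ((K.on P haI hζ).scal_iff (g := g) (c := Units.mk0 c hc0) hc).1 hg
    have h2 : scE V (Units.mk0 c hc0) ∈ Φ.Iso := (K.scal_iff fun v => rfl).2 h1
    refine ⟨scE V (Units.mk0 c hc0), hE.scal _ h2 ⟨c, fun v => rfl⟩, fun v => ?_, fun v => ?_, fun v => ?_⟩
    · rw [scE_apply, scE_apply, map_smul]
    · rw [scE_apply, scE_apply, map_smul]
    · rw [hc, scE_apply]
      rfl
  · rintro h ⟨c, hc, -, -, hh⟩
    obtain ⟨d, hd⟩ := hE.pow c hc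
    refine ⟨d, fun v => Subtype.ext ?_⟩
    rw [Submodule.coe_smul, ← hd]
    have : ∀ (n : ℕ) (v : V0 a), ((h ^ n) v : V) = (c ^ n) v := by
      intro n
      induction n with
      | zero => intro v; rfl
      | succ n ih => intro v; rw [coe_pow_apply, hh, ih, coe_pow_apply]
    exact this p v
  · rintro h ⟨c, hc, -, -, hh⟩ h' ⟨c', hc', -, -, hh'⟩
    obtain ⟨d, hd⟩ := hE.comm c hc c' hc'
    refine ⟨d, fun v => Subtype.ext ?_⟩
    rw [Submodule.coe_smul, hh, hh', hh', hh]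
    exact hd v

theorem pow_preserve {g : V ≃ₗ[F] V} {W : Submodule F V} (h : ∀ w ∈ W, g w ∈ W) (n : ℕ) : ∀ w ∈ W, (g ^ n) w ∈ W := by
  induction n with
  | zero => intro w hw; exact hw
  | succ n ih => intro w hw; rw [coe_pow_apply]; exact h _ (ih w hw)

theorem inv_preserve [Module.Finite F V] {g : V ≃ₗ[F] V} {W : Submodule F V} (h : ∀ w ∈ W, g w ∈ W) :
    ∀ w, g w ∈ W → w ∈ W := by
  have h1 : W.map (g : V →ₗ[F] V) ≤ W := by
    rintro _ ⟨w, hw, rfl⟩
    exact h w hw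
  have h2 : W.map (g : V →ₗ[F] V) = W := Submodule.eq_of_le_of_finrank_eq h1 (LinearEquiv.finrank_map_eq g W)
  intro w hw
  rw [← h2] at hw
  obtain ⟨x, hx, hxw⟩ := hw
  have : x = w := g.injective hxw
  rwa [← this]

theorem An.E0 [Nontrivial V] [Module.Finite F V] (hA : An Φ E) (hE : EA p Φ E) (K : Kd r N ν Φ) (P : Pr p ζ a f)
    (ha : a ∈ E) (hf : f ∈ E) (hζ : ζ ∈ N) : An (Φ.on (V0 a)) (Cfsg.Agent.H557.Gp.E0 E a f) := by
  intro W0 hW0 hTI
  let W : Submodule F V := (Submodule.pi Set.univ fun _ : Fin p => W0).map (psi P : (Fin p → V0 a) →ₗ[F] V)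
  have hmem : ∀ x : Fin p → V0 a, psi P x ∈ W ↔ ∀ j, x j ∈ W0 := by
    intro x
    constructor
    · rintro ⟨y, hy, hxy⟩
      have : y = x := (psi P).injective hxy
      rw [← this]
      exact fun j => hy j trivial
    · intro h
      exact ⟨x, fun j _ => h j, rfl⟩
  have hfj : ∀ (j : Fin p) (w : V0 a), w ∈ W0 → (f ^ (j : ℕ)) (w : V) ∈ W := by
    intro j w hw
    rw [← psi_single P, hmem]
    intro i
    by_cases h : i = j
    · subst h
      rw [Pi.single_eq_same]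
      exact hw
    · rw [Pi.single_eq_of_ne h]
      exact W0.zero_mem
  have hgen : ∀ g : V →ₗ[F] V, (∀ (j : Fin p) (w : V0 a), w ∈ W0 → g ((f ^ (j : ℕ)) (w : V)) ∈ W) → ∀ v ∈ W, g v ∈ W := by
    rintro g hg _ ⟨y, hy, rfl⟩
    show g (psi P y) ∈ W
    rw [psi_apply, map_sum]
    exact W.sum_mem fun j _ => hg j (y j) (hy j trivial)
  -- invariance
  have hWa : ∀ v ∈ W, a v ∈ W := by
    refine hgen (a : V →ₗ[F] V) fun j w hw => ?_
    show a _ ∈ W
    rw [P.a_V0 j w.2]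
    exact W.smul_mem _ (hfj j w hw)
  obtain ⟨β, hβ⟩ := hE.pow f hf
  have hWf : ∀ v ∈ W, f v ∈ W := by
    refine hgen (f : V →ₗ[F] V) fun j w hw => ?_
    show f _ ∈ W
    have : NeZero p := ⟨P.hp.ne_zero⟩
    rw [P.pow_f_succ hβ]
    exact W.smul_mem _ (hfj _ w hw)
  have hWE : ∀ y ∈ E, ∀ v ∈ W, y v ∈ W := by
    intro y hy
    obtain ⟨s, t, h1, h2⟩ := decomp P hE ha hf hy
    have hc : a ^ t * (f ^ s * y) ∈ E := E.mul_mem (E.pow_mem ha t) (E.mul_mem (E.pow_mem hf s) hy)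
    obtain ⟨h, hh, hhc⟩ := exists_restr (E := E) hc h1 h2
    have hcf : ∀ (j : ℕ) (v : V), (a ^ t * (f ^ s * y)) ((f ^ j) v) = (f ^ j) ((a ^ t * (f ^ s * y)) v) := by
      intro j
      induction j with
      | zero => intro v; rfl
      | succ j ih => intro v; rw [coe_pow_apply, h2, ih, coe_pow_apply]
    have h3 : ∀ v ∈ W, (a ^ t * (f ^ s * y)) v ∈ W := by
      refine hgen ((a ^ t * (f ^ s * y) : V ≃ₗ[F] V) : V →ₗ[F] V) fun j w hw => ?_
      show (a ^ t * (f ^ s * y)) _ ∈ W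
      rw [hcf, ← hhc]
      exact hfj j _ (hW0 h hh w hw)
    intro v hv
    have h4 : (a ^ t) ((f ^ s) (y v)) ∈ W := h3 v hv
    exact inv_preserve (pow_preserve hWf s) _ (inv_preserve (pow_preserve hWa t) _ h4)
  have hs := K.s_zeta hζ
  have hWTI : Φ.TI W := by
    refine ⟨?_, ?_⟩
    · rintro _ ⟨x, hx, rfl⟩ _ ⟨y, hy, rfl⟩
      show Φ.B (psi P x) (psi P y) = 0
      rw [psi_apply, psi_apply]
      have h1 : ∀ (v : V), (∀ j : Fin p, Φ.B v ((f ^ (j : ℕ)) (y j : V)) = 0) → ∀ s : Finset (Fin p),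
          Φ.B v (∑ j ∈ s, (f ^ (j : ℕ)) (y j : V)) = 0 := by
        intro v hv s
        induction s using Finset.induction_on with
        | empty => rw [Finset.sum_empty]; exact B_zero_r Φ v
        | insert j s hj ih => rw [Finset.sum_insert hj, Φ.add_right, ih, add_zero, hv]
      have h2 : ∀ (v : V), (∀ j : Fin p, Φ.B ((f ^ (j : ℕ)) (x j : V)) v = 0) → ∀ s : Finset (Fin p),
          Φ.B (∑ j ∈ s, (f ^ (j : ℕ)) (x j : V)) v = 0 := by
        intro v hv s
        induction s using Finset.induction_on with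
        | empty => rw [Finset.sum_empty]; exact B_zero_left Φ v
        | insert j s hj ih => rw [Finset.sum_insert hj, Φ.add_left, ih, add_zero, hv]
      refine h2 _ (fun i => h1 _ (fun j => ?_) _) _
      by_cases hij : i = j
      · subst hij
        rw [pow_iso (hE.le hf)]
        exact hTI.1 _ (hx i trivial) _ (hy i trivial)
      · exact P.orth (hE.le ha) hs i.2 j.2 (fun h => hij (Fin.ext h)) (P.a_V0 _ (x i).2) (P.a_V0 _ (y j).2)
    · intro x _
      rcases K with ⟨-, -, hq, -⟩ | ⟨-, hΦ, -⟩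
      · exact hq x
      · exact hΦ.q x
  rcases hA W hWE hWTI with h | h
  · left
    rw [Submodule.eq_bot_iff]
    intro w hw
    have h1 := hfj ⟨0, P.hp.pos⟩ w hw
    rw [h, Submodule.mem_bot] at h1
    exact Subtype.ext h1
  · right
    rw [Submodule.eq_top_iff']
    intro w
    have h1 : psi P (Pi.single (⟨0, P.hp.pos⟩ : Fin p) w) ∈ W := by rw [h]; trivial
    rw [hmem] at h1
    have h2 := h1 ⟨0, P.hp.pos⟩
    rwa [Pi.single_eq_same] at h2

/-- powers in cyclic groups -/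
theorem cyc_pow [Finite F] (hp : p.Prime) (N : Subgroup Fˣ) {c d : Fˣ} (hc : c ∈ N) (hd : d ∈ N) :
    (∃ e ∈ N, e ^ p = c) ∨ ∃ k : ℕ, ∃ e ∈ N, e ^ p = d * c ^ k := by
  obtain ⟨g, hg⟩ := IsCyclic.exists_generator (α := ↥N)
  have hfin : Finite ↥N := inferInstance
  have h1 : ∀ x : ↥N, ∃ i : ℕ, g ^ i = x := fun x => by
    have := hg x
    rw [← mem_powers_iff_mem_zpowers] at this
    exact this
  obtain ⟨i, hi⟩ := h1 ⟨c, hc⟩
  obtain ⟨j, hj⟩ := h1 ⟨d, hd⟩
  have hi' : (g : Fˣ) ^ i = c := congrArg Subtype.val hi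
  have hj' : (g : Fˣ) ^ j = d := congrArg Subtype.val hj
  by_cases hpi : p ∣ i
  · left
    obtain ⟨m, rfl⟩ := hpi
    exact ⟨(g : Fˣ) ^ m, N.pow_mem g.2 m, by rw [← pow_mul, mul_comm, hi']⟩
  · right
    have hcop : Nat.Coprime i p := ((Nat.Prime.coprime_iff_not_dvd hp).2 hpi).symm
    obtain ⟨k, -, hk⟩ := Nat.exists_mul_mod_eq_one_of_coprime hcop hp.one_lt
    -- `j + i * (k * (p * j - j)) ≡ 0`
    have h2 : p ∣ j + i * (k * (p * j - j)) := by
      have h3 : i * k ≡ 1 [MOD p] := by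
        show i * k % p = 1 % p
        rw [hk, Nat.mod_eq_of_lt hp.one_lt]
      have h4 : j + i * (k * (p * j - j)) ≡ j + 1 * (p * j - j) [MOD p] := by
        rw [← mul_assoc]
        exact (Nat.ModEq.refl j).add (h3.mul_right _)
      have h5 : j + 1 * (p * j - j) = p * j := by
        have : j ≤ p * j := Nat.le_mul_of_pos_left j hp.pos
        omega
      rw [h5] at h4
      exact (Nat.modEq_zero_iff_dvd.1 (h4.trans (Nat.modEq_zero_iff_dvd.2 (Dvd.intro j rfl))))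
    obtain ⟨m, hm⟩ := h2
    refine ⟨k * (p * j - j), (g : Fˣ) ^ m, N.pow_mem g.2 m, ?_⟩
    rw [← hi', ← hj', ← pow_mul, ← pow_mul, ← pow_add, hm, mul_comm]

theorem two_step {g h : V ≃ₗ[F] V} {c : F} (hgh : ∀ v, h (g v) = c • g (h v)) (n : ℕ) :
    ∀ v, ((g * h) ^ n) v = c ^ (∑ i ∈ Finset.range n, i) • (g ^ n) ((h ^ n) v) := by
  induction n with
  | zero => intro v; rw [Finset.range_zero, Finset.sum_empty, pow_zero, pow_zero, one_smul]; rfl
  | succ n ih =>
    intro v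
    have h1 : ∀ v, (h ^ n) (g v) = c ^ n • g ((h ^ n) v) := EO.pow_left (T := (g : V →ₗ[F] V)) hgh n
    have h2 : ((g * h) ^ (n + 1)) v = ((g * h) ^ n) (g (h v)) := by rw [pow_succ]; rfl
    have h3 : (g ^ (n + 1)) ((h ^ (n + 1)) v) = (g ^ n) (g ((h ^ n) (h v))) := by rw [pow_succ, pow_succ]; rfl
    rw [h2, ih, h1, map_smul, smul_smul, h3, Finset.sum_range_succ, pow_add]

theorem pow_mul_odd (hp : p.Prime) (hp2 : p ≠ 2) {g h : V ≃ₗ[F] V} {c : F} (hc : c ^ p = 1)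
    (hgh : ∀ v, h (g v) = c • g (h v)) (v : V) : ((g * h) ^ p) v = (g ^ p) ((h ^ p) v) := by
  have h1 : p ∣ ∑ i ∈ Finset.range p, i := by
    have h2 : p ∣ (∑ i ∈ Finset.range p, i) * 2 := by
      rw [Finset.sum_range_id_mul_two]
      exact Dvd.intro _ rfl
    rcases (hp.dvd_mul).1 h2 with h3 | h3
    · exact h3
    · exact absurd ((Nat.prime_dvd_prime_iff_eq hp Nat.prime_two).1 h3) hp2
  obtain ⟨m, hm⟩ := h1
  rw [two_step hgh, hm, pow_mul, hc, one_pow, one_smul]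

theorem unit_of_pow [Nontrivial V] {x : V ≃ₗ[F] V} {c : F} (h : ∀ v, x v = c • v) : c ≠ 0 := by
  rintro rfl
  obtain ⟨v, hv⟩ := exists_ne (0 : V)
  have := h v
  rw [zero_smul] at this
  exact hv ((LinearEquiv.map_eq_zero_iff x).1 this)

theorem EA.exists_N [Nontrivial V] (hE : EA p Φ E) (K : Kd r N ν Φ) {x : V ≃ₗ[F] V} (hx : x ∈ E) :
    ∃ c ∈ N, ∀ v, (x ^ p) v = (c : F) • v := by
  obtain ⟨c, hc⟩ := hE.pow x hx
  refine ⟨Units.mk0 c (unit_of_pow hc), ?_, hc⟩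
  exact (K.scal_iff (g := x ^ p) (c := Units.mk0 c (unit_of_pow hc)) hc).1 (Φ.Iso.pow_mem (hE.le hx) p)

theorem EA.comm_root [Nontrivial V] (hE : EA p Φ E) {x y : V ≃ₗ[F] V} (hy : y ∈ E) {c : F}
    (h : ∀ v, y (x v) = c • x (y v)) : c ^ p = 1 := by
  have hx0 : (x : V →ₗ[F] V) ≠ 0 := by
    intro h
    obtain ⟨v, hv⟩ := exists_ne (0 : V)
    exact hv ((LinearEquiv.map_eq_zero_iff x).1 (LinearMap.congr_fun h v))
  obtain ⟨d, hd⟩ := hE.pow y hy
  have h1 := EO.pow_left (T := (x : V →ₗ[F] V)) h p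
  have h2 : ∀ v, (y ^ p) ((x : V →ₗ[F] V) v) = (1 : F) • (x : V →ₗ[F] V) ((y ^ p) v) := by
    intro v
    rw [hd, hd, map_smul, one_smul]
  exact EO.unique hx0 h1 h2

/-- **existence of the pair** -/
theorem exists_pair [Finite F] [Nontrivial V] (hp : p.Prime) (hp2 : p ≠ 2) (K : Kd r N ν Φ) (hE : EA p Φ E)
    (hz : ζ ^ p = 1) (hz1 : ζ ≠ 1) (hnc : ∃ x ∈ E, ∃ y ∈ E, x * y ≠ y * x) : ∃ a ∈ E, ∃ f ∈ E, Pr p ζ a f := by
  -- a split non-central element
  have h1 : ∃ z ∈ E, ∃ w ∈ E, z * w ≠ w * z ∧ ∃ e ∈ N, ∀ v, (z ^ p) v = ((e ^ p : Fˣ) : F) • v := by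
    obtain ⟨x, hx, y, hy, hxy⟩ := hnc
    obtain ⟨c, hc, hc'⟩ := hE.exists_N K hx
    obtain ⟨d, hd, hd'⟩ := hE.exists_N K hy
    rcases cyc_pow hp N hc hd with ⟨e, he, hee⟩ | ⟨k, e, he, hee⟩
    · exact ⟨x, hx, y, hy, hxy, e, he, by rw [hee]; exact hc'⟩
    · have hk : x ^ k ∈ E := E.pow_mem hx k
      refine ⟨y * x ^ k, E.mul_mem hy hk, x, hx, ?_, e, he, fun v => ?_⟩
      · intro h
        apply hxy
        have h2 : x ^ k * x = x * x ^ k := ((Commute.refl x).pow_left k).eq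
        rw [mul_assoc, h2, ← mul_assoc, ← mul_assoc] at h
        exact (mul_right_cancel h).symm
      · obtain ⟨γ, hγ⟩ := hE.comm (x ^ k) hk y hy
        have h3 := hE.comm_root hk hγ
        rw [pow_mul_odd hp hp2 h3 hγ, hd']
        have h4 : ∀ v, ((x ^ k) ^ p) v = ((c ^ k : Fˣ) : F) • v := by
          intro v
          rw [← pow_mul, mul_comm, pow_mul]
          have : ∀ n : ℕ, ∀ v, ((x ^ p) ^ n) v = ((c ^ n : Fˣ) : F) • v := by
            intro n
            induction n with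
            | zero => intro v; rw [pow_zero, pow_zero, Units.val_one, one_smul]; rfl
            | succ n ih => intro v; rw [coe_pow_apply, ih, map_smul, hc', smul_smul, pow_succ, Units.val_mul]
          exact this k v
        rw [h4, smul_smul, hee, Units.val_mul]
  obtain ⟨z, hzE, w, hw, hzw, e, he, hze⟩ := h1
  have hsc : scE V e⁻¹ ∈ E := hE.scal _ ((K.scal_iff fun v => rfl).2 (N.inv_mem he)) ⟨_, fun v => rfl⟩
  set a0 := scE V e⁻¹ * z with ha0
  have ha0E : a0 ∈ E := E.mul_mem hsc hzE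
  have hap : a0 ^ p = 1 := by
    have hcm : Commute (scE V e⁻¹) z := LinearEquiv.ext fun v => by
      show ((e⁻¹ : Fˣ) : F) • z v = z (((e⁻¹ : Fˣ) : F) • v)
      rw [map_smul]
    rw [ha0, hcm.mul_pow]
    refine LinearEquiv.ext fun v => ?_
    show (scE V e⁻¹ ^ p) ((z ^ p) v) = v
    have h3 : ∀ n : ℕ, ∀ v, (scE V e⁻¹ ^ n) v = ((e⁻¹ ^ n : Fˣ) : F) • v := by
      intro n
      induction n with
      | zero => intro v; rw [pow_zero, pow_zero, Units.val_one, one_smul]; rfl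
      | succ n ih => intro v; rw [coe_pow_apply, ih, map_smul, scE_apply, smul_smul, pow_succ, Units.val_mul]
    rw [h3, hze, smul_smul, ← Units.val_mul, ← mul_pow, inv_mul_cancel, one_pow, Units.val_one, one_smul]
  obtain ⟨c, hc⟩ := hE.comm a0 ha0E w hw
  have hcp := hE.comm_root ha0E hc
  have hc1 : c ≠ 1 := by
    rintro rfl
    apply hzw
    refine LinearEquiv.ext fun v => ?_
    have h2 := hc v
    rw [one_smul] at h2
    have h3 : ((e⁻¹ : Fˣ) : F) • z (w v) = ((e⁻¹ : Fˣ) : F) • w (z v) := by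
      have h4 : w (((e⁻¹ : Fˣ) : F) • z v) = ((e⁻¹ : Fˣ) : F) • w (z v) := map_smul _ _ _
      rw [← h4]
      exact h2
    exact smul_right_injective V (Units.ne_zero _) h3
  have hprim : IsPrimitiveRoot c p := IsPrimitiveRoot.of_map_of_injective (f := MonoidHom.id F) (by
      have ho : orderOf c = p := orderOf_eq_prime (hp := ⟨hp⟩) hcp hc1
      rw [← ho]
      exact IsPrimitiveRoot.orderOf c) Function.injective_id
  have : NeZero p := ⟨hp.ne_zero⟩
  obtain ⟨k, -, hk⟩ := hprim.eq_pow_of_pow_eq_one (ξ := (ζ : F)) (by rw [← Units.val_pow_eq_pow_val, hz, Units.val_one])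
  refine ⟨a0 ^ k, E.pow_mem ha0E k, w, hw, ⟨hp, hz, hz1, ?_⟩, fun v => ?_⟩
  · rw [← pow_mul, mul_comm, pow_mul, hap, one_pow]
  · rw [← hk]
    exact EO.pow_left (T := (w : V →ₗ[F] V)) hc k v

end Cfsg.Agent.H557.Gp

end
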