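import Cfsg.Agent.H557.Gp.NC
import Cfsg.Agent.H557.Bs.Glue
import Mathlib
import Cfsg.Agent.H321.Ker.Core

/-! # S2187, non-commuting preimage: membership principle, Goursat, blocks (helper557) -/

section
/-!
# S2187, non-commuting preimage: eigen-operators and the membership principle

`EO E T` : every element of `E` commutes with the operator `T` up to a scalar.  `mem_of_EO` : an element of `G` of
determinant one which commutes with all elements of `E` commuting with `T` lies in `M`.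
-/

set_option autoImplicit false
set_option linter.unusedSectionVars false

namespace Cfsg.Agent.H557.Gp

open Cfsg.Agent.H847.Bs Cfsg.Agent.H557.Bs

universe u v

variable {F : Type u} {V : Type v} [Field F] [AddCommGroup V] [Module F V]

/-- every element of `E` commutes with `T` up to a scalar -/
def EO (E : Subgroup (V ≃ₗ[F] V)) (T : Module.End F V) : Prop := ∀ y ∈ E, ∃ c : F, ∀ v, y (T v) = c • T (y v)

variable {E G M : Subgroup (V ≃ₗ[F] V)} {T S : Module.End F V} {p : ℕ}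

theorem EO.one : EO E (1 : Module.End F V) := fun _ _ => ⟨1, fun v => by simp⟩

theorem EO.mul (hT : EO E T) (hS : EO E S) : EO E (T * S) := by
  intro y hy
  obtain ⟨c, hc⟩ := hT y hy
  obtain ⟨d, hd⟩ := hS y hy
  refine ⟨c * d, fun v => ?_⟩
  show y (T (S v)) = (c * d) • T (S (y v))
  rw [hc, hd, map_smul, smul_smul]

theorem EO.smul (hT : EO E T) (a : F) : EO E (a • T) := by
  intro y hy
  obtain ⟨c, hc⟩ := hT y hy
  refine ⟨c, fun v => ?_⟩
  show y (a • T v) = c • (a • T (y v))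
  rw [map_smul, hc, smul_comm]

theorem EO.pow (hT : EO E T) (n : ℕ) : EO E (T ^ n) := by
  induction n with
  | zero => rw [pow_zero]; exact EO.one
  | succ n ih => rw [pow_succ]; exact ih.mul hT

theorem EO.of_mem (hE : NC p G E) {x : V ≃ₗ[F] V} (hx : x ∈ E) : EO E (x : V →ₗ[F] V) := fun y hy => hE.comm y hy x hx

theorem EO.unique (hT0 : T ≠ 0) {y : V ≃ₗ[F] V} {c c' : F} (h : ∀ v, y (T v) = c • T (y v))
    (h' : ∀ v, y (T v) = c' • T (y v)) : c = c' := by
  obtain ⟨v, hv⟩ : ∃ v, T v ≠ 0 := by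
    by_contra! h0
    exact hT0 (LinearMap.ext h0)
  have h1 := h (y.symm v)
  rw [h', LinearEquiv.apply_symm_apply] at h1
  have h2 : (c - c') • T v = 0 := by rw [sub_smul, h1, sub_self]
  exact sub_eq_zero.1 ((smul_eq_zero.1 h2).resolve_right hv)

theorem coe_pow_apply (y : V ≃ₗ[F] V) (n : ℕ) (v : V) : (y ^ (n + 1)) v = y ((y ^ n) v) := by
  rw [pow_succ']; rfl

theorem EO.pow_left {y : V ≃ₗ[F] V} {c : F} (h : ∀ v, y (T v) = c • T (y v)) (n : ℕ) :
    ∀ v, (y ^ n) (T v) = c ^ n • T ((y ^ n) v) := by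
  induction n with
  | zero => intro v; rw [pow_zero, pow_zero, one_smul]; rfl
  | succ n ih =>
    intro v
    rw [coe_pow_apply, ih, map_smul, h, smul_smul, coe_pow_apply, pow_succ, mul_comm]

/-- the commutator character -/
theorem EO.exists_hom (hT : EO E T) (hT0 : T ≠ 0) : ∃ χ : ↥E →* Fˣ, ∀ y : ↥E, ∀ v, y.1 (T v) = (χ y : F) • T (y.1 v) := by
  choose c hc using fun y : ↥E => hT y.1 y.2
  have hc0 : ∀ y, c y ≠ 0 := by
    intro y h0
    apply hT0
    refine LinearMap.ext fun v => ?_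
    have h1 := hc y v
    rw [h0, zero_smul] at h1
    exact (LinearEquiv.map_eq_zero_iff _).1 h1
  refine ⟨{ toFun := fun y => Units.mk0 (c y) (hc0 y), map_one' := ?_, map_mul' := ?_ }, fun y v => hc y v⟩
  · apply Units.ext
    exact EO.unique hT0 (y := 1) (hc 1) (fun v => (one_smul F _).symm)
  · intro x y
    apply Units.ext
    refine EO.unique hT0 (y := (x * y).1) (hc (x * y)) fun v => ?_
    show x.1 (y.1 (T v)) = (c x * c y) • T (x.1 (y.1 v))
    rw [hc y, map_smul, hc x, smul_smul, mul_comm]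

/-- the subgroup of the elements commuting with `T` -/
def CE (E : Subgroup (V ≃ₗ[F] V)) (T : Module.End F V) : Subgroup (V ≃ₗ[F] V) where
  carrier := {y | y ∈ E ∧ ∀ v, y (T v) = T (y v)}
  one_mem' := ⟨E.one_mem, fun _ => rfl⟩
  mul_mem' := by
    rintro x y ⟨hx, hx'⟩ ⟨hy, hy'⟩
    refine ⟨E.mul_mem hx hy, fun v => ?_⟩
    show x (y (T v)) = T (x (y v))
    rw [hy', hx']
  inv_mem' := by
    rintro x ⟨hx, hx'⟩
    refine ⟨E.inv_mem hx, fun v => ?_⟩
    apply x.injective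
    have h : ∀ w, x (x⁻¹ w) = w := fun w => x.apply_symm_apply w
    rw [h, hx', h]

theorem relIndex_CE (hE : NC p G E) (hp : p.Prime) (hT : EO E T) (hne : ¬ E ≤ CE E T) : (CE E T).relIndex E = p := by
  have hT0 : T ≠ 0 := by
    rintro rfl
    apply hne
    intro y hy
    exact ⟨hy, fun v => by simp⟩
  obtain ⟨χ, hχ⟩ := hT.exists_hom hT0
  have hpow : ∀ y : ↥E, χ y ^ p = 1 := by
    intro y
    apply Units.ext
    obtain ⟨c, hc⟩ := hE.pow y.1 y.2
    have h1 := EO.pow_left (hχ y) p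
    have h2 : ∀ v, (y.1 ^ p) (T v) = (1 : F) • T ((y.1 ^ p) v) := by
      intro v
      rw [hc, hc, map_smul, one_smul]
    have := EO.unique hT0 h1 h2
    rw [Units.val_pow_eq_pow_val, this]; rfl
  have hker : (CE E T).subgroupOf E = χ.ker := by
    ext y
    rw [Subgroup.mem_subgroupOf, MonoidHom.mem_ker]
    constructor
    · rintro ⟨-, h⟩
      apply Units.ext
      exact EO.unique hT0 (hχ y) (fun v => by rw [h, Units.val_one, one_smul])
    · intro h
      refine ⟨y.2, fun v => ?_⟩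
      rw [hχ, h, Units.val_one, one_smul]
  have hnt : χ.range ≠ ⊥ := by
    intro h
    apply hne
    intro y hy
    have h1 : χ ⟨y, hy⟩ = 1 := by
      have : χ ⟨y, hy⟩ ∈ χ.range := ⟨_, rfl⟩
      rw [h] at this
      exact Subgroup.mem_bot.1 this
    have h2 : (⟨y, hy⟩ : ↥E) ∈ (CE E T).subgroupOf E := by rw [hker]; exact h1
    exact h2
  have : NeZero p := ⟨hp.ne_zero⟩
  have hle : χ.range ≤ rootsOfUnity p F := by
    rintro _ ⟨y, rfl⟩
    exact (mem_rootsOfUnity p _).2 (hpow y)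
  have hroot : Finite (rootsOfUnity p F) := inferInstance
  have hfin : Finite χ.range := Finite.of_injective _ (Subgroup.inclusion_injective hle)
  have hcard : Nat.card χ.range ≤ p :=
    (Subgroup.card_le_of_le hle).trans (card_rootsOfUnity F p)
  rw [Subgroup.relIndex, hker, Subgroup.index_ker]
  obtain ⟨z, hz⟩ : ∃ z ∈ χ.range, z ≠ 1 := by
    by_contra! h
    exact hnt ((Subgroup.eq_bot_iff_forall _).2 h)
  obtain ⟨⟨y, rfl⟩, hz1⟩ := hz
  have ho : orderOf (χ y) = p := orderOf_eq_prime (hp := ⟨hp⟩) (hpow y) hz1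
  have h3 : p ∣ Nat.card χ.range := by
    have h4 := orderOf_dvd_natCard (⟨χ y, ⟨y, rfl⟩⟩ : ↥χ.range)
    have h5 : orderOf (⟨χ y, ⟨y, rfl⟩⟩ : ↥χ.range) = orderOf (χ y) :=
      (orderOf_injective χ.range.subtype χ.range.subtype_injective _).symm
    rw [h5, ho] at h4
    exact h4
  exact le_antisymm hcard (Nat.le_of_dvd Nat.card_pos h3)

/-- the centraliser in `E` of a non-central element -/
theorem exists_hyp (hE : NC p G E) : ∃ T : Module.End F V, EO E T ∧ ¬ E ≤ CE E T := by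
  obtain ⟨x, hx, y, hy, hxy⟩ := hE.nc
  refine ⟨(x : V →ₗ[F] V), EO.of_mem hE hx, fun h => hxy ?_⟩
  refine LinearEquiv.ext fun v => ?_
  exact ((h hy).2 v).symm

/-- **the membership principle** -/
theorem mem_of_EO (hE : NC p G E) (hM : Hyps p G E M) (hp : p.Prime) (hT : EO E T) {g : V ≃ₗ[F] V} (hg : g ∈ G)
    (hd : LinearMap.det (g : V →ₗ[F] V) = 1)
    (hgT : ∀ y ∈ E, (∀ v, y (T v) = T (y v)) → ∀ v, g (y v) = y (g v)) : g ∈ M := by
  have hsc : ∀ T : Module.End F V, ∀ g ∈ G, (∃ c : F, ∀ v, g v = c • v) → g ∈ CE E T := by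
    intro T g hg hc
    refine ⟨hE.scal g hg hc, fun v => ?_⟩
    obtain ⟨c, hc⟩ := hc
    rw [hc, hc, map_smul]
  by_cases hne : E ≤ CE E T
  · obtain ⟨T', hT', hne'⟩ := exists_hyp hE
    refine hM (CE E T') (fun y hy => hy.1) (hsc T') (relIndex_CE hE hp hT' hne') g hg hd fun f hf => ?_
    exact LinearEquiv.ext fun v => hgT f hf.1 (hne hf.1).2 v
  · refine hM (CE E T) (fun y hy => hy.1) (hsc T) (relIndex_CE hE hp hT hne) g hg hd fun f hf => ?_
    exact LinearEquiv.ext fun v => hgT f hf.1 hf.2 v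

end Cfsg.Agent.H557.Gp

end

section
/-!
# A Goursat lemma for powers of a quasi-simple group (helper557)
-/

set_option autoImplicit false

namespace Cfsg.Agent.H557.Gp

variable {Q W : Type*} [Group Q]

/-- the elements of `N` trivial on `S` -/
def KS (N : Subgroup (W → Q)) (S : Finset W) : Subgroup (W → Q) where
  carrier := {n | n ∈ N ∧ ∀ w ∈ S, n w = 1}
  one_mem' := ⟨N.one_mem, fun _ _ => rfl⟩
  mul_mem' := by
    rintro a b ⟨ha, ha'⟩ ⟨hb, hb'⟩
    exact ⟨N.mul_mem ha hb, fun w hw => by rw [Pi.mul_apply, ha' w hw, hb' w hw, one_mul]⟩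
  inv_mem' := by
    rintro a ⟨ha, ha'⟩
    exact ⟨N.inv_mem ha, fun w hw => by rw [Pi.inv_apply, ha' w hw, inv_one]⟩

/-- **Goursat lemma** -/
theorem goursat [Finite W] [DecidableEq W] (hperf : commutator Q = ⊤)
    {Z : Subgroup Q} (hnor : ∀ N : Subgroup Q, N.Normal → ¬ N ≤ Z → N = ⊤) (N : Subgroup (W → Q)) (w₀ : W)
    (hsurj : ∀ q : Q, ∃ n ∈ N, n w₀ = q) (hsep : ∀ w, w ≠ w₀ → ∃ n ∈ N, n w = 1 ∧ n w₀ ∉ Z) (q : Q) :
    Pi.mulSingle w₀ q ∈ N := by
  have := Fintype.ofFinite W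
  -- one coordinate
  have h1 : ∀ w, w ≠ w₀ → (KS N {w}).map (Pi.evalMonoidHom (fun _ : W => Q) w₀) = ⊤ := by
    intro w hw
    refine hnor _ ⟨?_⟩ fun hc => ?_
    · rintro _ ⟨n, ⟨hn, hn'⟩, rfl⟩ g
      obtain ⟨m, hm, rfl⟩ := hsurj g
      refine ⟨m * n * m⁻¹, ⟨N.mul_mem (N.mul_mem hm hn) (N.inv_mem hm), fun w' hw' => ?_⟩, rfl⟩
      show m w' * n w' * (m w')⁻¹ = 1
      rw [hn' w' hw', mul_one, mul_inv_cancel]
    · obtain ⟨n, hn, hn1, hn2⟩ := hsep w hw
      exact hn2 (hc ⟨n, ⟨hn, fun w' hw' => by rw [Finset.mem_singleton.1 hw']; exact hn1⟩, rfl⟩)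
  have h2 : ∀ S : Finset W, w₀ ∉ S → (KS N S).map (Pi.evalMonoidHom (fun _ : W => Q) w₀) = ⊤ := by
    intro S
    induction S using Finset.induction_on with
    | empty =>
      intro _
      rw [eq_top_iff]
      intro q _
      obtain ⟨n, hn, hq⟩ := hsurj q
      exact ⟨n, ⟨hn, fun w hw => absurd hw (Finset.notMem_empty w)⟩, hq⟩
    | insert w S hw ih =>
      intro hS
      have hw0 : w ≠ w₀ := fun h => hS (by rw [h]; exact Finset.mem_insert_self _ _)
      have hS' : w₀ ∉ S := fun h => hS (Finset.mem_insert_of_mem h)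
      rw [eq_top_iff, ← hperf, commutator_def, Subgroup.commutator_le]
      intro a _ b _
      have ha : a ∈ (KS N S).map (Pi.evalMonoidHom (fun _ : W => Q) w₀) := by rw [ih hS']; trivial
      have hb : b ∈ (KS N {w}).map (Pi.evalMonoidHom (fun _ : W => Q) w₀) := by rw [h1 w hw0]; trivial
      obtain ⟨n, ⟨hn, hn'⟩, rfl⟩ := ha
      obtain ⟨m, ⟨hm, hm'⟩, rfl⟩ := hb
      refine ⟨n * m * n⁻¹ * m⁻¹, ⟨?_, fun w' hw' => ?_⟩, rfl⟩
      · exact N.mul_mem (N.mul_mem (N.mul_mem hn hm) (N.inv_mem hn)) (N.inv_mem hm)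
      · show n w' * m w' * (n w')⁻¹ * (m w')⁻¹ = 1
        rcases Finset.mem_insert.1 hw' with h | h
        · rw [h, hm' w (Finset.mem_singleton_self w)]
          simp
        · rw [hn' w' h]
          simp
  have h3 : q ∈ (KS N (Finset.univ.erase w₀)).map (Pi.evalMonoidHom (fun _ : W => Q) w₀) := by
    rw [h2 _ (Finset.notMem_erase _ _)]; trivial
  obtain ⟨n, ⟨hn, hn'⟩, hq⟩ := h3
  have h4 : Pi.mulSingle w₀ q = n := by
    funext w
    by_cases hw : w = w₀
    · subst hw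
      rw [Pi.mulSingle_eq_same]
      exact hq.symm
    · rw [Pi.mulSingle_eq_of_ne hw]
      exact (hn' w (Finset.mem_erase.2 ⟨hw, Finset.mem_univ w⟩)).symm
  rw [h4]
  exact hn

end Cfsg.Agent.H557.Gp

end

section
/-!
# S2187, non-commuting preimage: block diagonal operators

`cyc` : the centralizer of a non-scalar element `k` of the Heisenberg group consists of polynomials in `k`.
`Bd b h` : the block diagonal operator with blocks `h w` with respect to the basis `b` indexed by `Fin p × W`.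
-/

set_option autoImplicit false
set_option linter.unusedSectionVars false

namespace Cfsg.Agent.H557.Gp

open Cfsg Cfsg.Geo
open scoped MatrixGroups Matrix
open Cfsg.Agent.H847.Bs Cfsg.Agent.H557.Bs
open Cfsg.Agent.H321.Ker

universe u v

section Cyc

variable {F : Type u} [Field F] {p : ℕ} [NeZero p]

/-- the centralizer of an operator with a cyclic vector -/
theorem of_cyclic {k h : Matrix (Fin p) (Fin p) F} (hc : h * k = k * h) (v : Fin p → F)
    (hv : ∀ w, ∃ Q : Polynomial F, Polynomial.aeval k Q *ᵥ v = w) : ∃ Q : Polynomial F, h = Polynomial.aeval k Q := by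
  obtain ⟨Q, hQ⟩ := hv (h *ᵥ v)
  refine ⟨Q, Matrix.mulVec_injective.eq_iff.1 (funext fun w => ?_)⟩
  obtain ⟨R, rfl⟩ := hv w
  have hcR : h * Polynomial.aeval k R = Polynomial.aeval k R * h := by
    induction R using Polynomial.induction_on' with
    | add f g hf hg => rw [map_add, mul_add, add_mul, hf, hg]
    | monomial n a =>
      have h1 : Commute h (k ^ n) := (show Commute h k from hc).pow_right n
      rw [Polynomial.aeval_monomial, ← mul_assoc, mul_assoc _ _ h, ← h1.eq, ← mul_assoc]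
      congr 1
      exact (Algebra.commutes a h).symm
  show h *ᵥ (Polynomial.aeval k R *ᵥ v) = Polynomial.aeval k Q *ᵥ (Polynomial.aeval k R *ᵥ v)
  rw [Matrix.mulVec_mulVec, hcR, ← Matrix.mulVec_mulVec, ← hQ, Matrix.mulVec_mulVec, Matrix.mulVec_mulVec, ← map_mul,
    ← map_mul, mul_comm]

/-- natural numbers as indices -/
def idx (p : ℕ) [NeZero p] (x : ℕ) : Fin p := ⟨x % p, Nat.mod_lt _ (Nat.pos_of_ne_zero (NeZero.ne p))⟩

theorem idx_succ (x : ℕ) : idx p (x + 1) = idx p x + 1 := by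
  apply Fin.ext
  rw [val_succ]
  show (x + 1) % p = (x % p + 1) % p
  rw [Nat.mod_add_mod]

theorem idx_val (a : Fin p) : idx p (a : ℕ) = a := Fin.ext (Nat.mod_eq_of_lt a.2)

theorem Bm_pow_idx (β : Fˣ) (j x : ℕ) : ∃ u : F, u ≠ 0 ∧
    ((Bm p β ^ j : GL (Fin p) F) : Matrix (Fin p) (Fin p) F) *ᵥ Pi.single (idx p x) 1 = u • Pi.single (idx p (x + j)) 1 := by
  induction j with
  | zero =>
    refine ⟨1, one_ne_zero, ?_⟩
    rw [pow_zero, Units.val_one, Matrix.one_mulVec, add_zero, one_smul]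
  | succ j ih =>
    obtain ⟨u, hu, h⟩ := ih
    refine ⟨u * (if idx p (x + j) + 1 = 0 then (β : F) else 1), ?_, ?_⟩
    · refine mul_ne_zero hu ?_
      split_ifs
      · exact β.ne_zero
      · exact one_ne_zero
    · rw [pow_succ', Units.val_mul, ← Matrix.mulVec_mulVec, h, Matrix.mulVec_smul, Bm_mulVec_single, smul_smul,
        ← idx_succ]
      rfl

theorem k_pow_idx {ζ β z : Fˣ} (i j : ℕ) (m x : ℕ) : ∃ u : F, u ≠ 0 ∧
    (((sc p z * (Dm p ζ ^ i * Bm p β ^ j)) ^ m : GL (Fin p) F) : Matrix (Fin p) (Fin p) F) *ᵥ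
      Pi.single (idx p x) 1 = u • Pi.single (idx p (x + m * j)) 1 := by
  induction m with
  | zero =>
    refine ⟨1, one_ne_zero, ?_⟩
    rw [pow_zero, Units.val_one, Matrix.one_mulVec, zero_mul, add_zero, one_smul]
  | succ m ih =>
    obtain ⟨u, hu, h⟩ := ih
    obtain ⟨u', hu', h'⟩ := Bm_pow_idx (p := p) β j (x + m * j)
    refine ⟨u * (z * (u' * ((ζ ^ (((idx p (x + m * j + j)) : ℕ) * i) : Fˣ) : F))), ?_, ?_⟩
    · exact mul_ne_zero hu (mul_ne_zero z.ne_zero (mul_ne_zero hu' (Units.ne_zero _)))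
    · rw [pow_succ', Units.val_mul, ← Matrix.mulVec_mulVec, h, Matrix.mulVec_smul, Units.val_mul,
        ← Matrix.mulVec_mulVec, Units.val_mul, ← Matrix.mulVec_mulVec, h', Matrix.mulVec_smul, Dm_pow_coe, sc_coe,
        Matrix.smul_mulVec, Matrix.one_mulVec]
      have e : (Matrix.diagonal fun a : Fin p => ((ζ ^ ((a : ℕ) * i) : Fˣ) : F)) *ᵥ
          Pi.single (idx p (x + m * j + j)) 1 =
          ((ζ ^ (((idx p (x + m * j + j)) : ℕ) * i) : Fˣ) : F) • Pi.single (idx p (x + m * j + j)) (1 : F) := by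
        rw [Matrix.diagonal_mulVec_single, mul_one]
        funext a
        rw [Pi.smul_apply, Pi.single_apply, Pi.single_apply, smul_eq_mul]
        split_ifs <;> simp
      rw [e, smul_smul, smul_smul, smul_smul]
      have e2 : x + m * j + j = x + (m + 1) * j := by ring
      rw [e2, mul_assoc, mul_assoc]

theorem orderOf_eq (hp : p.Prime) {ζ : Fˣ} (hζ : ζ ^ p = 1) (hζ1 : ζ ≠ 1) : orderOf ζ = p :=
  orderOf_eq_prime (hp := ⟨hp⟩) hζ hζ1

/-- **centralizers in the Heisenberg case** -/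
theorem cyc (hp : p.Prime) {ζ β : Fˣ} (hζ : ζ ^ p = 1) (hζ1 : ζ ≠ 1) {k : GL (Fin p) F} (hk : k ∈ Hs p ζ β)
    (hns : k ∉ scalars (Fin p) F) {h : Matrix (Fin p) (Fin p) F} (hc : h * k = k * h) :
    ∃ Q : Polynomial F, h = Polynomial.aeval (k : Matrix (Fin p) (Fin p) F) Q := by
  obtain ⟨z, i, j, hj, rfl⟩ := mem_Hs_form' hζ hk
  rcases Nat.eq_zero_or_pos j with rfl | hj0
  · -- diagonal
    have hi : ¬ p ∣ i := by
      rintro ⟨m, rfl⟩
      apply hns
      rw [pow_zero, mul_one, pow_mul, Dm_pow_eq hζ, one_pow, mul_one]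
      exact sc_mem z
    let node : Fin p → F := fun a => z * ((ζ ^ ((a : ℕ) * i) : Fˣ) : F)
    have hnode : Function.Injective node := by
      intro a a' haa
      have h1 : (ζ ^ ((a : ℕ) * i) : Fˣ) = ζ ^ ((a' : ℕ) * i) := Units.ext (mul_left_cancel₀ z.ne_zero haa)
      rw [pow_inj_mod, orderOf_eq hp hζ hζ1] at h1
      have h2 : (a : ℕ) ≡ (a' : ℕ) [MOD p] :=
        Nat.ModEq.cancel_right_of_coprime ((Nat.Prime.coprime_iff_not_dvd hp).2 hi) h1
      apply Fin.ext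
      rwa [Nat.ModEq, Nat.mod_eq_of_lt a.2, Nat.mod_eq_of_lt a'.2] at h2
    have hkd : ((sc p z * (Dm p ζ ^ i * Bm p β ^ 0) : GL (Fin p) F) : Matrix (Fin p) (Fin p) F) =
        Matrix.diagonal node := by
      rw [pow_zero, mul_one, Units.val_mul, Dm_pow_coe, sc_coe, Matrix.smul_mul, one_mul]
      ext a a'
      rw [Matrix.smul_apply, Matrix.diagonal_apply, Matrix.diagonal_apply]
      split_ifs
      · rfl
      · exact smul_zero _
    rw [hkd] at hc ⊢
    refine of_cyclic hc (fun _ => 1) fun w => ?_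
    classical
    refine ⟨Lagrange.interpolate Finset.univ node w, ?_⟩
    have hQ : ∀ a, (Lagrange.interpolate Finset.univ node w).eval (node a) = w a := fun a =>
      Lagrange.eval_interpolate_at_node w (hnode.injOn) (Finset.mem_univ a)
    have hdiag : ∀ Q : Polynomial F, Polynomial.aeval (Matrix.diagonal node) Q = Matrix.diagonal fun a => Q.eval (node a) := by
      intro Q
      induction Q using Polynomial.induction_on' with
      | add f g hf hg =>
        rw [map_add, hf, hg, Matrix.diagonal_add]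
        congr 1
        funext a
        rw [Polynomial.eval_add]
      | monomial n a =>
        rw [Polynomial.aeval_monomial, Matrix.diagonal_pow, Matrix.algebraMap_eq_diagonal, Matrix.diagonal_mul_diagonal]
        congr 1
        funext b
        rw [Polynomial.eval_monomial]
        rfl
    rw [hdiag]
    funext a
    rw [Matrix.mulVec_diagonal, mul_one, hQ]
  · refine of_cyclic hc (Pi.single (idx p 0) 1) fun w => ?_
    have hcop : Nat.Coprime j p := ((Nat.Prime.coprime_iff_not_dvd hp).2 (Nat.not_dvd_of_pos_of_lt hj0 hj)).symm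
    obtain ⟨m, -, hm⟩ := Nat.exists_mul_mod_eq_one_of_coprime hcop hp.one_lt
    have hbas : ∀ a : Fin p, ∃ Q : Polynomial F,
        Polynomial.aeval ((sc p z * (Dm p ζ ^ i * Bm p β ^ j) : GL (Fin p) F) : Matrix (Fin p) (Fin p) F) Q *ᵥ
          Pi.single (idx p 0) 1 = Pi.single a 1 := by
      intro a
      obtain ⟨u, hu, h1⟩ := k_pow_idx (p := p) (ζ := ζ) (β := β) (z := z) i j (a * m) 0
      refine ⟨Polynomial.monomial (a * m) u⁻¹, ?_⟩
      rw [Polynomial.aeval_monomial, ← Algebra.smul_def, Matrix.smul_mulVec, ← Units.val_pow_eq_pow_val, h1, smul_smul,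
        inv_mul_cancel₀ hu, one_smul]
      congr 1
      apply Fin.ext
      show (0 + (a : ℕ) * m * j) % p = a
      rw [zero_add, mul_assoc, mul_comm m j, Nat.mul_mod, hm, mul_one, Nat.mod_mod, Nat.mod_eq_of_lt a.2]
    choose Q hQ using hbas
    refine ⟨∑ a, w a • Q a, ?_⟩
    rw [map_sum, Matrix.sum_mulVec]
    have h2 : ∀ a, (Polynomial.aeval ((sc p z * (Dm p ζ ^ i * Bm p β ^ j) : GL (Fin p) F) : Matrix (Fin p) (Fin p) F))
        (w a • Q a) *ᵥ Pi.single (idx p 0) 1 = w a • Pi.single a (1 : F) := by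
      intro a
      rw [map_smul, Matrix.smul_mulVec, hQ]
    rw [Finset.sum_congr rfl fun a _ => h2 a]
    funext a
    rw [Finset.sum_apply, Finset.sum_eq_single a]
    · simp
    · intro b _ hb
      simp [hb.symm]
    · simp

end Cyc

end Cfsg.Agent.H557.Gp

end

section
/-!
# S2187, non-commuting preimage: the blocks

`block_mem` : if the operators `a = diag(ζ^i)`, `f` = shift (the same in all blocks) and operators `e` separating the
blocks commute with `E` up to scalars then `M` contains `S` acting on one block.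
-/

set_option autoImplicit false
set_option linter.unusedSectionVars false

namespace Cfsg.Agent.H557.Gp

open Cfsg Cfsg.Geo
open scoped MatrixGroups Matrix
open Cfsg.Agent.H847.Bs Cfsg.Agent.H557.Bs
open Cfsg.Agent.H321.Ker

universe u v

variable {F : Type u} [Field F] {V : Type v} [AddCommGroup V] [Module F V] {W : Type} [Fintype W] [DecidableEq W]
  {p : ℕ} [NeZero p]

/-- block diagonal matrices -/
def bdA (p : ℕ) (W : Type) [Fintype W] [DecidableEq W] (F : Type u) [Field F] :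
    (W → Matrix (Fin p) (Fin p) F) →ₐ[F] Matrix (Fin p × W) (Fin p × W) F :=
  { Matrix.blockDiagonalRingHom (Fin p) W F with
    commutes' := fun c => by
      show Matrix.blockDiagonal (algebraMap F (W → Matrix (Fin p) (Fin p) F) c) = algebraMap F _ c
      rw [Algebra.algebraMap_eq_smul_one, Algebra.algebraMap_eq_smul_one, Matrix.blockDiagonal_smul,
        Matrix.blockDiagonal_one] }

/-- block diagonal operators -/
noncomputable def Bd (b : Module.Basis (Fin p × W) F V) : (W → Matrix (Fin p) (Fin p) F) →ₐ[F] Module.End F V :=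
  (Matrix.toLinAlgEquiv b).toAlgHom.comp (bdA p W F)

variable (b : Module.Basis (Fin p × W) F V)

theorem Bd_apply (h : W → Matrix (Fin p) (Fin p) F) (j : Fin p) (w : W) :
    Bd b h (b (j, w)) = ∑ i, h w i j • b (i, w) := by
  show Matrix.toLinAlgEquiv b (Matrix.blockDiagonal h) (b (j, w)) = _
  rw [Matrix.toLinAlgEquiv_self, Fintype.sum_prod_type]
  refine Finset.sum_congr rfl fun i _ => ?_
  rw [Finset.sum_eq_single w]
  · rw [Matrix.blockDiagonal_apply, if_pos rfl]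
  · intro w' _ hw'
    rw [Matrix.blockDiagonal_apply, if_neg hw', zero_smul]
  · intro h; exact absurd (Finset.mem_univ _) h

theorem det_Bd (h : W → Matrix (Fin p) (Fin p) F) : LinearMap.det (Bd b h) = ∏ w, (h w).det := by
  have : Bd b h = Matrix.toLin b b (Matrix.blockDiagonal h) := rfl
  rw [this, LinearMap.det_toLin, Matrix.det_blockDiagonal]

/-- invertible block diagonal operators -/
noncomputable def BdG : (W → GL (Fin p) F) →* (V ≃ₗ[F] V) :=
  ((LinearMap.GeneralLinearGroup.generalLinearEquiv F V).toMonoidHom.comp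
    (Units.map (Bd b : (W → Matrix (Fin p) (Fin p) F) →* Module.End F V))).comp
      (MulEquiv.piUnits (M := fun _ : W => Matrix (Fin p) (Fin p) F)).symm.toMonoidHom

theorem BdG_coe (h : W → GL (Fin p) F) :
    ((BdG b h : V ≃ₗ[F] V) : V →ₗ[F] V) = Bd b fun w => (h w : Matrix (Fin p) (Fin p) F) := rfl

theorem BdG_apply (h : W → GL (Fin p) F) (v : V) :
    BdG b h v = Bd b (fun w => (h w : Matrix (Fin p) (Fin p) F)) v := rfl

theorem det_BdG (h : W → GL (Fin p) F) :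
    LinearMap.det ((BdG b h : V ≃ₗ[F] V) : V →ₗ[F] V) = ∏ w, (h w : Matrix (Fin p) (Fin p) F).det := by
  rw [BdG_coe, det_Bd]

/-- the properties of the block group `S` -/
structure Blk (G : Subgroup (V ≃ₗ[F] V)) (ζ β : Fˣ) (S : Subgroup (GL (Fin p) F)) : Prop where
  sl : S ≤ specialLinear (Fin p) F
  gen : Mc S (Hs p ζ β) = S
  perfect : ⁅S, S⁆ = S
  normal : ∀ N : Subgroup (GL (Fin p) F), N ≤ S → (∀ g ∈ S, ∀ x ∈ N, g * x * g⁻¹ ∈ N) →
    N ≤ scalars (Fin p) F ∨ N = S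
  tor : ∃ c : Fˣ, c ^ 3 ≠ 1 ∧ tor p c ∈ S
  conj : ∀ g ∈ S, (Bm p β)⁻¹ * g * Bm p β ∈ S
  mem : ∀ h : W → GL (Fin p) F, (∀ w, h w ∈ S) → BdG b h ∈ G

/-- the chart -/
structure Chart (E : Subgroup (V ≃ₗ[F] V)) (ζ β : Fˣ) (w₀ : W) : Prop where
  a : EO E (Bd b fun _ => (Dm p ζ : Matrix (Fin p) (Fin p) F))
  f : EO E (Bd b fun _ => (Bm p β : Matrix (Fin p) (Fin p) F))
  sep : ∀ w, w ≠ w₀ → ∃ s : W → ℕ, EO E (Bd b fun w => ((ζ ^ s w : Fˣ) : F) • (1 : Matrix (Fin p) (Fin p) F)) ∧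
    ζ ^ s w ≠ ζ ^ s w₀

variable {b} {E G M : Subgroup (V ≃ₗ[F] V)} {ζ β : Fˣ} {w₀ : W} {S : Subgroup (GL (Fin p) F)}

theorem Chart.EO_Hs (C : Chart b E ζ β w₀) (hζ : ζ ^ p = 1) {k : GL (Fin p) F} (hk : k ∈ Hs p ζ β) :
    EO E (Bd b fun _ => (k : Matrix (Fin p) (Fin p) F)) := by
  obtain ⟨z, i, j, -, rfl⟩ := mem_Hs_form' hζ hk
  have h1 : (Bd b fun _ => ((sc p z * (Dm p ζ ^ i * Bm p β ^ j) : GL (Fin p) F) : Matrix (Fin p) (Fin p) F)) =
      (z : F) • ((Bd b fun _ => (Dm p ζ : Matrix (Fin p) (Fin p) F)) ^ i *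
        (Bd b fun _ => (Bm p β : Matrix (Fin p) (Fin p) F)) ^ j) := by
    rw [← map_pow, ← map_pow, ← map_mul, ← map_smul]
    congr 1
    funext w
    rw [Units.val_mul, Units.val_mul, sc_coe, Matrix.smul_mul, one_mul, Units.val_pow_eq_pow_val,
      Units.val_pow_eq_pow_val]
    rfl
  rw [h1]
  exact ((C.a.pow i).mul (C.f.pow j)).smul z

/-- polynomials -/
theorem comm_aeval {T : Module.End F V} {y : V ≃ₗ[F] V} (h : ∀ v, y (T v) = T (y v)) (Q : Polynomial F) (v : V) :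
    Polynomial.aeval T Q (y v) = y (Polynomial.aeval T Q v) := by
  have h1 : Commute (y : V →ₗ[F] V) T := LinearMap.ext h
  have h2 : Commute (y : V →ₗ[F] V) (Polynomial.aeval T Q) := by
    induction Q using Polynomial.induction_on' with
    | add f g hf hg => rw [map_add]; exact hf.add_right hg
    | monomial n a =>
      rw [Polynomial.aeval_monomial]
      have h3 : Commute (y : V →ₗ[F] V) (algebraMap F (Module.End F V) a) := (Algebra.commutes a _).symm
      exact h3.mul_right (h1.pow_right n)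
  exact (LinearMap.congr_fun h2 v).symm

theorem det_of_mem (hS : S ≤ specialLinear (Fin p) F) {g : GL (Fin p) F} (hg : g ∈ S) :
    (g : Matrix (Fin p) (Fin p) F).det = 1 := mem_SL_iff.1 (hS hg)

variable {q : ℕ}

/-- the constant elements -/
theorem const_mem (hE : NC p G E) (hM : Hyps p G E M) (hp : p.Prime) (hζ : ζ ^ p = 1) (hζ1 : ζ ≠ 1)
    (B : Blk b G ζ β S) (C : Chart b E ζ β w₀) {g : GL (Fin p) F} (hg : g ∈ S) : BdG b (fun _ => g) ∈ M := by
  have h1 : Mc S (Hs p ζ β) ≤ (M.comap (BdG b)).comap (Pi.constMonoidHom W (GL (Fin p) F)) := by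
    unfold Mc
    rw [Subgroup.closure_le]
    rintro g ⟨hg, k, hk, hns, hgk⟩
    show BdG b (fun _ => g) ∈ M
    have hc : (g : Matrix (Fin p) (Fin p) F) * k = k * g := congrArg Units.val hgk
    obtain ⟨Q, hQ⟩ := cyc hp hζ hζ1 hk hns hc
    refine mem_of_EO hE hM hp (C.EO_Hs hζ hk) (B.mem _ fun _ => hg) ?_ fun y hy hyT v => ?_
    · rw [det_BdG]
      exact Finset.prod_eq_one fun _ _ => det_of_mem B.sl hg
    · have e : ∀ v, BdG b (fun _ => g) v = Polynomial.aeval (Bd b fun _ => (k : Matrix (Fin p) (Fin p) F)) Q v := by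
        intro v
        rw [BdG_apply, Polynomial.aeval_algHom_apply]
        congr 2
        funext w
        rw [Polynomial.aeval_pi]
        exact hQ
      rw [e, e]
      exact comm_aeval hyT Q v
  rw [B.gen] at h1
  exact h1 hg

theorem aeval_conj {R : Type*} [Ring R] [Algebra F R] (u : Rˣ) (x : R) (Q : Polynomial F) :
    Polynomial.aeval ((↑u⁻¹ : R) * x * u) Q = (↑u⁻¹ : R) * Polynomial.aeval x Q * u := by
  induction Q using Polynomial.induction_on' with
  | add f g hf hg => rw [map_add, map_add, hf, hg, mul_add, add_mul]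
  | monomial n a =>
    rw [Polynomial.aeval_monomial, Polynomial.aeval_monomial, Units.conj_pow', ← mul_assoc, ← mul_assoc,
      Algebra.commutes a (↑u⁻¹ : R), mul_assoc (↑u⁻¹ : R)]

/-- the conjugates of the torus element -/
def gt (p : ℕ) [NeZero p] (β c : Fˣ) (s : ℕ) : GL (Fin p) F := (Bm p β ^ s)⁻¹ * tor p c * Bm p β ^ s

theorem gt_mem (B : Blk b G ζ β S) {c : Fˣ} (hc : tor p c ∈ S) (s : ℕ) : gt p β c s ∈ S := by
  induction s with
  | zero => rw [gt, pow_zero, inv_one, one_mul, mul_one]; exact hc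
  | succ s ih =>
    have h1 := B.conj _ ih
    have h2 : gt p β c (s + 1) = (Bm p β)⁻¹ * gt p β c s * Bm p β := by
      rw [gt, gt, pow_succ]
      group
    rw [h2]
    exact h1

theorem Dm_conj (hζ : ζ ^ p = 1) (s : ℕ) :
    (Bm p β ^ s)⁻¹ * Dm p ζ * Bm p β ^ s = sc p (ζ ^ s) * Dm p ζ := by
  induction s with
  | zero => rw [pow_zero, inv_one, one_mul, mul_one, pow_zero, sc_one, one_mul]
  | succ s ih =>
    have h1 : (Bm p β)⁻¹ * Dm p ζ * Bm p β = sc p ζ * Dm p ζ := by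
      have h2 := Dm_Bm (β := β) hζ
      rw [mul_assoc, h2, ← mul_assoc, ← sc_comm, mul_assoc, inv_mul_cancel_left]
    calc (Bm p β ^ (s + 1))⁻¹ * Dm p ζ * Bm p β ^ (s + 1)
        = (Bm p β)⁻¹ * ((Bm p β ^ s)⁻¹ * Dm p ζ * Bm p β ^ s) * Bm p β := by rw [pow_succ]; group
      _ = (Bm p β)⁻¹ * sc p (ζ ^ s) * Dm p ζ * Bm p β := by rw [ih]; group
      _ = sc p (ζ ^ s) * ((Bm p β)⁻¹ * Dm p ζ * Bm p β) := by rw [← sc_comm]; group
      _ = sc p (ζ ^ (s + 1)) * Dm p ζ := by rw [h1, ← mul_assoc, ← sc_mul, pow_succ]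

/-- the separating elements are in `M` -/
theorem gt_mem_M (hE : NC p G E) (hM : Hyps p G E M) (hp : p.Prime) (hζ : ζ ^ p = 1) (hζ1 : ζ ≠ 1)
    (B : Blk b G ζ β S) (C : Chart b E ζ β w₀) {c : Fˣ} (hc : tor p c ∈ S) {s : W → ℕ}
    (hs : EO E (Bd b fun w => ((ζ ^ s w : Fˣ) : F) • (1 : Matrix (Fin p) (Fin p) F))) :
    BdG b (fun w => gt p β c (s w)) ∈ M := by
  have hcomm : (tor p c : Matrix (Fin p) (Fin p) F) * Dm p ζ = Dm p ζ * tor p c := by
    rw [tor_coe, Dm_coe, Matrix.diagonal_mul_diagonal, Matrix.diagonal_mul_diagonal]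
    congr 1
    funext i
    exact mul_comm _ _
  obtain ⟨Q, hQ⟩ := cyc hp hζ hζ1 (Dm_mem (n := p) ζ β) (Dm_not_scalar hp.two_le hζ1) hcomm
  have hT := hs.mul C.a
  refine mem_of_EO hE hM hp hT (B.mem _ fun w => gt_mem B hc _) ?_ fun y hy hyT v => ?_
  · rw [det_BdG]
    exact Finset.prod_eq_one fun _ _ => det_of_mem B.sl (gt_mem B hc _)
  · have e : ∀ v, BdG b (fun w => gt p β c (s w)) v =
        Polynomial.aeval (Bd b (fun w => ((ζ ^ s w : Fˣ) : F) • (1 : Matrix (Fin p) (Fin p) F)) *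
          Bd b fun _ => (Dm p ζ : Matrix (Fin p) (Fin p) F)) Q v := by
      intro v
      rw [BdG_apply, ← map_mul, Polynomial.aeval_algHom_apply]
      congr 2
      funext w
      rw [Polynomial.aeval_pi]
      show ((gt p β c (s w) : GL (Fin p) F) : Matrix (Fin p) (Fin p) F) =
        Polynomial.aeval ((((ζ ^ s w : Fˣ) : F) • (1 : Matrix (Fin p) (Fin p) F)) * (Dm p ζ : Matrix (Fin p) (Fin p) F)) Q
      have h1 : (((ζ ^ s w : Fˣ) : F) • (1 : Matrix (Fin p) (Fin p) F)) * (Dm p ζ : Matrix (Fin p) (Fin p) F) =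
          ((↑(Bm p β ^ s w)⁻¹ : Matrix (Fin p) (Fin p) F)) * (Dm p ζ : Matrix (Fin p) (Fin p) F) *
            ((Bm p β ^ s w : GL (Fin p) F) : Matrix (Fin p) (Fin p) F) := by
        have h2 := congrArg Units.val (Dm_conj (β := β) hζ (s w))
        rw [Units.val_mul, Units.val_mul, Units.val_mul, sc_coe] at h2
        exact h2.symm
      rw [h1, aeval_conj, ← hQ]
      rfl
    rw [e, e]
    exact comm_aeval hyT Q v

theorem gt_sep (hp : p.Prime) (hp3 : 3 ≤ p) (hζ : ζ ^ p = 1) {c : Fˣ} (hc3 : c ^ 3 ≠ 1) {s₀ s₁ : ℕ}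
    (hs : ζ ^ s₁ ≠ ζ ^ s₀) : gt p β c s₀ * (gt p β c s₁)⁻¹ ∉ scalars (Fin p) F := by
  intro h
  obtain ⟨z, hz⟩ := mem_scalars_iff_sc.1 h
  have hodd : Odd p := hp.odd_of_ne_two (by omega)
  set B := Bm p β with hB
  set t := tor p c with ht
  -- `t B^j t⁻¹ = z B^j`
  have h1 : t * B ^ ((s₀ : ℤ) - s₁) * t⁻¹ = sc p z * B ^ ((s₀ : ℤ) - s₁) := by
    have h2 : (B ^ s₀)⁻¹ * t * B ^ s₀ * ((B ^ s₁)⁻¹ * t * B ^ s₁)⁻¹ = sc p z := hz
    have h3 : t * B ^ ((s₀ : ℤ) - s₁) * t⁻¹ =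
        B ^ s₀ * ((B ^ s₀)⁻¹ * t * B ^ s₀ * ((B ^ s₁)⁻¹ * t * B ^ s₁)⁻¹) * (B ^ s₁)⁻¹ := by
      rw [zpow_sub, zpow_natCast, zpow_natCast]
      group
    rw [h3, h2, ← sc_comm, zpow_sub, zpow_natCast, zpow_natCast, mul_assoc]
  have hj : ¬ (p : ℤ) ∣ (s₀ : ℤ) - s₁ := by
    rintro ⟨m, hm⟩
    apply hs
    have h2 : ζ ^ ((s₀ : ℤ) - s₁) = 1 := by rw [hm, zpow_mul, zpow_natCast, hζ, one_zpow]
    rw [zpow_sub, zpow_natCast, zpow_natCast] at h2
    exact (mul_inv_eq_one.1 h2).symm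
  have hcop : IsCoprime ((s₀ : ℤ) - s₁) (p : ℤ) := by
    have := (Prime.coprime_iff_not_dvd (Nat.prime_iff_prime_int.1 hp)).2 hj
    exact this.symm
  obtain ⟨k, m, hkm⟩ := hcop
  have h4 : t * B * t⁻¹ = (t * B ^ ((s₀ : ℤ) - s₁) * t⁻¹) ^ k * (B ^ (p : ℤ)) ^ m := by
    have h5 : (B ^ (p : ℤ)) ^ m = sc p (β ^ m) := by
      rw [zpow_natCast, Bm_pow_eq, ← sc_zpow]
    have h6 : (t * B ^ ((s₀ : ℤ) - s₁) * t⁻¹) ^ k = t * (B ^ ((s₀ : ℤ) - s₁)) ^ k * t⁻¹ := by
      rw [conj_zpow]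
    have h7 : B = (B ^ ((s₀ : ℤ) - s₁)) ^ k * (B ^ (p : ℤ)) ^ m := by
      rw [← zpow_mul, ← zpow_mul, ← zpow_add]
      have : ((s₀ : ℤ) - s₁) * k + (p : ℤ) * m = 1 := by linarith
      rw [this, zpow_one]
    conv_lhs => rw [h7]
    rw [h6, h5, ← mul_assoc, mul_assoc _ (sc p (β ^ m)) t⁻¹, sc_comm, ← mul_assoc]
  have h8 : t * B * t⁻¹ ∈ Hs p ζ β := by
    rw [h4, h1]
    have hBm : B ∈ Hs p ζ β := Bm_mem ζ β
    have hsc : sc p z ∈ Hs p ζ β := scalars_le_Hs ζ β (sc_mem z)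
    exact (Hs p ζ β).mul_mem ((Hs p ζ β).zpow_mem ((Hs p ζ β).mul_mem hsc ((Hs p ζ β).zpow_mem hBm _)) k)
      ((Hs p ζ β).zpow_mem ((Hs p ζ β).zpow_mem hBm _) m)
  exact hc3 (tor_conj_mem_Hs hp3 hodd hζ h8)

/-- **`M` contains one block.** -/
theorem block_mem (hE : NC p G E) (hM : Hyps p G E M) (hp : p.Prime) (hp3 : 3 ≤ p) (hζ : ζ ^ p = 1) (hζ1 : ζ ≠ 1)
    (B : Blk b G ζ β S) (C : Chart b E ζ β w₀) {g : GL (Fin p) F} (hg : g ∈ S) :
    BdG b (Pi.mulSingle w₀ g) ∈ M := by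
  obtain ⟨c, hc3, hc⟩ := B.tor
  let N : Subgroup (W → ↥S) := M.comap ((BdG b).comp (S.subtype.compLeft W))
  have hmemN : ∀ n : W → ↥S, n ∈ N ↔ BdG b (fun w => (n w : GL (Fin p) F)) ∈ M := fun n => Iff.rfl
  have key := goursat (Q := ↥S) (W := W) (Z := (scalars (Fin p) F).subgroupOf S) ?_ ?_ N w₀ ?_ ?_ ⟨g, hg⟩
  · rw [hmemN] at key
    have e : (fun w => ((Pi.mulSingle w₀ (⟨g, hg⟩ : ↥S) : W → ↥S) w : GL (Fin p) F)) = Pi.mulSingle w₀ g := by
      funext w
      by_cases hw : w = w₀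
      · subst hw
        rw [Pi.mulSingle_eq_same, Pi.mulSingle_eq_same]
      · rw [Pi.mulSingle_eq_of_ne hw, Pi.mulSingle_eq_of_ne hw]; rfl
    rwa [e] at key
  · -- perfect
    have h1 : (commutator ↥S).map S.subtype = ⁅S, S⁆ := by
      rw [commutator_def, Subgroup.map_commutator, ← MonoidHom.range_eq_map, Subgroup.range_subtype]
    rw [B.perfect] at h1
    rw [eq_top_iff]
    intro x _
    have h2 : (x : GL (Fin p) F) ∈ (commutator ↥S).map S.subtype := by rw [h1]; exact x.2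
    obtain ⟨y, hy, hxy⟩ := h2
    have : y = x := Subtype.ext hxy
    rw [← this]
    exact hy
  · -- normal subgroups
    intro N' hN' hnc
    rcases B.normal (N'.map S.subtype) (by rintro _ ⟨x, -, rfl⟩; exact x.2) (by
      rintro g hg _ ⟨x, hx, rfl⟩
      obtain ⟨g', rfl⟩ : ∃ g' : ↥S, S.subtype g' = g := ⟨⟨g, hg⟩, rfl⟩
      exact ⟨g' * x * g'⁻¹, hN'.conj_mem x hx _, by rw [map_mul, map_mul, map_inv]⟩) with h | h
    · exfalso
      apply hnc
      intro x hx
      exact h ⟨x, hx, rfl⟩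
    · rw [eq_top_iff]
      intro x _
      have h2 : (x : GL (Fin p) F) ∈ N'.map S.subtype := by rw [h]; exact x.2
      obtain ⟨y, hy, hxy⟩ := h2
      have : y = x := Subtype.ext hxy
      rw [← this]
      exact hy
  · rintro ⟨g, hg⟩
    exact ⟨fun _ => ⟨g, hg⟩, const_mem hE hM hp hζ hζ1 B C hg, rfl⟩
  · intro w hw
    obtain ⟨s, hs, hne⟩ := C.sep w hw
    refine ⟨fun w' => ⟨gt p β c (s w'), gt_mem B hc _⟩ * ⟨gt p β c (s w), gt_mem B hc _⟩⁻¹, ?_, mul_inv_cancel _, ?_⟩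
    · rw [hmemN]
      have h1 := gt_mem_M hE hM hp hζ hζ1 B C hc hs
      have h2 := const_mem hE hM hp hζ hζ1 B C (gt_mem B hc (s w))
      have h3 := M.mul_mem h1 (M.inv_mem h2)
      rw [← map_inv, ← map_mul] at h3
      exact h3
    · exact gt_sep hp hp3 hζ hc3 hne

end Cfsg.Agent.H557.Gp

end
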