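import Cfsg.Agent.H557.Gp.NcBasis

/-! # S2187, non-commuting preimage: existence of good bases (helper557) -/

section
/-!
# S2187, non-commuting preimage: commutative `E`, common part
-/

set_option autoImplicit false
set_option linter.unusedSectionVars false
set_option linter.unusedVariables false

namespace Cfsg.Agent.H557.Gp

open Cfsg Cfsg.Geo
open scoped MatrixGroups Matrix
open Cfsg.Agent.H847.Bs Cfsg.Agent.H557.Bs
open Cfsg.Agent.H321.Ker

universe u v

variable {F : Type u} {V : Type v} [Field F] [AddCommGroup V] [Module F V]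
variable {p r : ℕ} {ζ : Fˣ} {E : Subgroup (V ≃ₗ[F] V)} {Φ : Frm F V} {N : Subgroup Fˣ} {ν : F}
variable {I Y : Type} [DecidableEq I] [DecidableEq Y] [Fintype I] [Fintype Y]

/-- `E` is commutative and generated by scalars, `x`, and elements of order `p` -/
structure Gen (p : ℕ) (ζ : Fˣ) (E : Subgroup (V ≃ₗ[F] V)) (x : V ≃ₗ[F] V) : Prop where
  hp : p.Prime
  z : ζ ^ p = 1
  z1 : ζ ≠ 1
  comm : ∀ x ∈ E, ∀ y ∈ E, x * y = y * x
  xE : x ∈ E
  gen : ∀ g ∈ E, ∃ (k : ℕ) (r : V ≃ₗ[F] V) (c : F), r ∈ E ∧ r ^ p = 1 ∧ ∀ v, g v = c • (x ^ k) (r v)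

/-- the basis `x^(ε y) u_i` -/
structure BB (p : ℕ) (ζ : Fˣ) (E : Subgroup (V ≃ₗ[F] V)) (x : V ≃ₗ[F] V) (ε : Y → ℕ)
    (b : Module.Basis (I × Y) F V) (u : I → V) : Prop where
  hb : ∀ i y, b (i, y) = (x ^ (ε y)) (u i)
  hu : ∀ r ∈ E, r ^ p = 1 → ∃ s : I → ℕ, ∀ i, r (u i) = (ζ : F) ^ s i • u i
  sep : ∀ i j, i ≠ j → ∃ r ∈ E, r ^ p = 1 ∧ ∃ s : I → ℕ, (∀ i, r (u i) = (ζ : F) ^ s i • u i) ∧ ζ ^ s i ≠ ζ ^ s j
  step : ∀ y, ∃ (y' : Y) (c : F), ∀ i, x (b (i, y)) = c • b (i, y')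

variable {x : V ≃ₗ[F] V} {ε : Y → ℕ} {b : Module.Basis (I × Y) F V} {u : I → V}

theorem Gen.comm_pow (G : Gen p ζ E x) {g : V ≃ₗ[F] V} (hg : g ∈ E) (k : ℕ) (v : V) : g ((x ^ k) v) = (x ^ k) (g v) :=
  LinearEquiv.congr_fun (G.comm g hg (x ^ k) (E.pow_mem G.xE k)) v

theorem BB.r_apply (G : Gen p ζ E x) (B : BB p ζ E x ε b u) {r : V ≃ₗ[F] V} (hr : r ∈ E) {s : I → ℕ}
    (hs : ∀ i, r (u i) = (ζ : F) ^ s i • u i) (i : I) (y : Y) : r (b (i, y)) = (ζ : F) ^ s i • b (i, y) := by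
  rw [B.hb, G.comm_pow hr, hs, map_smul]

theorem BB.th_x (B : BB p ζ E x ε b u) (i j : I) (v : V) : x (th b i j v) = th b i j (x v) := by
  have h : (x : V →ₗ[F] V) * th b i j = th b i j * (x : V →ₗ[F] V) := by
    refine b.ext fun l => ?_
    obtain ⟨l, y⟩ := l
    show x (th b i j (b (l, y))) = th b i j (x (b (l, y)))
    obtain ⟨y', c, hc⟩ := B.step y
    rw [hc, map_smul, th_apply, th_apply]
    show x (if l = i then b (j, y) else 0) = c • (if l = i then b (j, y') else 0)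
    split_ifs with h
    · rw [hc]
    · rw [map_zero, smul_zero]
  exact LinearMap.congr_fun h v

theorem BB.theta (G : Gen p ζ E x) (B : BB p ζ E x ε b u) (i j : I) : EO E (th b i j) := by
  intro g hg
  obtain ⟨k, r, c, hr, hrp, hgv⟩ := G.gen g hg
  obtain ⟨s, hs⟩ := B.hu r hr hrp
  refine ⟨(ζ : F) ^ s j * ((ζ⁻¹ : Fˣ) : F) ^ s i, fun v => ?_⟩
  have hxk : ∀ (k : ℕ) (v : V), (x ^ k) (th b i j v) = th b i j ((x ^ k) v) := by
    intro k
    induction k with
    | zero => intro v; rfl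
    | succ k ih => intro v; rw [coe_pow_apply, ih, B.th_x, coe_pow_apply]
  have h : (r : V →ₗ[F] V) * th b i j = ((ζ : F) ^ s j * ((ζ⁻¹ : Fˣ) : F) ^ s i) • (th b i j * (r : V →ₗ[F] V)) := by
    refine b.ext fun l => ?_
    obtain ⟨l, y⟩ := l
    show r (th b i j (b (l, y))) = ((ζ : F) ^ s j * ((ζ⁻¹ : Fˣ) : F) ^ s i) • th b i j (r (b (l, y)))
    rw [BB.r_apply G B hr hs, map_smul, th_apply]
    show r (if l = i then b (j, y) else 0) =
      ((ζ : F) ^ s j * ((ζ⁻¹ : Fˣ) : F) ^ s i) • (ζ : F) ^ s l • (if l = i then b (j, y) else 0)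
    split_ifs with h
    · rw [BB.r_apply G B hr hs, smul_smul, h, mul_assoc, ← mul_pow, ← Units.val_mul, inv_mul_cancel, Units.val_one, one_pow,
        mul_one]
    · rw [map_zero, smul_zero, smul_zero]
  have h2 : r (th b i j v) = ((ζ : F) ^ s j * ((ζ⁻¹ : Fˣ) : F) ^ s i) • th b i j (r v) := LinearMap.congr_fun h v
  rw [hgv, hgv, h2, map_smul, map_smul, hxk, smul_comm]

theorem BB.dgo_r (G : Gen p ζ E x) (B : BB p ζ E x ε b u) {r : V ≃ₗ[F] V} (hr : r ∈ E) {s : I → ℕ}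
    (hs : ∀ i, r (u i) = (ζ : F) ^ s i • u i) : dgo b (fun x => ((ζ ^ s x.1 : Fˣ) : F)) = (r : V →ₗ[F] V) := by
  refine b.ext fun l => ?_
  obtain ⟨l, y⟩ := l
  rw [dgo_apply]
  show _ = r (b (l, y))
  rw [BB.r_apply G B hr hs, Units.val_pow_eq_pow_val]

/-- the case of lines -/
theorem good_unit [NeZero p] (hE : EA p Φ E) (G : Gen p ζ E x) {b : Module.Basis (I × Unit) F V} {ε : Unit → ℕ}
    (B : BB p ζ E x ε b u) (hg : ∀ x x', Φ.B (b x) (b x') = if x = x' then ν else 0) : Good p ζ N ν Φ E b := by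
  refine ⟨hg, BB.theta G B, ?_, fun i y y' => Relation.ReflTransGen.refl⟩
  rintro ⟨i, y⟩ ⟨j, y'⟩ hij
  obtain ⟨r, hr, -, s, hs, hs'⟩ := B.sep i j (by rintro rfl; exact hij rfl)
  refine ⟨fun x => s x.1, ?_, hs'⟩
  rw [B.dgo_r G hr hs]
  exact hE.EO hr

/-- the case of `Fin p` -/
theorem good_fin [NeZero p] (hE : EA p Φ E) (G : Gen p ζ E x) {b : Module.Basis (I × Fin p) F V}
    (B : BB p ζ E x (fun j : Fin p => (j : ℕ)) b u) (hg : ∀ x x', Φ.B (b x) (b x') = if x = x' then ν else 0)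
    {β : Fˣ} (hβ : ∀ v, (x ^ p) v = (β : F) • v) (hN : β ∈ N) : Good p ζ N ν Φ E b := by
  have hx : ∀ i (j : Fin p), x (b (i, j)) = (if j + 1 = 0 then (β : F) else 1) • b (i, j + 1) := by
    intro i j
    rw [B.hb, B.hb, ← coe_pow_apply, val_succ]
    rcases Nat.lt_or_ge ((j : ℕ) + 1) p with h | h
    · rw [Nat.mod_eq_of_lt h, if_neg, one_smul]
      intro h0
      have h1 := congrArg Fin.val h0
      rw [val_succ, Nat.mod_eq_of_lt h, Fin.val_zero] at h1
      omega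
    · have hj : (j : ℕ) + 1 = p := by have := j.2; omega
      rw [hj, Nat.mod_self, if_pos, hβ, pow_zero]
      · rfl
      · apply Fin.ext
        rw [val_succ, hj, Nat.mod_self, Fin.val_zero]
  -- the diagonal operator
  have hD : EO E (dgo b fun x => ((ζ ^ (x.2 : ℕ) : Fˣ) : F)) := by
    set D := dgo b fun x => ((ζ ^ (x.2 : ℕ) : Fˣ) : F) with hDdef
    have h1 : ∀ v, D (x v) = (ζ : F) • x (D v) := by
      have h : D * (x : V →ₗ[F] V) = (ζ : F) • ((x : V →ₗ[F] V) * D) := by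
        refine b.ext fun l => ?_
        obtain ⟨l, j⟩ := l
        show D (x (b (l, j))) = (ζ : F) • x (D (b (l, j)))
        rw [hx, map_smul, hDdef, dgo_apply, dgo_apply, map_smul, hx, smul_smul, smul_smul, smul_smul]
        congr 1
        show (if j + 1 = 0 then (β : F) else 1) * ((ζ ^ ((j + 1 : Fin p) : ℕ) : Fˣ) : F) = ζ * (ζ ^ (j : ℕ) : Fˣ) * _
        have h2 : ζ ^ ((j + 1 : Fin p) : ℕ) = ζ * ζ ^ (j : ℕ) := by
          rw [val_succ, ← pow_succ', pow_inj_mod, orderOf_eq G.hp G.z G.z1, Nat.mod_mod]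
        rw [h2, Units.val_mul, mul_comm]
      exact fun v => LinearMap.congr_fun h v
    have h2 : ∀ (k : ℕ) (v : V), D ((x ^ k) v) = (ζ : F) ^ k • (x ^ k) (D v) := by
      intro k
      induction k with
      | zero => intro v; rw [pow_zero, pow_zero, one_smul]; rfl
      | succ k ih => intro v; rw [coe_pow_apply, h1, ih, map_smul, smul_smul, coe_pow_apply, pow_succ']
    intro g hg
    obtain ⟨k, r, c, hr, hrp, hgv⟩ := G.gen g hg
    obtain ⟨s, hs⟩ := B.hu r hr hrp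
    have h3 : ∀ v, D (r v) = r (D v) := by
      have h : D * (r : V →ₗ[F] V) = ((r : V →ₗ[F] V) * D) := by
        refine b.ext fun l => ?_
        obtain ⟨l, j⟩ := l
        show D (r (b (l, j))) = r (D (b (l, j)))
        rw [BB.r_apply G B hr hs, map_smul, hDdef, dgo_apply, map_smul, BB.r_apply G B hr hs, smul_comm]
      exact fun v => LinearMap.congr_fun h v
    refine ⟨(((ζ⁻¹ : Fˣ) : F)) ^ k, fun v => ?_⟩
    rw [hgv, hgv, map_smul, h2, h3, smul_smul, smul_smul]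
    congr 1
    rw [mul_assoc, mul_comm c ((ζ : F) ^ k), ← mul_assoc, ← mul_pow, ← Units.val_mul, inv_mul_cancel, Units.val_one,
      one_pow, one_mul]
  have hsep : ∀ i j, i ≠ j → ∃ s : I → ℕ, EO E (dgo b fun x => ((ζ ^ s x.1 : Fˣ) : F)) ∧ ζ ^ s i ≠ ζ ^ s j := by
    intro i j hij
    obtain ⟨r, hr, -, s, hs, hs'⟩ := B.sep i j hij
    refine ⟨s, ?_, hs'⟩
    rw [B.dgo_r G hr hs]
    exact hE.EO hr
  refine ⟨hg, BB.theta G B, ?_, ?_⟩
  · rintro ⟨i, y⟩ ⟨j, y'⟩ hij
    by_cases h : i = j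
    · refine ⟨fun x => (x.2 : ℕ), hD, ?_⟩
      intro h2
      rw [pow_inj_mod, orderOf_eq G.hp G.z G.z1, Nat.mod_eq_of_lt y.2, Nat.mod_eq_of_lt y'.2] at h2
      exact hij (by rw [h, Fin.ext h2])
    · obtain ⟨s, hs, hs'⟩ := hsep i j h
      exact ⟨fun x => s x.1, hs, hs'⟩
  · intro i y y'
    refine Relation.ReflTransGen.single ?_
    let κ : I × Fin p ≃ Fin p × I := Equiv.prodComm I (Fin p)
    refine ⟨I, inferInstance, inferInstance, κ, β, hN, rfl, ?_, ?_, ?_⟩
    · rw [Bd_diag b κ (fun x => ((ζ ^ (x.2 : ℕ) : Fˣ) : F))]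
      · exact hD
      · intro w i j
        rw [Dm_coe, Matrix.diagonal_apply]
        split_ifs with h
        · rw [h]
          rfl
        · rfl
    · have : Bd (b.reindex κ) (fun _ => (Bm p β : Matrix (Fin p) (Fin p) F)) = (x : V →ₗ[F] V) := by
        refine (b.reindex κ).ext fun l => ?_
        obtain ⟨m, i⟩ := l
        have hb : ∀ m, b.reindex κ (m, i) = b (i, m) := by
          intro m
          rw [Module.Basis.reindex_apply]
          rfl
        rw [Bd_apply, hb]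
        show _ = x _
        rw [hx]
        simp only [hb]
        rw [Finset.sum_eq_single (m + 1)]
        · congr 1
          rw [Bm_apply, if_pos rfl]
        · intro k _ hk
          rw [Bm_apply, if_neg hk, zero_smul]
        · intro h; exact absurd (Finset.mem_univ _) h
      rw [this]
      exact hE.EO G.xE
    · intro w hw
      obtain ⟨s, hs, hs'⟩ := hsep w i hw
      refine ⟨s, ?_, hs'⟩
      rw [Bd_diag b κ (fun x => ((ζ ^ s x.1 : Fˣ) : F))]
      · exact hs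
      · intro w i j
        rw [Matrix.smul_apply, Matrix.one_apply, smul_eq_mul, mul_ite, mul_one, mul_zero]
        rfl

end Cfsg.Agent.H557.Gp

end

section
/-!
# S2187, non-commuting preimage: the field `K = F[x]`, `x^p = c` not a `p`-th power
-/

set_option autoImplicit false
set_option linter.unusedSectionVars false
set_option linter.unusedVariables false

namespace Cfsg.Agent.H557.Gp

open Cfsg.Agent.H847.Bs Cfsg.Agent.H557.Bs

universe u v

variable {F : Type u} {V : Type v} [Field F] [AddCommGroup V] [Module F V]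
variable {p r : ℕ} {c : Fˣ} {x : V ≃ₗ[F] V}

/-- the field `K` with its action on `V` -/
structure KK (p : ℕ) (c : Fˣ) (x : V ≃ₗ[F] V) (K : Type u) [Field K] [Algebra F K] where
  /-- the generator -/
  ξ : K
  /-- the power basis -/
  b : Module.Basis (Fin p) F K
  hb : ∀ j, b j = ξ ^ (j : ℕ)
  /-- the action -/
  φ : K →ₐ[F] Module.End F V
  hφ : φ ξ = (x : V →ₗ[F] V)
  hξ : ξ ^ p = algebraMap F K c

theorem exists_KK (hp : p.Prime) (hc : ∀ d : F, d ^ p ≠ (c : F)) (hx : ∀ v, (x ^ p) v = (c : F) • v) :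
    ∃ (K : Type u) (_ : Field K) (_ : Algebra F K), Nonempty (KK p c x K) := by
  have hirr := X_pow_sub_C_irreducible_of_prime hp hc
  have : Fact (Irreducible (Polynomial.X ^ p - Polynomial.C (c : F))) := ⟨hirr⟩
  have hx' : (x : V →ₗ[F] V) ^ p = algebraMap F (Module.End F V) c := by
    refine LinearMap.ext fun v => ?_
    have h1 : ∀ (n : ℕ) (v : V), ((x : V →ₗ[F] V) ^ n) v = (x ^ n) v := by
      intro n
      induction n with
      | zero => intro v; rfl
      | succ n ih => intro v; rw [pow_succ', Module.End.mul_apply, ih, coe_pow_apply]; rfl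
    rw [h1, hx]
    rfl
  have h0 : Polynomial.aeval (x : V →ₗ[F] V) (Polynomial.X ^ p - Polynomial.C (c : F)) = 0 := by
    rw [map_sub, map_pow, Polynomial.aeval_X, Polynomial.aeval_C, hx', sub_self]
  let φ : AdjoinRoot (Polynomial.X ^ p - Polynomial.C (c : F)) →ₐ[F] Module.End F V :=
    Ideal.Quotient.liftₐ _ (Polynomial.aeval (x : V →ₗ[F] V)) (by
      intro a ha
      rw [Ideal.mem_span_singleton] at ha
      obtain ⟨q, rfl⟩ := ha
      rw [map_mul, h0, zero_mul])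
  let pb := AdjoinRoot.powerBasis hirr.ne_zero
  have hdim : pb.dim = p := Polynomial.natDegree_X_pow_sub_C
  refine ⟨AdjoinRoot (Polynomial.X ^ p - Polynomial.C (c : F)), inferInstance, inferInstance, ⟨?_⟩⟩
  refine { ξ := AdjoinRoot.root _, b := pb.basis.reindex (finCongr hdim), hb := ?_, φ := φ, hφ := ?_, hξ := ?_ }
  · intro j
    rw [Module.Basis.reindex_apply, pb.basis_eq_pow]
    rfl
  · exact Polynomial.aeval_X _
  · have h1 := AdjoinRoot.eval₂_root (Polynomial.X ^ p - Polynomial.C (c : F))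
    rw [Polynomial.eval₂_sub, Polynomial.eval₂_X_pow, Polynomial.eval₂_C, sub_eq_zero] at h1
    exact h1

namespace KK

variable {K : Type u} [Field K] [Algebra F K] (D : KK p c x K)

theorem φ_pow (j : ℕ) (v : V) : D.φ (D.ξ ^ j) v = (x ^ j) v := by
  rw [map_pow, D.hφ]
  induction j with
  | zero => rfl
  | succ j ih => rw [pow_succ', Module.End.mul_apply, ih, coe_pow_apply]; rfl

/-- expansions -/
theorem expand (z : K) : z = ∑ j : Fin p, D.b.repr z j • D.ξ ^ (j : ℕ) := by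
  conv_lhs => rw [← D.b.sum_repr z]
  exact Finset.sum_congr rfl fun j _ => by rw [D.hb]

theorem φ_expand (z : K) (v : V) : D.φ z v = ∑ j : Fin p, D.b.repr z j • (x ^ (j : ℕ)) v := by
  conv_lhs => rw [D.expand z]
  rw [map_sum, LinearMap.sum_apply]
  exact Finset.sum_congr rfl fun j _ => by rw [map_smul, LinearMap.smul_apply, φ_pow]

theorem φ_mem {W : Submodule F V} (hW : ∀ w ∈ W, x w ∈ W) (z : K) {w : V} (hw : w ∈ W) : D.φ z w ∈ W := by
  rw [D.φ_expand]
  exact W.sum_mem fun j _ => W.smul_mem _ (pow_preserve hW j w hw)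

theorem φ_inj {z : K} {w : V} (hw : w ≠ 0) (h : D.φ z w = 0) : z = 0 := by
  by_contra hz
  apply hw
  have h1 : D.φ (z⁻¹ * z) w = 0 := by rw [map_mul, Module.End.mul_apply, h, map_zero]
  rw [inv_mul_cancel₀ hz, map_one] at h1
  exact h1

section Herm

variable [Finite F] {Φ : Frm F V}

include D in
theorem finite : Finite K := Finite.of_equiv _ D.b.equivFun.toEquiv.symm

include D in
theorem card (hF : Nat.card F = r ^ 2) : Nat.card K = (r ^ p) ^ 2 := by
  rw [Nat.card_congr D.b.equivFun.toEquiv, Nat.card_fun, hF, Nat.card_fin, ← pow_mul, ← pow_mul, mul_comm]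

theorem dvd_aux (hp : Odd p) (h : p ∣ r + 1) : p * (r + 1) ∣ r ^ p + 1 := by
  have h1 : (∑ i ∈ Finset.range p, (-(r : ℤ)) ^ i) * (-(r : ℤ) - 1) = (-(r : ℤ)) ^ p - 1 := geom_sum_mul _ _
  have h2 : (p : ℤ) ∣ ∑ i ∈ Finset.range p, (-(r : ℤ)) ^ i := by
    have h3 : ∀ i : ℕ, (p : ℤ) ∣ (-(r : ℤ)) ^ i - 1 := by
      intro i
      have h4 : (-(r : ℤ)) - 1 ∣ (-(r : ℤ)) ^ i - 1 := by
        have := sub_dvd_pow_sub_pow (-(r : ℤ)) 1 i
        rwa [one_pow] at this
      refine dvd_trans ?_ h4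
      have h5 : (p : ℤ) ∣ ((r + 1 : ℕ) : ℤ) := Int.natCast_dvd_natCast.2 h
      have h6 : -(r : ℤ) - 1 = -((r + 1 : ℕ) : ℤ) := by push_cast; ring
      rw [h6]
      exact (dvd_neg).2 h5
    have h7 : (∑ i ∈ Finset.range p, (-(r : ℤ)) ^ i) = (∑ i ∈ Finset.range p, ((-(r : ℤ)) ^ i - 1)) + p := by
      rw [Finset.sum_sub_distrib]
      simp
    rw [h7]
    exact dvd_add (Finset.dvd_sum fun i _ => h3 i) (dvd_refl _)
  have h3 : (p : ℤ) * (-(r : ℤ) - 1) ∣ (-(r : ℤ)) ^ p - 1 := by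
    rw [← h1]
    exact mul_dvd_mul h2 (dvd_refl _)
  rw [hp.neg_pow] at h3
  have h4 : ((p * (r + 1) : ℕ) : ℤ) ∣ ((r ^ p + 1 : ℕ) : ℤ) := by
    obtain ⟨m, hm⟩ := h3
    refine ⟨m, ?_⟩
    push_cast
    linear_combination -hm
  exact Int.natCast_dvd_natCast.1 h4

theorem ξ_pow (hodd : Odd p) (hpr : p ∣ r + 1) (hc : c ^ (r + 1) = 1) : D.ξ ^ (r ^ p) * D.ξ = 1 := by
  rw [← pow_succ]
  obtain ⟨m, hm⟩ := dvd_aux hodd hpr
  rw [hm, mul_assoc, pow_mul, D.hξ, pow_mul, ← map_pow, ← Units.val_pow_eq_pow_val, hc, Units.val_one, map_one, one_pow]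

theorem pow_rp (hF : Nat.card F = r ^ 2) (hodd : Odd p) (a : F) : a ^ (r ^ p) = a ^ r := by
  obtain ⟨m, rfl⟩ := hodd
  induction m with
  | zero => rw [mul_zero, zero_add, pow_one]
  | succ m ih =>
    have : 2 * (m + 1) + 1 = (2 * m + 1) + 2 := by ring
    rw [this, pow_add, pow_mul, ih, sq, pow_mul, pow_r_pow_r hF]

theorem star_smul (hF : Nat.card F = r ^ 2) (hodd : Odd p) (a : F) (z : K) : (a • z) ^ (r ^ p) = a ^ r • z ^ (r ^ p) := by
  rw [smul_pow, pow_rp hF hodd]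

theorem star_sum [Finite K] (hK : Nat.card K = (r ^ p) ^ 2) (s : Finset (Fin p)) (g : Fin p → K) :
    (∑ j ∈ s, g j) ^ (r ^ p) = ∑ j ∈ s, g j ^ (r ^ p) := by
  induction s using Finset.induction_on with
  | empty =>
    rw [Finset.sum_empty, Finset.sum_empty, zero_pow]
    have := two_le_of_card hK
    omega
  | insert j s hj ih => rw [Finset.sum_insert hj, Finset.sum_insert hj, add_pow_r hK, ih]

/-- adjoints -/
theorem adj (hΦ : IsHerm r Φ) (hx : x ∈ Φ.Iso) (hodd : Odd p) (hpr : p ∣ r + 1) (hc : c ^ (r + 1) = 1) (z : K) (v w : V) :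
    Φ.B (D.φ z v) w = Φ.B v (D.φ (z ^ (r ^ p)) w) := by
  have := D.finite
  have hK := D.card hΦ.card
  have hξ := D.ξ_pow hodd hpr hc
  have hξj : ∀ j : ℕ, (D.ξ ^ j) ^ (r ^ p) * D.ξ ^ j = 1 := by
    intro j
    rw [← pow_mul, mul_comm j, pow_mul, ← mul_pow, hξ, one_pow]
  have h1 : ∀ (j : ℕ) (v w : V), Φ.B ((x ^ j) v) w = Φ.B v (D.φ ((D.ξ ^ j) ^ (r ^ p)) w) := by
    intro j v w
    have h2 : w = (x ^ j) (D.φ ((D.ξ ^ j) ^ (r ^ p)) w) := by
      rw [← D.φ_pow, ← Module.End.mul_apply, ← map_mul, mul_comm, hξj, map_one]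
      rfl
    conv_lhs => rw [h2]
    exact pow_iso hx j _ _
  have h3 : D.φ (z ^ (r ^ p)) w = ∑ j : Fin p, (D.b.repr z j) ^ r • D.φ ((D.ξ ^ (j : ℕ)) ^ (r ^ p)) w := by
    conv_lhs => rw [D.expand z]
    rw [star_sum hK, map_sum, LinearMap.sum_apply]
    exact Finset.sum_congr rfl fun j _ => by rw [star_smul hΦ.card hodd, map_smul, LinearMap.smul_apply]
  rw [D.φ_expand, h3]
  have hl : ∀ s : Finset (Fin p), Φ.B (∑ j ∈ s, D.b.repr z j • (x ^ (j : ℕ)) v) w =
      Φ.B v (∑ j ∈ s, (D.b.repr z j) ^ r • D.φ ((D.ξ ^ (j : ℕ)) ^ (r ^ p)) w) := by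
    intro s
    induction s using Finset.induction_on with
    | empty => rw [Finset.sum_empty, Finset.sum_empty, B_zero_left, B_zero_r]
    | insert j s hj ih =>
      rw [Finset.sum_insert hj, Finset.sum_insert hj, Φ.add_left, Φ.add_right, ih, Φ.smul_left, Φ.smul_right, h1, hΦ.s,
        pow_r_pow_r hΦ.card]
  exact hl _

variable [NeZero p]

/-- the coefficient functional -/
noncomputable def τ : K →ₗ[F] F := D.b.coord 0

theorem τ_pow (j : Fin p) : D.τ (D.ξ ^ (j : ℕ)) = if j = 0 then 1 else 0 := by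
  rw [← D.hb, τ, Module.Basis.coord_apply, Module.Basis.repr_self, Finsupp.single_apply]

theorem τ_star (hF : Nat.card F = r ^ 2) (hodd : Odd p) (hpr : p ∣ r + 1) (hc : c ^ (r + 1) = 1) (z : K) :
    D.τ (z ^ (r ^ p)) = D.τ z ^ r := by
  have := D.finite
  have hK := D.card hF
  have hξ := D.ξ_pow hodd hpr hc
  have hr0 : r ≠ 0 := by have := two_le_of_card hF; omega
  -- `τ (ξ^j)^*`
  have h1 : ∀ j : Fin p, D.τ ((D.ξ ^ (j : ℕ)) ^ (r ^ p)) = if j = 0 then 1 else 0 := by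
    intro j
    split_ifs with h
    · rw [h, Fin.val_zero, pow_zero, one_pow]
      have := D.τ_pow 0
      rwa [Fin.val_zero, pow_zero, if_pos rfl] at this
    · have hj0 : (j : ℕ) ≠ 0 := fun h0 => h (Fin.ext (by rw [h0, Fin.val_zero]))
      have hj := j.2
      have h2 : (D.ξ ^ (j : ℕ)) ^ (r ^ p) = ((c⁻¹ : Fˣ) : F) • D.ξ ^ (p - (j : ℕ)) := by
        have h3 : D.ξ ^ (p - (j : ℕ)) * D.ξ ^ (j : ℕ) = algebraMap F K c := by
          rw [← pow_add, Nat.sub_add_cancel hj.le, D.hξ]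
        have h4 : (D.ξ ^ (j : ℕ)) ^ (r ^ p) * D.ξ ^ (j : ℕ) = 1 := by
          rw [← pow_mul, mul_comm (j : ℕ), pow_mul, ← mul_pow, hξ, one_pow]
        have h5 : (((c⁻¹ : Fˣ) : F) • D.ξ ^ (p - (j : ℕ))) * D.ξ ^ (j : ℕ) = 1 := by
          rw [smul_mul_assoc, h3, Algebra.smul_def, ← map_mul, ← Units.val_mul, inv_mul_cancel, Units.val_one, map_one]
        have h6 : D.ξ ^ (j : ℕ) ≠ 0 := right_ne_zero_of_mul (by rw [h4]; exact one_ne_zero)
        exact mul_right_cancel₀ h6 (h4.trans h5.symm)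
      rw [h2, map_smul]
      have h3 := D.τ_pow ⟨p - (j : ℕ), by omega⟩
      rw [if_neg] at h3
      · have h4 : D.τ (D.ξ ^ (p - (j : ℕ))) = 0 := h3
        rw [h4, smul_zero]
      · intro h0
        have := congrArg Fin.val h0
        rw [Fin.val_zero] at this
        have h5 : p - (j : ℕ) = 0 := this
        omega
  have h2 : D.τ z = D.b.repr z 0 := rfl
  have h3 : D.τ (z ^ (r ^ p)) = ∑ j : Fin p, (D.b.repr z j) ^ r * (if j = 0 then 1 else 0) := by
    conv_lhs => rw [D.expand z]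
    rw [star_sum hK, map_sum]
    exact Finset.sum_congr rfl fun j _ => by rw [star_smul hF hodd, map_smul, h1, smul_eq_mul]
  rw [h3, h2]
  simp

/-- the functional of a vector -/
noncomputable def T (Φ : Frm F V) (w : V) : K →ₗ[F] F where
  toFun z := Φ.B (D.φ z w) w
  map_add' a b := by rw [map_add, LinearMap.add_apply, Φ.add_left]
  map_smul' a l := by rw [map_smul, LinearMap.smul_apply, Φ.smul_left, RingHom.id_apply, smul_eq_mul]

theorem T_apply (w : V) (z : K) : D.T Φ w z = Φ.B (D.φ z w) w := rfl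

theorem exists_h (g : K →ₗ[F] F) : ∃ h : K, ∀ z, g z = D.τ (h * z) := by
  have hfin : Module.Finite F K := Module.Finite.of_basis D.b
  let L : K →ₗ[F] Module.Dual F K :=
    { toFun := fun h => D.τ ∘ₗ LinearMap.mulLeft F h
      map_add' := fun a b => by
        ext z
        simp only [LinearMap.comp_apply, LinearMap.mulLeft_apply, LinearMap.add_apply]
        rw [add_mul, map_add]
      map_smul' := fun a l => by
        ext z
        simp only [LinearMap.comp_apply, LinearMap.mulLeft_apply, LinearMap.smul_apply, RingHom.id_apply]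
        rw [smul_mul_assoc, map_smul] }
  have hL : ∀ h z, L h z = D.τ (h * z) := fun _ _ => rfl
  have hinj : Function.Injective L := by
    rw [← LinearMap.ker_eq_bot, LinearMap.ker_eq_bot']
    intro h hh
    by_contra h0
    have h1 : L h h⁻¹ = 0 := by rw [hh]; rfl
    rw [hL, mul_inv_cancel₀ h0] at h1
    have h2 := D.τ_pow 0
    rw [Fin.val_zero, pow_zero, if_pos rfl, h1] at h2
    exact zero_ne_one h2
  have hsurj : Function.Surjective L :=
    (LinearMap.injective_iff_surjective_of_finrank_eq_finrank (Subspace.dual_finrank_eq).symm).1 hinj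
  obtain ⟨h, hh⟩ := hsurj g
  exact ⟨h, fun z => by rw [← hL, hh]⟩

/-- **orthonormal vectors** -/
theorem exists_u (hΦ : IsHerm r Φ) (hx : x ∈ Φ.Iso) (hodd : Odd p) (hpr : p ∣ r + 1) (hc : c ^ (r + 1) = 1) {w : V}
    (hw : ∃ z z' : K, Φ.B (D.φ z w) (D.φ z' w) ≠ 0) :
    ∃ y : K, ∀ i j : Fin p, Φ.B ((x ^ (i : ℕ)) (D.φ y w)) ((x ^ (j : ℕ)) (D.φ y w)) = if i = j then 1 else 0 := by
  have := D.finite
  have hK := D.card hΦ.card
  have hadj := D.adj hΦ hx hodd hpr hc
  have hR : ∀ z : K, (z ^ (r ^ p)) ^ (r ^ p) = z := pow_r_pow_r hK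
  obtain ⟨h, hh⟩ := D.exists_h (D.T Φ w)
  have hτ := D.τ_star hΦ.card hodd hpr hc
  have hinj : ∀ {g g' : K}, (∀ z, D.τ (g * z) = D.τ (g' * z)) → g = g' := by
    intro g g' hg
    by_contra hne
    have h1 : g - g' ≠ 0 := sub_ne_zero.2 hne
    have h2 := hg (g - g')⁻¹
    rw [← sub_eq_zero, ← map_sub, ← sub_mul, mul_inv_cancel₀ h1] at h2
    have h3 := D.τ_pow 0
    rw [Fin.val_zero, pow_zero, if_pos rfl, h2] at h3
    exact zero_ne_one h3
  -- `h` is fixed
  have hfix : h ^ (r ^ p) = h := by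
    apply hinj
    intro z
    obtain ⟨y, rfl⟩ : ∃ y, y ^ (r ^ p) = z := ⟨z ^ (r ^ p), hR z⟩
    rw [← mul_pow, hτ, ← hh, ← hh, T_apply, T_apply, ← hΦ.symm, hadj (y ^ (r ^ p)), hR]
  have h0 : h ≠ 0 := by
    rintro rfl
    obtain ⟨z, z', hz⟩ := hw
    apply hz
    have h1 := hadj (z' ^ (r ^ p)) (D.φ z w) w
    rw [hR] at h1
    rw [← h1, ← Module.End.mul_apply, ← map_mul, ← T_apply, hh, zero_mul, map_zero]
  obtain ⟨y, hy⟩ := exists_norm hK (n := h⁻¹) (by rw [inv_pow, hfix])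
  refine ⟨y, ?_⟩
  have hT : ∀ z, Φ.B (D.φ z (D.φ y w)) (D.φ y w) = D.τ z := by
    intro z
    have h1 := hadj (y ^ (r ^ p)) (D.φ z (D.φ y w)) w
    rw [hR] at h1
    rw [← h1, ← Module.End.mul_apply, ← map_mul, ← Module.End.mul_apply, ← map_mul, ← T_apply, hh]
    congr 1
    have h2 : h * (y ^ (r ^ p) * z * y) = (y ^ (r ^ p + 1) * h) * z := by ring
    rw [h2, hy, inv_mul_cancel₀ h0, one_mul]
  have hle : ∀ i j : Fin p, (j : ℕ) ≤ i → Φ.B ((x ^ (i : ℕ)) (D.φ y w)) ((x ^ (j : ℕ)) (D.φ y w)) =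
      if i = j then 1 else 0 := by
    intro i j hij
    have h1 : (x ^ (i : ℕ)) (D.φ y w) = (x ^ (j : ℕ)) ((x ^ ((i : ℕ) - j)) (D.φ y w)) := by
      have : x ^ (i : ℕ) = x ^ (j : ℕ) * x ^ ((i : ℕ) - j) := by rw [← pow_add, Nat.add_sub_cancel' hij]
      rw [this]; rfl
    have h2 : ((i : ℕ) - j) < p := by have := i.2; omega
    rw [h1, pow_iso hx, ← D.φ_pow, hT]
    have h3 := D.τ_pow ⟨(i : ℕ) - j, h2⟩
    have h4 : D.τ (D.ξ ^ ((i : ℕ) - j)) = if (⟨(i : ℕ) - j, h2⟩ : Fin p) = 0 then 1 else 0 := h3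
    rw [h4]
    congr 1
    rw [eq_iff_iff, Fin.ext_iff, Fin.ext_iff, Fin.val_zero]
    show (i : ℕ) - j = 0 ↔ _
    omega
  intro i j
  rcases Nat.le_total (j : ℕ) i with h1 | h1
  · exact hle i j h1
  · rw [hΦ.symm, hle j i h1]
    have hr0 : r ≠ 0 := by have := two_le_of_card hΦ.card; omega
    by_cases h2 : i = j
    · rw [if_pos h2, if_pos h2.symm, one_pow]
    · rw [if_neg h2, if_neg (Ne.symm h2), zero_pow hr0]

end Herm

end KK

end Cfsg.Agent.H557.Gp

end

section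
/-!
# S2187, non-commuting preimage: commutative `E`
-/

set_option autoImplicit false
set_option linter.unusedSectionVars false
set_option linter.unusedVariables false

namespace Cfsg.Agent.H557.Gp

open Cfsg.Agent.H847.Bs Cfsg.Agent.H557.Bs

universe u v

variable {F : Type u} {V : Type v} [Field F] [AddCommGroup V] [Module F V]
variable {p r : ℕ} {ζ : Fˣ} {E : Subgroup (V ≃ₗ[F] V)} {Φ : Frm F V} {N : Subgroup Fˣ} {ν : F} {x : V ≃ₗ[F] V}

theorem root_of (hp : p.Prime) (hz : ζ ^ p = 1) (hz1 : ζ ≠ 1) {c : F} (hc : c ^ p = 1) : ∃ s : ℕ, (ζ : F) ^ s = c := by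
  have : NeZero p := ⟨hp.ne_zero⟩
  have h1 : IsPrimitiveRoot (ζ : F) p := by
    rw [← orderOf_eq hp hz hz1]
    exact (IsPrimitiveRoot.orderOf ζ).map_of_injective (f := Units.coeHom F) Units.val_injective
  obtain ⟨i, -, hi⟩ := h1.eq_pow_of_pow_eq_one hc
  exact ⟨i, hi⟩

/-- eigenvalues are roots of unity -/
theorem eig_root {r : V ≃ₗ[F] V} (hr : r ^ p = 1) {u : V} (hu : u ≠ 0) {c : F} (h : r u = c • u) : c ^ p = 1 := by
  have h1 : ∀ n : ℕ, (r ^ n) u = c ^ n • u := by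
    intro n
    induction n with
    | zero => rw [pow_zero, pow_zero, one_smul]; rfl
    | succ n ih => rw [coe_pow_apply, ih, map_smul, h, smul_smul, pow_succ]
  have h2 := h1 p
  rw [hr] at h2
  have h3 : (c ^ p - 1) • u = 0 := by
    rw [sub_smul, ← h2, one_smul]
    exact sub_self _
  exact sub_eq_zero.1 ((smul_eq_zero.1 h3).resolve_right hu)

/-- the elements of order `p` are scalars on small invariant subspaces -/
theorem exists_min [Module.Finite F V] (G : Gen p ζ E x) (n : ℕ) : ∀ P : Submodule F V, (∀ g ∈ E, ∀ w ∈ P, g w ∈ P) → P ≠ ⊥ →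
    Module.finrank F P ≤ n → ∃ P' ≤ P, P' ≠ ⊥ ∧ (∀ g ∈ E, ∀ w ∈ P', g w ∈ P') ∧
      ∀ r ∈ E, r ^ p = 1 → ∃ c : F, ∀ w ∈ P', r w = c • w := by
  induction n with
  | zero =>
    intro P _ h0 hn
    exact absurd (Submodule.finrank_eq_zero.1 (Nat.le_zero.1 hn)) h0
  | succ n ih =>
    intro P hP h0 hn
    by_cases hall : ∀ r ∈ E, r ^ p = 1 → ∃ c : F, ∀ w ∈ P, r w = c • w
    · exact ⟨P, le_refl P, h0, hP, hall⟩
    · push Not at hall
      obtain ⟨r, hr, hrp, hns⟩ := hall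
      obtain ⟨w, hw, hw0⟩ := Submodule.exists_mem_ne_zero_of_ne_bot h0
      have R : Rt p ζ r := ⟨G.hp, G.z, G.z1, hrp⟩
      obtain ⟨j, hj⟩ : ∃ j, pj p ζ r j w ≠ 0 := by
        by_contra! h
        apply hw0
        rw [← R.sum_pj w]
        exact Finset.sum_eq_zero fun j _ => h j
      have hpjP : pj p ζ r j w ∈ P := by
        rw [pj_apply]
        exact P.smul_mem _ (P.sum_mem fun k _ => P.smul_mem _ (pow_preserve (hP r hr) k w hw))
      let Q : Submodule F V := P ⊓ LinearMap.ker ((r : V →ₗ[F] V) - algebraMap F (Module.End F V) ((ζ : F) ^ j))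
      have hmem : ∀ v, v ∈ Q ↔ v ∈ P ∧ r v = (ζ : F) ^ j • v := by
        intro v
        rw [Submodule.mem_inf, LinearMap.mem_ker, LinearMap.sub_apply, sub_eq_zero]
        rfl
      have hQP : Q ≤ P := inf_le_left
      have hQ0 : Q ≠ ⊥ := by
        intro h
        apply hj
        have : pj p ζ r j w ∈ Q := (hmem _).2 ⟨hpjP, R.a_pj j w⟩
        rwa [h, Submodule.mem_bot] at this
      have hQne : Q ≠ P := by
        intro h
        obtain ⟨v, hv, hv'⟩ := hns ((ζ : F) ^ j)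
        rw [← h] at hv
        exact hv' ((hmem v).1 hv).2
      have hlt : Module.finrank F Q < Module.finrank F P := Submodule.finrank_lt_finrank_of_lt (lt_of_le_of_ne hQP hQne)
      obtain ⟨P', h1, h2⟩ := ih Q (by
        intro g hg v hv
        rw [hmem] at hv ⊢
        refine ⟨hP g hg v hv.1, ?_⟩
        have h3 : r (g v) = g (r v) := LinearEquiv.congr_fun (G.comm r hr g hg) v
        rw [h3, hv.2, map_smul]) hQ0 (by omega)
      exact ⟨P', h1.trans hQP, h2⟩

theorem scE_pow (e : Fˣ) (n : ℕ) (v : V) : (scE V e ^ n) v = ((e ^ n : Fˣ) : F) • v := by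
  induction n with
  | zero => rw [pow_zero, pow_zero, Units.val_one, one_smul]; rfl
  | succ n ih => rw [coe_pow_apply, ih, map_smul, scE_apply, smul_smul, pow_succ, Units.val_mul]

theorem scE_mem [Nontrivial V] (hE : EA p Φ E) (K : Kd r N ν Φ) {e : Fˣ} (he : e ∈ N) : scE V e ∈ E :=
  hE.scal _ ((K.scal_iff fun v => rfl).2 he) ⟨_, fun v => rfl⟩

/-- all elements are split -/
theorem gen_split [Nontrivial V] (hp : p.Prime) (hz : ζ ^ p = 1) (hz1 : ζ ≠ 1) (hE : EA p Φ E) (K : Kd r N ν Φ)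
    (hc : ∀ x ∈ E, ∀ y ∈ E, x * y = y * x) (h : ∀ g ∈ E, ∃ e ∈ N, ∀ v, (g ^ p) v = ((e ^ p : Fˣ) : F) • v) :
    Gen p ζ E 1 := by
  refine ⟨hp, hz, hz1, hc, E.one_mem, fun g hg => ?_⟩
  obtain ⟨e, he, hge⟩ := h g hg
  have hsc := scE_mem hE K (N.inv_mem he)
  refine ⟨0, scE V e⁻¹ * g, (e : F), E.mul_mem hsc hg, ?_, fun v => ?_⟩
  · have hcm : Commute (scE V e⁻¹) g := hc _ hsc _ hg
    rw [hcm.mul_pow]
    refine LinearEquiv.ext fun v => ?_
    show (scE V e⁻¹ ^ p) ((g ^ p) v) = v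
    rw [scE_pow, hge, smul_smul, ← Units.val_mul, ← mul_pow, inv_mul_cancel, one_pow, Units.val_one, one_smul]
  · show g v = (e : F) • ((e⁻¹ : Fˣ) : F) • g v
    rw [smul_smul, ← Units.val_mul, mul_inv_cancel, Units.val_one, one_smul]

/-- a non-split element -/
theorem gen_nonsplit [Nontrivial V] [Finite F] (hp : p.Prime) (hz : ζ ^ p = 1) (hz1 : ζ ≠ 1) (hE : EA p Φ E)
    (K : Kd r N ν Φ) (hc : ∀ x ∈ E, ∀ y ∈ E, x * y = y * x) (hx : x ∈ E) {c : Fˣ} (hcN : c ∈ N)
    (hxc : ∀ v, (x ^ p) v = (c : F) • v) (hns : ¬ ∃ e ∈ N, e ^ p = c) : Gen p ζ E x := by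
  refine ⟨hp, hz, hz1, hc, hx, fun g hg => ?_⟩
  obtain ⟨d, hd, hd'⟩ := hE.exists_N K hg
  rcases cyc_pow hp N hcN hd with h | ⟨k, e, he, hee⟩
  · exact absurd h hns
  · have hsc := scE_mem hE K (N.inv_mem he)
    have hxk : x ^ k ∈ E := E.pow_mem hx k
    have hxpk : ∀ n : ℕ, ∀ v, ((x ^ p) ^ n) v = ((c ^ n : Fˣ) : F) • v := by
      intro n
      induction n with
      | zero => intro v; rw [pow_zero, pow_zero, Units.val_one, one_smul]; rfl
      | succ n ih => intro v; rw [coe_pow_apply, ih, map_smul, hxc, smul_smul, pow_succ, Units.val_mul]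
    refine ⟨(p - 1) * k, scE V e⁻¹ * (g * x ^ k), (e : F) * ((c ^ k)⁻¹ : Fˣ), E.mul_mem hsc (E.mul_mem hg hxk), ?_,
      fun v => ?_⟩
    · have hcm : Commute (scE V e⁻¹) (g * x ^ k) := hc _ hsc _ (E.mul_mem hg hxk)
      have hcm' : Commute g (x ^ k) := hc _ hg _ hxk
      rw [hcm.mul_pow, hcm'.mul_pow]
      refine LinearEquiv.ext fun v => ?_
      show (scE V e⁻¹ ^ p) ((g ^ p) (((x ^ k) ^ p) v)) = v
      rw [← pow_mul x k p, mul_comm k p, pow_mul, scE_pow, hd', hxpk, smul_smul, smul_smul, ← Units.val_mul,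
        ← Units.val_mul, mul_assoc, ← hee, ← mul_pow, inv_mul_cancel, one_pow, Units.val_one, one_smul]
    · have h1 : (x ^ ((p - 1) * k)) (g ((x ^ k) v)) = g (((x ^ p) ^ k) v) := by
        have h2 : (x ^ ((p - 1) * k)) (g ((x ^ k) v)) = g ((x ^ ((p - 1) * k)) ((x ^ k) v)) :=
          LinearEquiv.congr_fun (hc _ (E.pow_mem hx _) g hg) _
        have h3 : x ^ ((p - 1) * k) * x ^ k = (x ^ p) ^ k := by
          have : (p - 1) * k + k = p * k := by
            have h4 : p - 1 + 1 = p := Nat.sub_add_cancel hp.one_le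
            calc (p - 1) * k + k = (p - 1 + 1) * k := by ring
              _ = p * k := by rw [h4]
          rw [← pow_add, this, pow_mul]
        rw [h2, ← h3]; rfl
      show g v = _ • (x ^ ((p - 1) * k)) (((e⁻¹ : Fˣ) : F) • g ((x ^ k) v))
      rw [map_smul, h1, hxpk, map_smul, smul_smul, smul_smul, ← Units.val_mul, ← Units.val_mul, ← Units.val_mul]
      have : e * (c ^ k)⁻¹ * e⁻¹ * c ^ k = 1 := by
        rw [mul_comm e, mul_assoc, mul_assoc, mul_inv_cancel_left, inv_mul_cancel]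
      rw [this, Units.val_one, one_smul]

section Herm

variable {Y : Type} [DecidableEq Y] [Fintype Y] {ε : Y → ℕ}

/-- data for the hermitian case -/
structure UB (p : ℕ) (Φ : Frm F V) (E : Subgroup (V ≃ₗ[F] V)) (x : V ≃ₗ[F] V) (ε : Y → ℕ) : Prop where
  red : ∀ k : ℕ, ∃ (y : Y) (c : F), ∀ v, (x ^ k) v = c • (x ^ (ε y)) v
  ex : ∀ P : Submodule F V, (∀ g ∈ E, ∀ w ∈ P, g w ∈ P) → P ≠ ⊥ → ∃ u ∈ P, (∀ r ∈ E, r ^ p = 1 → ∃ c : F, r u = c • u) ∧
    ∀ y y', Φ.B ((x ^ (ε y)) u) ((x ^ (ε y')) u) = if y = y' then 1 else 0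

/-- orthonormal families -/
structure QS (p : ℕ) (Φ : Frm F V) (E : Subgroup (V ≃ₗ[F] V)) (x : V ≃ₗ[F] V) (ε : Y → ℕ) (S : Set V) : Prop where
  eig : ∀ s ∈ S, ∀ r ∈ E, r ^ p = 1 → ∃ c : F, r s = c • s
  on : ∀ s ∈ S, ∀ s' ∈ S, ∀ y y', s = s' → Φ.B ((x ^ (ε y)) s) ((x ^ (ε y')) s') = if y = y' then 1 else 0
  orth : ∀ s ∈ S, ∀ s' ∈ S, ∀ y y', s ≠ s' → Φ.B ((x ^ (ε y)) s) ((x ^ (ε y')) s') = 0

theorem TI_span (hΦ : IsHerm r Φ) {A : Set V} (h : ∀ a ∈ A, ∀ b ∈ A, Φ.B a b = 0) : Φ.TI (Submodule.span F A) := by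
  refine ⟨fun v hv w hw => ?_, fun v _ => hΦ.q v⟩
  induction hv using Submodule.span_induction with
  | zero => exact B_zero_left Φ w
  | add a b _ _ ha hb => rw [Φ.add_left, ha, hb, add_zero]
  | smul c a _ ha => rw [Φ.smul_left, ha, mul_zero]
  | mem a ha =>
    induction hw using Submodule.span_induction with
    | zero => exact B_zero_r Φ a
    | add b c _ _ hb hc => rw [Φ.add_right, hb, hc, add_zero]
    | smul c b _ hb => rw [Φ.smul_right, hb, mul_zero]
    | mem b hb => exact h a ha b hb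

/-- **the orthonormal basis** -/
theorem exists_ub [DecidableEq V] [Finite F] [Module.Finite F V] [Nontrivial V] [Nonempty Y] (hΦ : IsHerm r Φ) (hE : EA p Φ E)
    (hA : An Φ E) (G : Gen p ζ E x) (U : UB p Φ E x ε) :
    ∃ (m : ℕ) (u : Fin m → V) (b : Module.Basis (Fin m × Y) F V), (∀ i y, b (i, y) = (x ^ (ε y)) (u i)) ∧
      (∀ r ∈ E, r ^ p = 1 → ∃ s : Fin m → ℕ, ∀ i, r (u i) = (ζ : F) ^ s i • u i) ∧
      (∀ i j, i ≠ j → ∃ r ∈ E, r ^ p = 1 ∧ ∃ s : Fin m → ℕ, (∀ i, r (u i) = (ζ : F) ^ s i • u i) ∧ ζ ^ s i ≠ ζ ^ s j) ∧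
      ∀ x x', Φ.B (b x) (b x') = if x = x' then 1 else 0 := by
  have hVfin : Finite V := Module.finite_of_finite F
  have hr0 : r ≠ 0 := by have := two_le_of_card hΦ.card; omega
  obtain ⟨y₀⟩ := ‹Nonempty Y›
  obtain ⟨S, -, hS⟩ := (Set.toFinite {S : Set V | QS p Φ E x ε S}).exists_le_maximal
    (a := (∅ : Set V)) ⟨fun s hs => hs.elim, fun s hs => hs.elim, fun s hs => hs.elim⟩
  have hQ : QS p Φ E x ε S := hS.1
  -- the complement
  let P : Submodule F V :=
    { carrier := {v | ∀ s ∈ S, ∀ y, Φ.B v ((x ^ (ε y)) s) = 0}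
      zero_mem' := fun s _ y => B_zero_left Φ _
      add_mem' := fun {a b} ha hb s hs y => by rw [Φ.add_left, ha s hs y, hb s hs y, add_zero]
      smul_mem' := fun c a ha s hs y => by rw [Φ.smul_left, ha s hs y, mul_zero] }
  have hPinv : ∀ g ∈ E, ∀ w ∈ P, g w ∈ P := by
    intro g hg w hw s hs y
    have h1 := (hE.le hg).1 w (g⁻¹ ((x ^ (ε y)) s))
    have h2 : g (g⁻¹ ((x ^ (ε y)) s)) = (x ^ (ε y)) s := g.apply_symm_apply _
    rw [h2] at h1
    rw [h1]
    obtain ⟨k, r, c, hr, hrp, hgv⟩ := G.gen g⁻¹ (E.inv_mem hg)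
    obtain ⟨c', hc'⟩ := hQ.eig s hs r hr hrp
    obtain ⟨y', c'', hy'⟩ := U.red (k + ε y)
    have h3 : g⁻¹ ((x ^ (ε y)) s) = (c * (c' * c'')) • (x ^ (ε y')) s := by
      have h4 : (x ^ k) ((x ^ (ε y)) s) = (x ^ (k + ε y)) s := by rw [pow_add]; rfl
      rw [hgv, G.comm_pow hr, hc', map_smul, map_smul, h4, hy', smul_smul, smul_smul, mul_assoc]
    rw [h3, Φ.smul_right, hw s hs y', mul_zero]
  have hP : P = ⊥ := by
    by_contra hP
    obtain ⟨u, huP, hur, hu⟩ := U.ex P hPinv hP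
    have huS : u ∉ S := by
      intro h
      have h1 := hPinv _ (E.pow_mem G.xE (ε y₀)) u huP u h y₀
      rw [hu, if_pos rfl] at h1
      exact one_ne_zero h1
    have hus : ∀ s ∈ S, ∀ y y', Φ.B ((x ^ (ε y)) u) ((x ^ (ε y')) s) = 0 := fun s hs y y' =>
      hPinv _ (E.pow_mem G.xE (ε y)) u huP s hs y'
    apply huS
    refine hS.2 (y := insert u S) ?_ (Set.subset_insert _ _) (Set.mem_insert _ _)
    refine ⟨?_, ?_, ?_⟩
    · rintro s (rfl | hs)
      · exact hur
      · exact hQ.eig s hs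
    · rintro s hs s' hs' y y' rfl
      rcases hs with rfl | hs
      · exact hu y y'
      · exact hQ.on s hs s hs y y' rfl
    · rintro s (rfl | hs) s' (rfl | hs') y y' hne
      · exact absurd rfl hne
      · exact hus s' hs' y y'
      · exact Φ.refl _ _ (hus s hs y' y)
      · exact hQ.orth s hs s' hs' y y' hne
  -- the family
  let f : ↥S × Y → V := fun t => (x ^ (ε t.2)) (t.1 : V)
  have hf : ∀ t t', Φ.B (f t) (f t') = if t = t' then 1 else 0 := by
    rintro ⟨⟨s, hs⟩, y⟩ ⟨⟨s', hs'⟩, y'⟩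
    by_cases h : s = s'
    · subst h
      have := hQ.on s hs s hs y y' rfl
      show Φ.B ((x ^ (ε y)) s) ((x ^ (ε y')) s) = _
      rw [this]
      congr 1
      simp only [Prod.mk.injEq, true_and]
    · have := hQ.orth s hs s' hs' y y' h
      show Φ.B ((x ^ (ε y)) s) ((x ^ (ε y')) s') = _
      rw [this, if_neg]
      intro h2
      simp only [Prod.mk.injEq, Subtype.mk.injEq] at h2
      exact h h2.1
  have := Fintype.ofFinite ↥S
  have hBsum : ∀ (c : ↥S × Y → F) (t : ↥S × Y), Φ.B (∑ t, c t • f t) (f t) = c t := by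
    intro c t
    rw [B_sum_left, Finset.sum_eq_single t]
    · rw [Φ.smul_left, hf, if_pos rfl, mul_one]
    · intro t' _ ht'
      rw [Φ.smul_left, hf, if_neg ht', mul_zero]
    · intro h; exact absurd (Finset.mem_univ _) h
  have hli : LinearIndependent F f := by
    rw [Fintype.linearIndependent_iff]
    intro c hc t
    rw [← hBsum c t, hc]
    exact B_zero_left Φ _
  have hsp : ⊤ ≤ Submodule.span F (Set.range f) := by
    intro v _
    have h1 : v - ∑ t, Φ.B v (f t) • f t ∈ P := by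
      intro s hs y
      have h2 := hBsum (fun t => Φ.B v (f t)) (⟨s, hs⟩, y)
      have h3 : Φ.B (v - ∑ t, Φ.B v (f t) • f t) (f (⟨s, hs⟩, y)) = 0 := by
        have h4 : v - ∑ t, Φ.B v (f t) • f t = v + (-1 : F) • ∑ t, Φ.B v (f t) • f t := by
          rw [neg_one_smul, sub_eq_add_neg]
        rw [h4, Φ.add_left, Φ.smul_left, h2]
        ring
      exact h3
    rw [hP, Submodule.mem_bot, sub_eq_zero] at h1
    rw [h1]
    exact Submodule.sum_mem _ fun t _ => Submodule.smul_mem _ _ (Submodule.subset_span ⟨t, rfl⟩)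
  let b0 : Module.Basis (↥S × Y) F V := Module.Basis.mk hli hsp
  have hb0 : ∀ t, b0 t = f t := fun t => by rw [Module.Basis.mk_apply]
  let e : Fin (Fintype.card ↥S) ≃ ↥S := (Fintype.equivFin ↥S).symm
  let b : Module.Basis (Fin (Fintype.card ↥S) × Y) F V := b0.reindex (e.symm.prodCongr (Equiv.refl Y))
  have hb : ∀ i y, b (i, y) = (x ^ (ε y)) (e i : V) := by
    intro i y
    show b0.reindex (e.symm.prodCongr (Equiv.refl Y)) (i, y) = _
    rw [Module.Basis.reindex_apply, hb0]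
    rfl
  have hgram : ∀ x x', Φ.B (b x) (b x') = if x = x' then 1 else 0 := by
    intro t t'
    show Φ.B (b0.reindex (e.symm.prodCongr (Equiv.refl Y)) t) (b0.reindex (e.symm.prodCongr (Equiv.refl Y)) t') = _
    rw [Module.Basis.reindex_apply, Module.Basis.reindex_apply, hb0, hb0, hf]
    congr 1
    rw [EmbeddingLike.apply_eq_iff_eq]
  have hne : ∀ i, (e i : V) ≠ 0 := by
    intro i h
    have h1 := hgram (i, y₀) (i, y₀)
    rw [if_pos rfl, hb, h, map_zero, B_zero_left] at h1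
    exact zero_ne_one h1
  have heig : ∀ r ∈ E, r ^ p = 1 → ∃ s : Fin (Fintype.card ↥S) → ℕ, ∀ i, r (e i : V) = (ζ : F) ^ s i • (e i : V) := by
    intro r hr hrp
    have h1 : ∀ i, ∃ s : ℕ, r (e i : V) = (ζ : F) ^ s • (e i : V) := by
      intro i
      obtain ⟨c, hc⟩ := hQ.eig (e i) (e i).2 r hr hrp
      obtain ⟨s, hs⟩ := root_of G.hp G.z G.z1 (eig_root hrp (hne i) hc)
      exact ⟨s, by rw [hc, hs]⟩
    choose s hs using h1
    exact ⟨s, hs⟩
  refine ⟨_, fun i => (e i : V), b, hb, heig, ?_, hgram⟩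
  -- separation
  intro i j hij
  by_contra hcon
  push Not at hcon
  have hcon' : ∀ r ∈ E, r ^ p = 1 → ∃ c : F, r (e i : V) = c • (e i : V) ∧ r (e j : V) = c • (e j : V) := by
    intro r hr hrp
    obtain ⟨s, hs⟩ := heig r hr hrp
    have h1 := hcon r hr hrp s hs
    refine ⟨(ζ : F) ^ s i, hs i, ?_⟩
    rw [hs j, ← Units.val_pow_eq_pow_val, ← h1, Units.val_pow_eq_pow_val]
  obtain ⟨a, ha⟩ := exists_norm hΦ.card (n := (-1 : F)) (by rw [neg_pow_r hΦ.card, one_pow])
  set w : V := (e i : V) + a • (e j : V) with hw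
  have hww : ∀ y y', Φ.B ((x ^ (ε y)) w) ((x ^ (ε y')) w) = 0 := by
    intro y y'
    rw [hw, map_add, map_add, map_smul, map_smul, Φ.add_left, Φ.add_right, Φ.add_right, Φ.smul_left, Φ.smul_left,
      Φ.smul_right, Φ.smul_right, hΦ.s, ← hb, ← hb, ← hb, ← hb, hgram, hgram, hgram, hgram]
    have h1 : ¬ ((i, y) = (j, y')) := fun h => hij (congrArg Prod.fst h)
    have h2 : ¬ ((j, y) = (i, y')) := fun h => hij (congrArg Prod.fst h).symm
    rw [if_neg h1, if_neg h2]
    have h3 : ((i, y) = (i, y')) ↔ y = y' := by simp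
    have h4 : ((j, y) = (j, y')) ↔ y = y' := by simp
    rw [if_congr h3 rfl rfl, if_congr h4 rfl rfl]
    have h5 : a * a ^ r = -1 := by rw [← pow_succ', ha]
    split_ifs
    · linear_combination h5
    · ring
  let T : Submodule F V := Submodule.span F (Set.range fun y : Y => (x ^ (ε y)) w)
  have hTinv : ∀ g ∈ E, ∀ v ∈ T, g v ∈ T := by
    intro g hg
    have h1 : T.map (g : V →ₗ[F] V) ≤ T := by
      rw [Submodule.map_span_le]
      rintro _ ⟨y, rfl⟩
      show g ((x ^ (ε y)) w) ∈ T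
      obtain ⟨k, r, c, hr, hrp, hgv⟩ := G.gen g hg
      obtain ⟨c', hc1, hc2⟩ := hcon' r hr hrp
      have hrw : r w = c' • w := by rw [hw, map_add, map_smul, hc1, hc2, smul_add, smul_comm]
      obtain ⟨y', c'', hy'⟩ := U.red (k + ε y)
      have h3 : g ((x ^ (ε y)) w) = (c * (c' * c'')) • (x ^ (ε y')) w := by
        have h4 : (x ^ k) ((x ^ (ε y)) w) = (x ^ (k + ε y)) w := by rw [pow_add]; rfl
        rw [hgv, G.comm_pow hr, hrw, map_smul, map_smul, h4, hy', smul_smul, smul_smul, mul_assoc]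
      rw [h3]
      exact T.smul_mem _ (Submodule.subset_span ⟨y', rfl⟩)
    intro v hv
    exact h1 ⟨v, hv, rfl⟩
  have hTTI : Φ.TI T := by
    refine TI_span hΦ ?_
    rintro _ ⟨y, rfl⟩ _ ⟨y', rfl⟩
    exact hww y y'
  rcases hA T hTinv hTTI with h | h
  · have h1 : (x ^ (ε y₀)) w ∈ T := Submodule.subset_span ⟨y₀, rfl⟩
    rw [h, Submodule.mem_bot] at h1
    have h2 : Φ.B ((x ^ (ε y₀)) w) (b (i, y₀)) = 1 := by
      rw [hw, map_add, map_smul, Φ.add_left, Φ.smul_left, ← hb, ← hb, hgram, hgram, if_pos rfl, if_neg, mul_zero,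
        add_zero]
      exact fun h => hij (congrArg Prod.fst h).symm
    rw [h1, B_zero_left] at h2
    exact zero_ne_one h2
  · have h1 : (e i : V) ∈ T := by rw [h]; trivial
    have h2 := hTTI.1 _ (hTinv _ (E.pow_mem G.xE (ε y₀)) _ h1) _ (hTinv _ (E.pow_mem G.xE (ε y₀)) _ h1)
    rw [← hb, hgram, if_pos rfl] at h2
    exact one_ne_zero h2

end Herm

end Cfsg.Agent.H557.Gp

end

section
/-!
# S2187, non-commuting preimage: existence of good bases
-/

set_option autoImplicit false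
set_option linter.unusedSectionVars false
set_option linter.unusedVariables false

namespace Cfsg.Agent.H557.Gp

open Cfsg.Agent.H847.Bs Cfsg.Agent.H557.Bs

universe u v

variable {F : Type u} {V : Type v} [Field F] [AddCommGroup V] [Module F V]
variable {p r : ℕ} {ζ : Fˣ} {E : Subgroup (V ≃ₗ[F] V)} {Φ : Frm F V} {N : Subgroup Fˣ} {ν : F} {x : V ≃ₗ[F] V}

theorem BB_of {I Y : Type} [DecidableEq I] [DecidableEq Y] [Fintype I] [Fintype Y] {ε : Y → ℕ}
    {b : Module.Basis (I × Y) F V} {u : I → V} (red : ∀ k : ℕ, ∃ (y : Y) (c : F), ∀ v, (x ^ k) v = c • (x ^ (ε y)) v)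
    (hb : ∀ i y, b (i, y) = (x ^ (ε y)) (u i))
    (hu : ∀ r ∈ E, r ^ p = 1 → ∃ s : I → ℕ, ∀ i, r (u i) = (ζ : F) ^ s i • u i)
    (sep : ∀ i j, i ≠ j → ∃ r ∈ E, r ^ p = 1 ∧ ∃ s : I → ℕ, (∀ i, r (u i) = (ζ : F) ^ s i • u i) ∧ ζ ^ s i ≠ ζ ^ s j) :
    BB p ζ E x ε b u := by
  refine ⟨hb, hu, sep, fun y => ?_⟩
  obtain ⟨y', c, hc⟩ := red (ε y + 1)
  exact ⟨y', c, fun i => by rw [hb, hb, ← coe_pow_apply, hc]⟩

theorem red_one (k : ℕ) : ∃ (y : Unit) (c : F), ∀ v : V, ((1 : V ≃ₗ[F] V) ^ k) v = c • ((1 : V ≃ₗ[F] V) ^ ((fun _ => 0 : Unit → ℕ) y)) v :=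
  ⟨(), 1, fun v => by rw [one_pow, one_pow, one_smul]⟩

theorem red_fin [NeZero p] {c : Fˣ} (hx : ∀ v, (x ^ p) v = (c : F) • v) (k : ℕ) :
    ∃ (y : Fin p) (c : F), ∀ v, (x ^ k) v = c • (x ^ ((fun j : Fin p => (j : ℕ)) y)) v := by
  refine ⟨⟨k % p, Nat.mod_lt _ (Nat.pos_of_ne_zero (NeZero.ne p))⟩, ((c ^ (k / p) : Fˣ) : F), fun v => ?_⟩
  show (x ^ k) v = _ • (x ^ (k % p)) v
  have h1 : x ^ k = (x ^ p) ^ (k / p) * x ^ (k % p) := by rw [← pow_mul, ← pow_add, Nat.div_add_mod]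
  have h2 : ∀ n : ℕ, ∀ v, ((x ^ p) ^ n) v = ((c ^ n : Fˣ) : F) • v := by
    intro n
    induction n with
    | zero => intro v; rw [pow_zero, pow_zero, Units.val_one, one_smul]; rfl
    | succ n ih => intro v; rw [coe_pow_apply, ih, map_smul, hx, smul_smul, pow_succ, Units.val_mul]
  rw [h1]
  exact h2 _ _

section Herm

variable [Finite F] [Module.Finite F V] [Nontrivial V]

theorem not_TI_top (hΦ : IsHerm r Φ) : ¬ Φ.TI ⊤ := by
  intro h
  obtain ⟨v, hv⟩ := exists_ne (0 : V)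
  exact hv (hΦ.nd v fun y => h.1 v trivial y trivial)

theorem ub_one (hΦ : IsHerm r Φ) (hA : An Φ E) (G : Gen p ζ E 1) : UB p Φ E (1 : V ≃ₗ[F] V) (fun _ : Unit => 0) := by
  refine ⟨red_one, fun P hP h0 => ?_⟩
  obtain ⟨P', hP'P, h0', hinv, hsc⟩ := exists_min G _ P hP h0 le_rfl
  obtain ⟨w, hw, hw0⟩ := Submodule.exists_mem_ne_zero_of_ne_bot h0'
  have hB : Φ.B w w ≠ 0 := by
    intro hB
    have hTI : Φ.TI (Submodule.span F {w}) := TI_span hΦ (by
      rintro _ rfl _ rfl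
      exact hB)
    rcases hA _ (by
      intro g hg v hv
      obtain ⟨a, rfl⟩ := Submodule.mem_span_singleton.1 hv
      obtain ⟨k, r, c, hr, hrp, hgv⟩ := G.gen g hg
      obtain ⟨c', hc'⟩ := hsc r hr hrp
      have : g (a • w) = (a * (c * c')) • w := by
        rw [map_smul, hgv, one_pow, hc' w hw]
        show a • c • c' • w = _
        rw [smul_smul, smul_smul, mul_assoc]
      rw [this]
      exact Submodule.smul_mem _ _ (Submodule.mem_span_singleton_self w)) hTI with h | h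
    · exact hw0 (Submodule.span_singleton_eq_bot.1 h)
    · rw [h] at hTI
      exact not_TI_top hΦ hTI
  obtain ⟨c, hc⟩ := exists_norm hΦ.card (n := (Φ.B w w)⁻¹) (by rw [inv_pow, ← hΦ.symm])
  refine ⟨c • w, hP'P (P'.smul_mem _ hw), fun r hr hrp => ?_, fun y y' => ?_⟩
  · obtain ⟨c', hc'⟩ := hsc r hr hrp
    exact ⟨c', by rw [map_smul, hc' w hw, smul_comm]⟩
  · rw [if_pos rfl, one_pow]
    show Φ.B (c • w) (c • w) = 1
    rw [Φ.smul_left, Φ.smul_right, hΦ.s, ← mul_assoc, ← pow_succ', hc, inv_mul_cancel₀ hB]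

theorem ub_fin [NeZero p] (hp2 : p ≠ 2) (hΦ : IsHerm r Φ) (hE : EA p Φ E) (hA : An Φ E) (G : Gen p ζ E x) {c : Fˣ}
    (hc : c ^ (r + 1) = 1) (hpr : p ∣ r + 1) (hxc : ∀ v, (x ^ p) v = (c : F) • v) (hirr : ∀ d : F, d ^ p ≠ (c : F)) :
    UB p Φ E x (fun j : Fin p => (j : ℕ)) := by
  refine ⟨red_fin hxc, fun P hP h0 => ?_⟩
  obtain ⟨P', hP'P, h0', hinv, hsc⟩ := exists_min G _ P hP h0 le_rfl
  obtain ⟨w, hw, hw0⟩ := Submodule.exists_mem_ne_zero_of_ne_bot h0'
  obtain ⟨K, _, _, ⟨D⟩⟩ := exists_KK G.hp hirr hxc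
  have hB : ∃ z z' : K, Φ.B (D.φ z w) (D.φ z' w) ≠ 0 := by
    by_contra! hB
    let L : K →ₗ[F] V :=
      { toFun := fun z => D.φ z w
        map_add' := fun a b => by rw [map_add, LinearMap.add_apply]
        map_smul' := fun a b => by rw [map_smul, LinearMap.smul_apply, RingHom.id_apply] }
    have hTI : Φ.TI (LinearMap.range L) := by
      refine ⟨?_, fun v _ => hΦ.q v⟩
      rintro _ ⟨z, rfl⟩ _ ⟨z', rfl⟩
      exact hB z z'
    rcases hA (LinearMap.range L) (by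
      rintro g hg _ ⟨z, rfl⟩
      show g (D.φ z w) ∈ _
      obtain ⟨k, r, c, hr, hrp, hgv⟩ := G.gen g hg
      obtain ⟨c', hc'⟩ := hsc r hr hrp
      have hm : D.φ z w ∈ P' := D.φ_mem (hinv x G.xE) z hw
      rw [hgv, hc' _ hm, map_smul, ← D.φ_pow, ← Module.End.mul_apply, ← map_mul]
      exact Submodule.smul_mem _ _ (Submodule.smul_mem _ _ ⟨_, rfl⟩)) hTI with h | h
    · apply hw0
      have h1 : L 1 ∈ LinearMap.range L := ⟨_, rfl⟩
      rw [h, Submodule.mem_bot] at h1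
      have h2 : L 1 = w := by
        show D.φ 1 w = w
        rw [map_one]; rfl
      rw [← h2, h1]
    · rw [h] at hTI
      exact not_TI_top hΦ hTI
  obtain ⟨y, hy⟩ := D.exists_u hΦ (hE.le G.xE) (G.hp.odd_of_ne_two hp2) hpr hc hB
  have hm : D.φ y w ∈ P' := D.φ_mem (hinv x G.xE) y hw
  refine ⟨D.φ y w, hP'P hm, fun r hr hrp => ?_, hy⟩
  obtain ⟨c', hc'⟩ := hsc r hr hrp
  exact ⟨c', hc' _ hm⟩

end Herm

/-- `p`-th roots of elements of norm one -/
theorem root_mem [Finite F] (hp : p.Prime) (hp2 : p ≠ 2) (hF : Nat.card F = r ^ 2) (hpr : p ∣ r + 1) {c d : Fˣ}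
    (hc : c ^ (r + 1) = 1) (hd : d ^ p = c) : d ^ (r + 1) = 1 := by
  have h2 := two_le_of_card hF
  have h1 : (d ^ (r + 1)) ^ p = 1 := by rw [← pow_mul, mul_comm, pow_mul, hd, hc]
  have h3 : (d ^ (r + 1)) ^ (r - 1) = 1 := by
    rw [← pow_mul, mul_comm, ← card_units hF]
    exact pow_card_eq_one'
  have hcop : Nat.Coprime p (r - 1) := by
    rw [Nat.Prime.coprime_iff_not_dvd hp]
    intro h4
    have h5 : p ∣ (r + 1) - (r - 1) := Nat.dvd_sub hpr h4
    have h6 : (r + 1) - (r - 1) = 2 := by omega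
    rw [h6] at h5
    exact hp2 ((Nat.prime_dvd_prime_iff_eq hp Nat.prime_two).1 h5)
  have h4 := Nat.dvd_gcd (orderOf_dvd_of_pow_eq_one h1) (orderOf_dvd_of_pow_eq_one h3)
  rw [hcop] at h4
  exact orderOf_eq_one_iff.1 (Nat.dvd_one.1 h4)

/-- **commutative `E`** -/
theorem bot [Finite F] [Module.Finite F V] [Nontrivial V] [NeZero p] (hp : p.Prime) (hp2 : p ≠ 2) (hz : ζ ^ p = 1)
    (hz1 : ζ ≠ 1) (hζ : ζ ∈ N) (K : Kd r N ν Φ) (hE : EA p Φ E) (hA : An Φ E) (hc : ∀ x ∈ E, ∀ y ∈ E, x * y = y * x) :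
    ∃ (I Y : Type) (_ : Fintype I) (_ : DecidableEq I) (_ : Fintype Y) (_ : DecidableEq Y)
      (b : Module.Basis (I × Y) F V), Good p ζ N ν Φ E b := by
  classical
  by_cases hsp : ∀ g ∈ E, ∃ e ∈ N, ∀ v, (g ^ p) v = ((e ^ p : Fˣ) : F) • v
  · -- split
    have G := gen_split hp hz hz1 hE K hc hsp
    rcases K with ⟨hν, hB, hq, hN⟩ | ⟨hν, hΦ, hN⟩
    · obtain ⟨P', hP'P, h0', hinv, hsc⟩ := exists_min G _ ⊤ (fun _ _ _ _ => trivial) top_ne_bot le_rfl
      obtain ⟨w, hw, hw0⟩ := Submodule.exists_mem_ne_zero_of_ne_bot h0'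
      have hspan : Submodule.span F {w} = ⊤ := by
        rcases hA (Submodule.span F {w}) (by
          intro g hg v hv
          obtain ⟨a, rfl⟩ := Submodule.mem_span_singleton.1 hv
          obtain ⟨k, r, c, hr, hrp, hgv⟩ := G.gen g hg
          obtain ⟨c', hc'⟩ := hsc r hr hrp
          have : g (a • w) = (a * (c * c')) • w := by
            rw [map_smul, hgv, one_pow, hc' w hw]
            show a • c • c' • w = _
            rw [smul_smul, smul_smul, mul_assoc]
          rw [this]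
          exact Submodule.smul_mem _ _ (Submodule.mem_span_singleton_self w)) ⟨fun _ _ _ _ => hB _ _, fun _ _ => hq _⟩
          with h | h
        · exact absurd (Submodule.span_singleton_eq_bot.1 h) hw0
        · exact h
      let f : Unit × Unit → V := fun _ => w
      have hli : LinearIndependent F f := by
        rw [Fintype.linearIndependent_iff]
        intro g hg i
        have h1 : g ((), ()) • w = 0 := by
          rw [← hg, Fintype.sum_prod_type, Fintype.sum_unique, Fintype.sum_unique]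
        exact (smul_eq_zero.1 h1).resolve_right hw0
      have hspn : ⊤ ≤ Submodule.span F (Set.range f) := by
        rw [← hspan, Submodule.span_le, Set.singleton_subset_iff]
        exact Submodule.subset_span ⟨((), ()), rfl⟩
      let b : Module.Basis (Unit × Unit) F V := Module.Basis.mk hli hspn
      have hb : ∀ t, b t = w := fun t => by rw [Module.Basis.mk_apply]
      refine ⟨Unit, Unit, inferInstance, inferInstance, inferInstance, inferInstance, b, ?_⟩
      refine good_unit (ε := fun _ => 0) (u := fun _ => w) hE G (BB_of red_one ?_ ?_ ?_) ?_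
      · intro i y
        rw [hb, one_pow]; rfl
      · intro r hr hrp
        obtain ⟨c', hc'⟩ := hsc r hr hrp
        obtain ⟨s, hs⟩ := root_of hp hz hz1 (eig_root hrp hw0 (hc' w hw))
        exact ⟨fun _ => s, fun _ => by rw [hc' w hw, hs]⟩
      · intro i j hij
        exact absurd (Subsingleton.elim i j) hij
      · intro t t'
        rw [hB, hν]
        split_ifs <;> rfl
    · obtain ⟨m, u, b, hb, hu, hsep, hg⟩ := exists_ub hΦ hE hA G (ub_one hΦ hA G)
      refine ⟨Fin m, Unit, inferInstance, inferInstance, inferInstance, inferInstance, b, ?_⟩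
      refine good_unit hE G (BB_of red_one hb hu hsep) ?_
      rw [hν]
      exact hg
  · -- non-split
    push Not at hsp
    obtain ⟨x, hx, hxns⟩ := hsp
    obtain ⟨c, hcN, hxc⟩ := hE.exists_N K hx
    have hns : ¬ ∃ e ∈ N, e ^ p = c := by
      rintro ⟨e, he, hec⟩
      obtain ⟨v, hv⟩ := hxns e he
      apply hv
      rw [hxc, hec]
    have G := gen_nonsplit hp hz hz1 hE K hc hx hcN hxc hns
    rcases K with ⟨hν, hB, hq, hN⟩ | ⟨hν, hΦ, hN⟩
    · have hirr : ∀ d : F, d ^ p ≠ (c : F) := by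
        intro d hd
        have hd0 : d ≠ 0 := by
          rintro rfl
          rw [zero_pow hp.ne_zero] at hd
          exact c.ne_zero hd.symm
        apply hns
        refine ⟨Units.mk0 d hd0, by rw [hN]; trivial, Units.ext ?_⟩
        rw [Units.val_pow_eq_pow_val, Units.val_mk0, hd]
      obtain ⟨P', hP'P, h0', hinv, hsc⟩ := exists_min G _ ⊤ (fun _ _ _ _ => trivial) top_ne_bot le_rfl
      have hP'top : P' = ⊤ := (hA P' hinv ⟨fun _ _ _ _ => hB _ _, fun _ _ => hq _⟩).resolve_left h0'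
      obtain ⟨w, hw, hw0⟩ := Submodule.exists_mem_ne_zero_of_ne_bot h0'
      obtain ⟨K, _, _, ⟨D⟩⟩ := exists_KK G.hp hirr hxc
      let L : K →ₗ[F] V :=
        { toFun := fun z => D.φ z w
          map_add' := fun a b => by rw [map_add, LinearMap.add_apply]
          map_smul' := fun a b => by rw [map_smul, LinearMap.smul_apply, RingHom.id_apply] }
      have hsurj : LinearMap.range L = ⊤ := by
        rcases hA (LinearMap.range L) (by
          rintro g hg _ ⟨z, rfl⟩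
          show g (D.φ z w) ∈ _
          obtain ⟨k, r, c, hr, hrp, hgv⟩ := G.gen g hg
          obtain ⟨c', hc'⟩ := hsc r hr hrp
          have hm : D.φ z w ∈ P' := D.φ_mem (hinv x G.xE) z hw
          rw [hgv, hc' _ hm, map_smul, ← D.φ_pow, ← Module.End.mul_apply, ← map_mul]
          exact Submodule.smul_mem _ _ (Submodule.smul_mem _ _ ⟨_, rfl⟩)) ⟨fun _ _ _ _ => hB _ _, fun _ _ => hq _⟩
          with h | h
        · exfalso
          apply hw0
          have h1 : L 1 ∈ LinearMap.range L := ⟨_, rfl⟩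
          rw [h, Submodule.mem_bot] at h1
          have h2 : L 1 = w := by
            show D.φ 1 w = w
            rw [map_one]; rfl
          rw [← h2, h1]
        · exact h
      have hinj : Function.Injective L := by
        rw [← LinearMap.ker_eq_bot, LinearMap.ker_eq_bot']
        intro z hz
        exact D.φ_inj hw0 hz
      let e : K ≃ₗ[F] V := LinearEquiv.ofBijective L ⟨hinj, LinearMap.range_eq_top.1 hsurj⟩
      let b : Module.Basis (Unit × Fin p) F V := (D.b.map e).reindex (Equiv.uniqueProd (Fin p) Unit).symm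
      have hb : ∀ i j, b (i, j) = (x ^ (j : ℕ)) w := by
        intro i j
        show (D.b.map e).reindex (Equiv.uniqueProd (Fin p) Unit).symm (i, j) = _
        rw [Module.Basis.reindex_apply, Module.Basis.map_apply]
        show D.φ (D.b j) w = _
        rw [D.hb, D.φ_pow]
      refine ⟨Unit, Fin p, inferInstance, inferInstance, inferInstance, inferInstance, b, ?_⟩
      refine good_fin (u := fun _ => w) hE G (BB_of (red_fin hxc) hb ?_ ?_) ?_ hxc hcN
      · intro r hr hrp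
        obtain ⟨c', hc'⟩ := hsc r hr hrp
        obtain ⟨s, hs⟩ := root_of hp hz hz1 (eig_root hrp hw0 (hc' w hw))
        exact ⟨fun _ => s, fun _ => by rw [hc' w hw, hs]⟩
      · intro i j hij
        exact absurd (Subsingleton.elim i j) hij
      · intro t t'
        rw [hB, hν]
        split_ifs <;> rfl
    · have hζr : ζ ^ (r + 1) = 1 := (hN ζ).1 hζ
      have hpr : p ∣ r + 1 := by
        rw [← orderOf_eq hp hz hz1]
        exact orderOf_dvd_of_pow_eq_one hζr
      have hcr : c ^ (r + 1) = 1 := (hN c).1 hcN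
      have hirr : ∀ d : F, d ^ p ≠ (c : F) := by
        intro d hd
        have hd0 : d ≠ 0 := by
          rintro rfl
          rw [zero_pow hp.ne_zero] at hd
          exact c.ne_zero hd.symm
        have hd' : Units.mk0 d hd0 ^ p = c := Units.ext (by rw [Units.val_pow_eq_pow_val, Units.val_mk0, hd])
        exact hns ⟨Units.mk0 d hd0, (hN _).2 (root_mem hp hp2 hΦ.card hpr hcr hd'), hd'⟩
      obtain ⟨m, u, b, hb, hu, hsep, hg⟩ := exists_ub hΦ hE hA G (ub_fin hp2 hΦ hE hA G hcr hpr hxc hirr)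
      refine ⟨Fin m, Fin p, inferInstance, inferInstance, inferInstance, inferInstance, b, ?_⟩
      refine good_fin hE G (BB_of (red_fin hxc) hb hu hsep) ?_ hxc hcN
      rw [hν]
      exact hg

/-- **existence of good bases** -/
theorem exists_good [Finite F] [NeZero p] (hp : p.Prime) (hp2 : p ≠ 2) (hz : ζ ^ p = 1) (hz1 : ζ ≠ 1) (hζ : ζ ∈ N) (n : ℕ) :
    ∀ {V : Type v} [AddCommGroup V] [Module F V] [Module.Finite F V] [Nontrivial V] {Φ : Frm F V}
      {E : Subgroup (V ≃ₗ[F] V)}, Module.finrank F V ≤ n → Kd r N ν Φ → EA p Φ E → An Φ E →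
      ∃ (I Y : Type) (_ : Fintype I) (_ : DecidableEq I) (_ : Fintype Y) (_ : DecidableEq Y)
        (b : Module.Basis (I × Y) F V), Good p ζ N ν Φ E b ∧ ((∃ x ∈ E, ∃ y ∈ E, x * y ≠ y * x) → p ≤ Fintype.card Y) := by
  induction n with
  | zero =>
    intro V _ _ _ _ Φ E hn
    exact absurd (Nat.le_zero.1 hn) (Module.finrank_pos (R := F) (M := V)).ne'
  | succ n ih =>
    intro V _ _ _ _ Φ E hn K hE hA
    by_cases hnc : ∃ x ∈ E, ∃ y ∈ E, x * y ≠ y * x
    · obtain ⟨a, ha, f, hf, P⟩ := exists_pair hp hp2 K hE hz hz1 hnc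
      have haI := hE.le ha
      have := P.nontrivial
      have h1 : Module.finrank F (V0 a) ≤ n := by
        have h2 := P.finrank
        have h3 : 0 < Module.finrank F (V0 a) := Module.finrank_pos
        have h4 : 2 * Module.finrank F (V0 a) ≤ p * Module.finrank F (V0 a) := Nat.mul_le_mul_right _ hp.two_le
        omega
      obtain ⟨I, Y, _, _, _, _, b0, G, -⟩ := ih h1 (K.on P haI hζ) (hE.E0 K P haI hζ) (hA.E0 hE K P ha hf hζ)
      obtain ⟨β, hβN, hβ⟩ := hE.exists_N K hf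
      refine ⟨I, Fin p × Y, inferInstance, inferInstance, inferInstance, inferInstance, liftb P b0,
        G.step P hE ha hf (K.s_zeta hζ) hβ hβN, fun _ => ?_⟩
      have h2 : Nonempty (I × Y) := b0.index_nonempty
      obtain ⟨⟨i, y⟩⟩ := h2
      have h3 : 0 < Fintype.card Y := Fintype.card_pos_iff.2 ⟨y⟩
      rw [Fintype.card_prod, Fintype.card_fin]
      exact Nat.le_mul_of_pos_right p h3
    · have hc : ∀ x ∈ E, ∀ y ∈ E, x * y = y * x := by
        intro x hx y hy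
        by_contra h
        exact hnc ⟨x, hx, y, hy, h⟩
      obtain ⟨I, Y, h1, h2, h3, h4, b, G⟩ := bot hp hp2 hz hz1 hζ K hE hA hc
      exact ⟨I, Y, h1, h2, h3, h4, b, G, fun h => absurd h hnc⟩

end Cfsg.Agent.H557.Gp

end
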