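import Cfsg.Agent.H557.Gp.NcExist

/-! # S2187, non-commuting preimage: block groups, linear theorem (helper557) -/

section
/-!
# S2187, non-commuting preimage: the block groups `SL_p(q)`, `SU_p(q)`; edges
-/

set_option autoImplicit false
set_option linter.unusedSectionVars false
set_option linter.unusedVariables false

namespace Cfsg.Agent.H557.Gp

open Cfsg Cfsg.Geo
open scoped MatrixGroups Matrix
open Cfsg.Agent.H847.Bs Cfsg.Agent.H557.Bs
open Cfsg.Agent.H321.Ker
open Cfsg.Agent.LieClassical.HermBasic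
open Cfsg.Agent.H918 (SUg)

universe u v

theorem SL_perfect {F : Type*} [Field F] {n : ℕ} (hn : 3 ≤ n) :
    ⁅specialLinear (Fin n) F, specialLinear (Fin n) F⁆ = specialLinear (Fin n) F := by
  have h1 : (⊤ : Subgroup (Matrix.SpecialLinearGroup (Fin n) F)).map Matrix.SpecialLinearGroup.toGL =
      specialLinear (Fin n) F := by
    have : NeZero n := ⟨by omega⟩
    ext g
    rw [mem_SL_iff]
    constructor
    · rintro ⟨A, -, rfl⟩
      exact A.2
    · intro h
      exact ⟨⟨g, h⟩, trivial, Units.ext rfl⟩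
  rw [← h1, ← Subgroup.map_commutator, ← commutator_def,
    Cfsg.Agent.LieClassical.SLGen.commutator_eq_top (by rwa [Fintype.card_fin])]

variable {F : Type u} {V : Type v} [Field F] [AddCommGroup V] [Module F V]
variable {W : Type} [Fintype W] [DecidableEq W] {p r : ℕ} {ζ β : Fˣ}

section Lin

variable [hp : Fact p.Prime] [NeZero p]

/-- **linear blocks** -/
theorem blk_lin [Fintype F] (h2 : p ≠ 2) (L : LinFacts.{u} p) (U : UniFacts.{u} p) (h7 : 7 ≤ p ∨ (2 : F) ≠ 0)
    (hζ : ζ ^ p = 1) (hζ1 : ζ ≠ 1) (b : Module.Basis (Fin p × W) F V) :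
    Blk b (⊤ : Subgroup (V ≃ₗ[F] V)) ζ β (specialLinear (Fin p) F) := by
  have hp2 := hp.1.two_le
  have hp3 : 3 ≤ p := by omega
  have h4 := four_lt_card h2 hζ hζ1 h7
  obtain ⟨c, hc⟩ := exists_cube_ne_one h4
  refine ⟨le_rfl, ?_, SL_perfect hp3, fun N hN hn => SL_normal hp3 hN hn, ⟨c, hc, tor_mem_SL hp2 c⟩, fun g hg => ?_,
    fun _ _ => trivial⟩
  · refine gen_SL_of h2 L U h7 (Dm_mem ζ β) (Bm_mem ζ β) hζ1 ?_ ?_ ?_
    · have := congrArg Units.val (Dm_Bm (n := p) (β := β) hζ)
      rw [Units.val_mul, Units.val_mul, Units.val_mul, sc_coe, Matrix.smul_mul, one_mul] at this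
      exact this
    · rw [Dm_pow_eq hζ]
      exact one_mem _
    · rw [Bm_pow_eq]
      exact sc_mem β
  · have := (MonoidHom.normal_ker (Matrix.GeneralLinearGroup.det : GL (Fin p) F →* Fˣ)).conj_mem g hg (Bm p β)⁻¹
    rwa [inv_inv] at this

end Lin

section Herm

variable (b : Module.Basis (Fin p × W) F V) {Φ : Frm F V}

/-- vectors of a block -/
noncomputable def inj (w : W) : (Fin p → F) →ₗ[F] V := Fintype.linearCombination F fun i => b (i, w)

theorem inj_apply (w : W) (u : Fin p → F) : inj b w u = ∑ i, u i • b (i, w) := by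
  rw [inj, Fintype.linearCombination_apply]

theorem inj_single (w : W) (i : Fin p) : inj b w (Pi.single i 1) = b (i, w) := by
  rw [inj_apply, Finset.sum_eq_single i]
  · rw [Pi.single_eq_same, one_smul]
  · intro j _ hj
    rw [Pi.single_eq_of_ne hj, zero_smul]
  · intro h; exact absurd (Finset.mem_univ _) h

variable [NeZero p]

theorem Bd_inj (h : W → Matrix (Fin p) (Fin p) F) (w : W) (u : Fin p → F) :
    Bd b h (inj b w u) = inj b w (h w *ᵥ u) := by
  rw [inj_apply, inj_apply, map_sum]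
  have h1 : ∀ j, Bd b h (u j • b (j, w)) = ∑ i, (h w i j * u j) • b (i, w) := by
    intro j
    rw [map_smul, Bd_apply, Finset.smul_sum]
    exact Finset.sum_congr rfl fun i _ => by rw [smul_smul, mul_comm]
  rw [Finset.sum_congr rfl fun j _ => h1 j, Finset.sum_comm]
  refine Finset.sum_congr rfl fun i _ => ?_
  rw [← Finset.sum_smul]
  rfl

theorem B_inj [Finite F] [Module.Finite F V] (hΦ : IsHerm r Φ) (hb : ∀ x x', Φ.B (b x) (b x') = if x = x' then 1 else 0) (w w' : W)
    (u u' : Fin p → F) : Φ.B (inj b w u) (inj b w' u') = if w = w' then hermForm p F r u u' else 0 := by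
  rw [inj_apply, inj_apply, B_sum_left]
  have h1 : ∀ i, Φ.B (u i • b (i, w)) (∑ j, u' j • b (j, w')) = if w = w' then u i * (u' i) ^ r else 0 := by
    intro i
    rw [B_sum_right, Finset.sum_eq_single i]
    · rw [Φ.smul_left, Φ.smul_right, hb, hΦ.s]
      by_cases h : w = w'
      · rw [if_pos h, h, if_pos rfl, mul_one]
      · rw [if_neg h, if_neg (fun h' => h (congrArg Prod.snd h')), mul_zero, mul_zero]
    · intro j _ hj
      rw [Φ.smul_left, Φ.smul_right, hb, if_neg (fun h' => hj (congrArg Prod.fst h').symm), mul_zero, mul_zero]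
    · intro h; exact absurd (Finset.mem_univ _) h
  rw [Finset.sum_congr rfl fun i _ => h1 i]
  split_ifs
  · rfl
  · exact Finset.sum_const_zero

theorem BdG_iso [Finite F] [Module.Finite F V] (hΦ : IsHerm r Φ) (hb : ∀ x x', Φ.B (b x) (b x') = if x = x' then 1 else 0)
    {h : W → GL (Fin p) F} (hh : ∀ w, h w ∈ GU p F r) : BdG b h ∈ Φ.Iso := by
  refine iso_of_basis hΦ.q b _ ?_
  rintro ⟨i, w⟩ ⟨j, w'⟩
  rw [← inj_single b w i, ← inj_single b w' j, BdG_apply, BdG_apply, Bd_inj, Bd_inj, B_inj b hΦ hb, B_inj b hΦ hb]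
  split_ifs with hw
  · subst hw
    exact (mem_GU_iff _).1 (hh w) _ _
  · rfl

end Herm

section Uni

variable [hp : Fact p.Prime] [NeZero p] {Φ : Frm F V}

/-- **unitary blocks** -/
theorem blk_uni [Fintype F] [Module.Finite F V] (h2 : p ≠ 2) (U : UniFacts.{u} p) (h7 : 7 ≤ p ∨ (2 : F) ≠ 0) (hΦ : IsHerm r Φ)
    (hζ : ζ ^ p = 1) (hζ1 : ζ ≠ 1) (hζr : ζ ^ (r + 1) = 1) (hβ : β ^ (r + 1) = 1)
    (b : Module.Basis (Fin p × W) F V) (hb : ∀ x x', Φ.B (b x) (b x') = if x = x' then 1 else 0) :
    Blk b Φ.Iso ζ β (SUg p F r) := by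
  have hp2 := hp.1.two_le
  have hp3 : 3 ≤ p := by omega
  have hF : Fintype.card F = r ^ 2 := by rw [← Nat.card_eq_fintype_card, hΦ.card]
  have hr3 := three_le_q hF hζ hζ1 hζr h7
  obtain ⟨c, hc, hc3⟩ := exists_norm_one_cube hF hr3
  have h32 : ¬ (p = 3 ∧ r = 2) := by omega
  have hBm : Bm p β ∈ GU p F r := Bm_mem_GU (norm_iff.2 hβ)
  refine ⟨inf_le_right, ?_, Cfsg.Agent.H918.SUg_perfect hF hp3 h32, fun N hN hn => Cfsg.Agent.H918.SUg_normal hF hp3 h32 hN hn,
    ⟨c, hc3, tor_mem_GU hc, tor_mem_SL hp2 c⟩, fun g hg => ?_, fun h hh => BdG_iso b hΦ hb fun w => (hh w).1⟩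
  · refine gen_SU_of h2 U hF h7 (Dm_mem ζ β) (Bm_mem ζ β) (Dm_mem_GU hζr) hBm hζ1 ?_ ?_ ?_
    · have := congrArg Units.val (Dm_Bm (n := p) (β := β) hζ)
      rw [Units.val_mul, Units.val_mul, Units.val_mul, sc_coe, Matrix.smul_mul, one_mul] at this
      exact this
    · rw [Dm_pow_eq hζ]
      exact one_mem _
    · rw [Bm_pow_eq]
      exact sc_mem β
  · refine ⟨(GU p F r).mul_mem ((GU p F r).mul_mem ((GU p F r).inv_mem hBm) hg.1) hBm, ?_⟩
    have := (MonoidHom.normal_ker (Matrix.GeneralLinearGroup.det : GL (Fin p) F →* Fˣ)).conj_mem g hg.2 (Bm p β)⁻¹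
    rwa [inv_inv] at this

end Uni

end Cfsg.Agent.H557.Gp

end

section
/-!
# S2187, non-commuting preimage: the linear theorem
-/

set_option autoImplicit false
set_option linter.unusedSectionVars false
set_option linter.unusedVariables false

namespace Cfsg.Agent.H557.Gp

open Cfsg Cfsg.Geo
open scoped MatrixGroups Matrix
open Cfsg.Agent.H847.Bs Cfsg.Agent.H557.Bs
open Cfsg.Agent.H321.Ker
open Cfsg.Agent.LieClassical

universe u v

variable {F : Type u} {V : Type v} [Field F] [AddCommGroup V] [Module F V]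
variable {X : Type} [Fintype X] [DecidableEq X]

/-- the automorphism attached to a matrix -/
noncomputable def Th (b : Module.Basis X F V) : Matrix.SpecialLinearGroup X F →* (V ≃ₗ[F] V) :=
  (LinearMap.GeneralLinearGroup.generalLinearEquiv F V).toMonoidHom.comp
    ((Units.map (Matrix.toLinAlgEquiv b : Matrix X X F →* Module.End F V)).comp Matrix.SpecialLinearGroup.toGL)

theorem Th_coe (b : Module.Basis X F V) (A : Matrix.SpecialLinearGroup X F) :
    ((Th b A : V ≃ₗ[F] V) : V →ₗ[F] V) = Matrix.toLinAlgEquiv b A.1 := rfl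

theorem Th_tv (b : Module.Basis X F V) {x x' : X} (h : x ≠ x') (c : F) (k : X) :
    Th b (Matrix.SpecialLinearGroup.transvection h c) (b k) = b k + (if k = x' then c • b x else 0) := by
  show Matrix.toLinAlgEquiv b (Matrix.transvection x x' c) (b k) = _
  rw [Matrix.transvection, map_add, map_one, LinearMap.add_apply, Module.End.one_apply, Matrix.toLinAlgEquiv_self]
  congr 1
  rw [Finset.sum_eq_single x]
  · rw [Matrix.single_apply]
    by_cases hk : k = x'
    · rw [if_pos hk, if_pos ⟨rfl, hk.symm⟩]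
    · rw [if_neg hk, if_neg (fun h => hk h.2.symm), zero_smul]
  · intro y _ hy
    rw [Matrix.single_apply, if_neg (fun h => hy h.1.symm), zero_smul]
  · intro h; exact absurd (Finset.mem_univ _) h

/-- `M` contains the root group -/
def HasT (b : Module.Basis X F V) (M : Subgroup (V ≃ₗ[F] V)) (x x' : X) : Prop :=
  ∀ (h : x ≠ x') (c : F), Th b (Matrix.SpecialLinearGroup.transvection h c) ∈ M

theorem HasT.trans {b : Module.Basis X F V} {M : Subgroup (V ≃ₗ[F] V)} {x y z : X} (hxy : x ≠ y) (hyz : y ≠ z)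
    (h1 : HasT b M x y) (h2 : HasT b M y z) : HasT b M x z := by
  intro hxz c
  have h3 := SLGen.commutator_transvection hxz hxy hyz c (1 : F)
  rw [mul_one] at h3
  rw [← h3, commutatorElement_def, map_mul, map_mul, map_mul, map_inv, map_inv]
  exact M.mul_mem (M.mul_mem (M.mul_mem (h1 hxy c) (h2 hyz 1)) (M.inv_mem (h1 hxy c))) (M.inv_mem (h2 hyz 1))

theorem HasT.of_conn {b : Module.Basis X F V} {M : Subgroup (V ≃ₗ[F] V)} {x y : X}
    (h : Relation.ReflTransGen (HasT b M) x y) : HasT b M x y := by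
  induction h with
  | refl => exact fun h => absurd rfl h
  | @tail y z h1 h2 ih =>
    by_cases h3 : x = y
    · subst h3; exact h2
    by_cases h4 : y = z
    · subst h4; exact ih
    · exact ih.trans h3 h4 h2

theorem full_lin {b : Module.Basis X F V} {M : Subgroup (V ≃ₗ[F] V)} (h : ∀ x y, HasT b M x y) (g : V ≃ₗ[F] V)
    (hg : LinearMap.det (g : V →ₗ[F] V) = 1) : g ∈ M := by
  have h1 : (LinearMap.toMatrix b b (g : V →ₗ[F] V)).det = 1 := by rw [LinearMap.det_toMatrix, hg]
  let A : Matrix.SpecialLinearGroup X F := ⟨_, h1⟩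
  have h2 : Th b A = g := by
    apply LinearEquiv.toLinearMap_injective
    rw [Th_coe]
    exact Matrix.toLin_toMatrix b b _
  rw [← h2]
  have h3 : A ∈ Subgroup.closure (SLGen.transvections X F) := by
    rw [SLGen.closure_transvections]; trivial
  have h4 : Subgroup.closure (SLGen.transvections X F) ≤ M.comap (Th b) := by
    rw [Subgroup.closure_le]
    rintro _ ⟨i, j, hij, c, rfl⟩
    exact h i j hij c
  exact h4 h3

section Edges

variable {p : ℕ} {ζ : Fˣ} {E M : Subgroup (V ≃ₗ[F] V)}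

theorem edge_lin [Fintype F] [hp : Fact p.Prime] [NeZero p] (h2 : p ≠ 2) (L : LinFacts.{u} p) (U : UniFacts.{u} p)
    (h7 : 7 ≤ p ∨ (2 : F) ≠ 0) (hζ : ζ ^ p = 1) (hζ1 : ζ ≠ 1) (hE : NC p ⊤ E) (hM : Hyps p ⊤ E M) {b : Module.Basis X F V}
    {N : Subgroup Fˣ} {x x' : X} (h : Edge b p ζ N E x x') : HasT b M x x' := by
  intro hxx c
  obtain ⟨W, _, _, κ, β, -, hw, C⟩ := h
  have hp3 : 3 ≤ p := by have := hp.1.two_le; omega
  have hij : (κ x).1 ≠ (κ x').1 := by
    intro h
    exact hxx (κ.injective (Prod.ext h hw))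
  have key := block_mem hE hM hp.1 hp3 hζ hζ1 (blk_lin (β := β) h2 L U h7 hζ hζ1 (b.reindex κ)) C
    (g := Matrix.SpecialLinearGroup.toGL (Matrix.SpecialLinearGroup.transvection hij c))
    (mem_SL_iff.2 (Matrix.SpecialLinearGroup.transvection hij c).2)
  have e : BdG (b.reindex κ) (Pi.mulSingle (κ x).2
      (Matrix.SpecialLinearGroup.toGL (Matrix.SpecialLinearGroup.transvection hij c))) =
      Th b (Matrix.SpecialLinearGroup.transvection hxx c) := by
    apply LinearEquiv.toLinearMap_injective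
    refine (b.reindex κ).ext fun t => ?_
    obtain ⟨y, rfl⟩ := κ.surjective t
    have hb : b.reindex κ (κ y) = b y := by rw [Module.Basis.reindex_apply, Equiv.symm_apply_apply]
    show BdG (b.reindex κ) _ (b.reindex κ (κ y)) = Th b _ (b.reindex κ (κ y))
    rw [hb, Th_tv, ← hb]
    have h1 : b.reindex κ (κ y) = inj (b.reindex κ) (κ y).2 (Pi.single (κ y).1 1) := by rw [inj_single]
    rw [h1, BdG_apply, Bd_inj]
    by_cases hy : (κ y).2 = (κ x).2
    · rw [hy, Pi.mulSingle_eq_same]
      have h2 : ((Matrix.SpecialLinearGroup.toGL (Matrix.SpecialLinearGroup.transvection hij c) : GL (Fin p) F) :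
          Matrix (Fin p) (Fin p) F) *ᵥ Pi.single (κ y).1 1 = Pi.single (κ y).1 1 +
          (c * (Pi.single (κ y).1 1 : Fin p → F) (κ x').1) • Pi.single (κ x).1 (1 : F) := by
        show (1 + Matrix.single (κ x).1 (κ x').1 c) *ᵥ _ = _
        rw [Matrix.add_mulVec, Matrix.one_mulVec, Matrix.single_mulVec_eq]
      rw [h2, map_add, map_smul, inj_single, inj_single]
      congr 1
      by_cases hyx : y = x'
      · rw [if_pos hyx, hyx, Pi.single_eq_same, mul_one, Module.Basis.reindex_apply]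
        show c • b (κ.symm (κ x)) = _
        rw [Equiv.symm_apply_apply]
      · rw [if_neg hyx, Pi.single_eq_of_ne, mul_zero, zero_smul]
        intro h
        exact hyx (κ.injective (Prod.ext h.symm (hy.trans hw)))
    · rw [Pi.mulSingle_eq_of_ne hy, Units.val_one, Matrix.one_mulVec, if_neg, add_zero]
      rintro rfl
      exact hy hw.symm
  rw [← e]
  exact key

end Edges

/-- the zero form -/
def zf (F : Type u) (V : Type v) [Field F] [AddCommGroup V] [Module F V] : Frm F V where
  B _ _ := 0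
  q _ := 0
  s a := a
  add_left _ _ _ := (add_zero 0).symm
  add_right _ _ _ := (add_zero 0).symm
  smul_left _ _ _ := (mul_zero _).symm
  smul_right _ _ _ := (mul_zero _).symm
  refl _ _ _ := rfl
  q_add _ _ _ := (add_zero 0).symm

theorem NC.nontrivial {p : ℕ} {G E : Subgroup (V ≃ₗ[F] V)} (hE : NC p G E) : Nontrivial V := by
  by_contra h
  rw [not_nontrivial_iff_subsingleton] at h
  obtain ⟨x, -, y, -, hxy⟩ := hE.nc
  exact hxy (LinearEquiv.ext fun v => Subsingleton.elim _ _)

/-- **the linear theorem**, from the maximality facts -/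
theorem linearNC_of {p : ℕ} (hp : p.Prime) (hp2 : p ≠ 2) (L : LinFacts.{u} p) (U : UniFacts.{u} p) : LinearNC.{u, v} p := by
  intro F V _ _ _ _ _ h7 E M hE hM hirr g hg
  have := Fintype.ofFinite F
  have := Fact.mk hp
  have : NeZero p := ⟨hp.ne_zero⟩
  have := hE.nontrivial
  have hEA : EA p (zf F V) E := ⟨fun _ _ => ⟨fun _ _ => rfl, fun _ => rfl⟩, fun g _ => hE.scal g trivial, hE.pow, hE.comm⟩
  have hA : An (zf F V) E := fun W hW _ => hirr W hW
  have K : Kd 0 (⊤ : Subgroup Fˣ) 0 (zf F V) := Or.inl ⟨rfl, fun _ _ => rfl, fun _ => rfl, rfl⟩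
  obtain ⟨x, hx, y, hy, hxy⟩ := hE.nc
  obtain ⟨c, hc⟩ := hE.comm y hy x hx
  have hcp := hEA.comm_root hy hc
  have hc0 : c ≠ 0 := by
    rintro rfl
    rw [zero_pow hp.ne_zero] at hcp
    exact zero_ne_one hcp
  have hz : (Units.mk0 c hc0) ^ p = 1 := Units.ext (by rw [Units.val_pow_eq_pow_val, Units.val_mk0, hcp, Units.val_one])
  have hz1 : Units.mk0 c hc0 ≠ 1 := by
    intro h
    have h1 : c = 1 := by rw [← Units.val_mk0 hc0, h, Units.val_one]
    apply hxy
    refine LinearEquiv.ext fun v => ?_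
    have := hc v
    rw [h1, one_smul] at this
    exact this.symm
  obtain ⟨I, Y, _, _, _, _, b, G, -⟩ := exists_good (N := ⊤) (ν := (0 : F)) hp hp2 hz hz1 trivial _ le_rfl K hEA hA
  have hI : ∀ i j : I, i = j := by
    intro i j
    by_contra hij
    have hne := b.index_nonempty
    obtain ⟨⟨-, y⟩⟩ := hne
    have h1 := hirr (LinearMap.range (th b i i)) (by
      rintro g hg _ ⟨v, rfl⟩
      obtain ⟨c, hc⟩ := G.theta i i g hg
      rw [hc]
      exact Submodule.smul_mem _ _ ⟨_, rfl⟩)
    have hi : th b i i (b (i, y)) = b (i, y) := by rw [th_apply, if_pos rfl]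
    rcases h1 with h1 | h1
    · have h2 : th b i i (b (i, y)) ∈ LinearMap.range (th b i i) := ⟨_, rfl⟩
      rw [h1, Submodule.mem_bot, hi] at h2
      exact b.ne_zero _ h2
    · have h2 : b (j, y) ∈ LinearMap.range (th b i i) := by rw [h1]; trivial
      obtain ⟨v, hv⟩ := h2
      have h3 : th b j j * th b i i = 0 := by
        refine b.ext fun t => ?_
        show th b j j (th b i i (b t)) = 0
        rw [th_apply]
        split_ifs
        · rw [th_apply, if_neg hij]
        · rw [map_zero]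
      have h4 : th b j j (th b i i v) = 0 := LinearMap.congr_fun h3 v
      rw [hv, th_apply, if_pos rfl] at h4
      exact b.ne_zero _ h4
  refine full_lin (b := b) (M := M) ?_ g hg
  rintro ⟨i, y⟩ ⟨j, y'⟩
  obtain rfl := hI i j
  refine HasT.of_conn ?_
  have h1 : ∀ {s t : I × Y}, Relation.ReflTransGen (Edge b p (Units.mk0 c hc0) ⊤ E) s t →
      Relation.ReflTransGen (HasT b M) s t := by
    intro s t h
    induction h with
    | refl => exact Relation.ReflTransGen.refl
    | tail _ h ih => exact ih.tail (edge_lin hp2 L U h7 hz hz1 hE hM h)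
  exact h1 (G.conn i y y')

end Cfsg.Agent.H557.Gp

end
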