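import Cfsg.Agent.H557.Gp.NcUni
import Cfsg.Agent.H321.Ker.Facts

/-! # S2187, non-commuting preimage: the linear and the unitary rows (helper557) -/

set_option autoImplicit false

namespace Cfsg.Agent.H557.Gp

universe u v

/-- **the linear row, non-commuting preimage** -/
theorem linearNC {p : ℕ} (hp : p.Prime) (hp2 : p ≠ 2) : LinearNC.{u, v} p :=
  linearNC_of hp hp2 (Cfsg.Agent.H321.Ker.linFacts hp hp2) (Cfsg.Agent.H321.Ker.uniFacts hp hp2)

/-- **the unitary row, non-commuting preimage** -/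
theorem unitaryNC {p : ℕ} (hp : p.Prime) (hp2 : p ≠ 2) : UnitaryNC.{u, v} p :=
  unitaryNC_of hp hp2 (Cfsg.Agent.H321.Ker.uniFacts hp hp2)

end Cfsg.Agent.H557.Gp
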