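import Cfsg.Agent.H557.Gp.NcLin
import Cfsg.Agent.S0281
import Cfsg.Agent.SignalizersComponents.SLQuasisimple
import Cfsg.Agent.SignalizersComponents.Components

/-! # S2187, non-commuting preimage: unitary theorem (helper557) -/

section
/-!
# S2187, non-commuting preimage: unitary edges
-/

set_option autoImplicit false
set_option linter.unusedSectionVars false
set_option linter.unusedVariables false

namespace Cfsg.Agent.H557.Gp

open Cfsg Cfsg.Geo
open scoped MatrixGroups Matrix
open Cfsg.Agent.H847.Bs Cfsg.Agent.H557.Bs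
open Cfsg.Agent.H321.Ker
open Cfsg.Agent.LieClassical.HermBasic
open Cfsg.Agent.H918 (SUg)

universe u v

variable {F : Type u} {V : Type v} [Field F] [AddCommGroup V] [Module F V]
variable {X : Type} [Fintype X] [DecidableEq X] {p r : ℕ} {ζ : Fˣ} {E M : Subgroup (V ≃ₗ[F] V)} {Φ : Frm F V}
  {N : Subgroup Fˣ}

/-- coordinates with respect to an orthonormal basis -/
theorem repr_on [Finite F] [Module.Finite F V] (hΦ : IsHerm r Φ) {b : Module.Basis X F V}
    (hb : ∀ x x', Φ.B (b x) (b x') = if x = x' then 1 else 0) (v : V) (x : X) : b.repr v x = Φ.B v (b x) := by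
  conv_rhs => rw [← b.sum_repr v]
  rw [B_sum_left, Finset.sum_eq_single x]
  · rw [Φ.smul_left, hb, if_pos rfl, mul_one]
  · intro y _ hy
    rw [Φ.smul_left, hb, if_neg hy, mul_zero]
  · intro h; exact absurd (Finset.mem_univ _) h

/-- **unitary edges** -/
theorem edge_uni [Fintype F] [Module.Finite F V] [hp : Fact p.Prime] [NeZero p] (h2 : p ≠ 2) (U : UniFacts.{u} p)
    (h7 : 7 ≤ p ∨ (2 : F) ≠ 0) (hΦ : IsHerm r Φ) (hN : ∀ c : Fˣ, c ∈ N ↔ c ^ (r + 1) = 1)
    (hζ : ζ ^ p = 1) (hζ1 : ζ ≠ 1) (hζN : ζ ∈ N) (hE : NC p Φ.Iso E) (hM : Hyps p Φ.Iso E M) {b : Module.Basis X F V}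
    (hb : ∀ x x', Φ.B (b x) (b x') = if x = x' then 1 else 0)
    {x x' : X} (h : Edge b p ζ N E x x') : HasP Φ b M x x' := by
  intro g hg hd hfix
  obtain ⟨W, _, _, κ, β, hβ, hw, C⟩ := h
  have hp3 : 3 ≤ p := by have := hp.1.two_le; omega
  have hb' : ∀ t t', Φ.B (b.reindex κ t) (b.reindex κ t') = if t = t' then 1 else 0 := by
    intro t t'
    rw [Module.Basis.reindex_apply, Module.Basis.reindex_apply, hb]
    congr 1
    rw [EmbeddingLike.apply_eq_iff_eq]
  -- the matrix of the block
  let A : Matrix (Fin p) (Fin p) F := fun i j => (b.reindex κ).repr (g (b.reindex κ (j, (κ x).2))) (i, (κ x).2)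
  have hgB : (g : V →ₗ[F] V) = Bd (b.reindex κ) (Function.update 1 (κ x).2 A) := by
    refine (b.reindex κ).ext fun t => ?_
    obtain ⟨j, w⟩ := t
    rw [Bd_apply]
    show g (b.reindex κ (j, w)) = _
    by_cases hwx : w = (κ x).2
    · subst hwx
      rw [Function.update_self]
      conv_lhs => rw [← (b.reindex κ).sum_repr (g (b.reindex κ (j, (κ x).2))), Fintype.sum_prod_type]
      refine Finset.sum_congr rfl fun i _ => ?_
      rw [Finset.sum_eq_single (κ x).2]
      · intro w' _ hw'
        rw [repr_on hΦ hb']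
        have h1 : g (b.reindex κ (i, w')) = b.reindex κ (i, w') := by
          rw [Module.Basis.reindex_apply]
          refine hfix _ ?_ ?_
          · intro h
            apply hw'
            rw [← h, Equiv.apply_symm_apply]
          · intro h
            apply hw'
            rw [hw, ← h, Equiv.apply_symm_apply]
        rw [← h1, hg.1, hb', if_neg, zero_smul]
        intro h
        exact hw' (congrArg Prod.snd h).symm
      · intro h; exact absurd (Finset.mem_univ _) h
    · rw [Function.update_of_ne hwx]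
      have h1 : g (b.reindex κ (j, w)) = b.reindex κ (j, w) := by
        rw [Module.Basis.reindex_apply]
        refine hfix _ ?_ ?_
        · intro h
          apply hwx
          rw [← h, Equiv.apply_symm_apply]
        · intro h
          apply hwx
          rw [hw, ← h, Equiv.apply_symm_apply]
      rw [h1, Finset.sum_eq_single j]
      · show _ = (1 : Matrix (Fin p) (Fin p) F) j j • _
        rw [Matrix.one_apply_eq, one_smul]
      · intro i _ hi
        show (1 : Matrix (Fin p) (Fin p) F) i j • _ = _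
        rw [Matrix.one_apply_ne hi, zero_smul]
      · intro h; exact absurd (Finset.mem_univ _) h
  have hdet : A.det = 1 := by
    rw [hgB, det_Bd, Finset.prod_eq_single (κ x).2] at hd
    · rwa [Function.update_self] at hd
    · intro w _ hw
      rw [Function.update_of_ne hw]
      exact Matrix.det_one
    · intro h; exact absurd (Finset.mem_univ _) h
  let B : GL (Fin p) F := Matrix.SpecialLinearGroup.toGL ⟨A, hdet⟩
  have hBA : (B : Matrix (Fin p) (Fin p) F) = A := rfl
  have hgE : g = BdG (b.reindex κ) (Pi.mulSingle (κ x).2 B) := by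
    apply LinearEquiv.toLinearMap_injective
    rw [BdG_coe, hgB]
    congr 1
    funext w
    by_cases hwx : w = (κ x).2
    · rw [hwx, Function.update_self, Pi.mulSingle_eq_same, hBA]
    · rw [Function.update_of_ne hwx, Pi.mulSingle_eq_of_ne hwx]
      rfl
  have hB : B ∈ SUg p F r := by
    refine ⟨(mem_GU_iff _).2 fun u v => ?_, mem_SL_iff.2 hdet⟩
    have h1 : ∀ u : Fin p → F, g (inj (b.reindex κ) (κ x).2 u) = inj (b.reindex κ) (κ x).2 (A *ᵥ u) := by
      intro u
      have : g (inj (b.reindex κ) (κ x).2 u) = (g : V →ₗ[F] V) (inj (b.reindex κ) (κ x).2 u) := rfl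
      rw [this, hgB, Bd_inj, Function.update_self]
    have h2 := hg.1 (inj (b.reindex κ) (κ x).2 u) (inj (b.reindex κ) (κ x).2 v)
    rw [h1, h1, B_inj (b.reindex κ) hΦ hb', B_inj (b.reindex κ) hΦ hb', if_pos rfl, if_pos rfl] at h2
    exact h2
  rw [hgE]
  exact block_mem hE hM hp.1 hp3 hζ hζ1
    (blk_uni (β := β) h2 U h7 hΦ hζ hζ1 ((hN ζ).1 hζN) ((hN β).1 hβ) (b.reindex κ) hb') C hB

/-- isometries supported on a plane -/
theorem eq_plE [Finite F] [Module.Finite F V] (hΦ : IsHerm r Φ) {b : Module.Basis X F V} (hb : ON Φ b) {x x' : X}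
    (hxx : x ≠ x') {g : V ≃ₗ[F] V} (hg : g ∈ Φ.Iso) (hd : LinearMap.det (g : V →ₗ[F] V) = 1)
    (hfix : ∀ k, k ≠ x → k ≠ x' → g (b k) = b k) :
    ∃ (u v : F) (h : u ^ (r + 1) + v ^ (r + 1) = 1), g = plE b r hxx hΦ.card h := by
  have hb' : ∀ t t', Φ.B (b t) (b t') = if t = t' then 1 else 0 := by
    intro t t'
    split_ifs with h
    · rw [h]; exact hb.2 t'
    · exact hb.1 t t' h
  have hr0 : r ≠ 0 := by have := two_le_of_card hΦ.card; omega
  have hgx : ∀ k, k ≠ x → k ≠ x' → ∀ y, y ≠ k → b.repr (g (b y)) k = 0 := by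
    intro k hk hk' y hy
    rw [repr_on hΦ hb', ← hfix k hk hk', hg.1, hb', if_neg hy]
  have h1 : g (b x) = b.repr (g (b x)) x • b x + b.repr (g (b x)) x' • b x' := by
    conv_lhs => rw [← b.sum_repr (g (b x))]
    rw [← Finset.sum_subset (Finset.subset_univ {x, x'}), Finset.sum_pair hxx]
    intro k _ hk
    rw [Finset.mem_insert, Finset.mem_singleton, not_or] at hk
    rw [hgx k hk.1 hk.2 x (Ne.symm hk.1), zero_smul]
  set u := b.repr (g (b x)) x with hu
  set v := b.repr (g (b x)) x' with hv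
  have hs : ∀ (a : F) (s t : V), Φ.B s (a • t) = a ^ r * Φ.B s t := fun a s t => by rw [Φ.smul_right, hΦ.s]
  have h : u ^ (r + 1) + v ^ (r + 1) = 1 := by
    have h2 := hg.1 (b x) (b x)
    rw [h1, Φ.add_left, Φ.add_right, Φ.add_right, Φ.smul_left, Φ.smul_left, Φ.smul_left, Φ.smul_left, hs, hs, hs, hs,
      hb', hb', hb', hb', if_pos rfl, if_pos rfl, if_neg hxx, if_neg hxx.symm] at h2
    rw [← h2]
    ring
  refine ⟨u, v, h, ?_⟩
  set m := plE b r hxx hΦ.card h with hm
  have hmI : m ∈ Φ.Iso := plE_iso hΦ hb hxx h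
  have hmx : m (b x) = g (b x) := by
    rw [h1]
    exact pl_i b r x x' u v
  have hmk : ∀ k, k ≠ x → k ≠ x' → m (b k) = b k := fun k hk hk' => pl_k b r u v hk hk'
  set q := m⁻¹ * g with hq
  have hqI : q ∈ Φ.Iso := Φ.Iso.mul_mem (Φ.Iso.inv_mem hmI) hg
  have hqk : ∀ k, k ≠ x' → q (b k) = b k := by
    intro k hk
    show m⁻¹ (g (b k)) = b k
    by_cases hkx : k = x
    · rw [hkx, ← hmx]
      exact m.symm_apply_apply _
    · rw [hfix k hkx hk]
      have h3 : m⁻¹ (m (b k)) = b k := m.symm_apply_apply _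
      rwa [hmk k hkx hk] at h3
  have hqx' : q (b x') = b.repr (q (b x')) x' • b x' := by
    conv_lhs => rw [← b.sum_repr (q (b x'))]
    refine Finset.sum_eq_single x' (fun k _ hk => ?_) (fun h => absurd (Finset.mem_univ _) h)
    rw [repr_on hΦ hb', ← hqk k hk, hqI.1, hb', if_neg (Ne.symm hk), zero_smul]
  set l := b.repr (q (b x')) x' with hl
  have hqd : LinearMap.det (q : V →ₗ[F] V) = 1 := by
    have h3 := plE_det b r hxx hΦ.card h
    have h4 : LinearMap.det ((m * q : V ≃ₗ[F] V) : V →ₗ[F] V) = LinearMap.det (m : V →ₗ[F] V) * LinearMap.det (q : V →ₗ[F] V) :=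
      LinearMap.det_comp _ _
    have h5 : m * q = g := by rw [hq, mul_inv_cancel_left]
    rw [h5, hd] at h4
    rw [show LinearMap.det (m : V →ₗ[F] V) = 1 from h3, one_mul] at h4
    exact h4.symm
  have hqm : LinearMap.toMatrix b b (q : V →ₗ[F] V) = Matrix.diagonal (Function.update 1 x' l) := by
    ext s t
    rw [LinearMap.toMatrix_apply, Matrix.diagonal_apply]
    show b.repr (q (b t)) s = _
    by_cases ht : t = x'
    · rw [ht, hqx', map_smul, Finsupp.smul_apply, Module.Basis.repr_self, Finsupp.single_apply, smul_eq_mul]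
      by_cases hs : s = x'
      · rw [if_pos hs, if_pos hs.symm, hs, Function.update_self, mul_one]
      · rw [if_neg hs, if_neg (Ne.symm hs), mul_zero]
    · rw [hqk t ht, Module.Basis.repr_self, Finsupp.single_apply]
      by_cases hs : s = t
      · rw [if_pos hs, if_pos hs.symm, hs, Function.update_of_ne ht]; rfl
      · rw [if_neg hs, if_neg (Ne.symm hs)]
  have hl1 : l = 1 := by
    rw [← LinearMap.det_toMatrix b, hqm, Matrix.det_diagonal, Finset.prod_eq_single x'] at hqd
    · rwa [Function.update_self] at hqd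
    · intro k _ hk
      rw [Function.update_of_ne hk]; rfl
    · intro h; exact absurd (Finset.mem_univ _) h
  have hq1 : q = 1 := by
    apply LinearEquiv.toLinearMap_injective
    refine b.ext fun k => ?_
    show q (b k) = b k
    by_cases hk : k = x'
    · rw [hk, hqx', hl1, one_smul]
    · exact hqk k hk
  have h5 : m * q = g := by rw [hq, mul_inv_cancel_left]
  rw [← h5, hq1, mul_one]

end Cfsg.Agent.H557.Gp

end

section
/-!
# S2187, non-commuting preimage: connecting the components, unitary case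
-/

set_option autoImplicit false
set_option linter.unusedSectionVars false
set_option linter.unusedVariables false

namespace Cfsg.Agent.H557.Gp

open Cfsg Cfsg.Geo
open scoped MatrixGroups Matrix commutatorElement
open Cfsg.Agent.H847.Bs Cfsg.Agent.H557.Bs

universe u v

variable {F : Type u} {V : Type v} [Field F] [AddCommGroup V] [Module F V]
variable {I Y : Type} [Fintype I] [DecidableEq I] [Fintype Y] [DecidableEq Y] {p r : ℕ}
  {E M : Subgroup (V ≃ₗ[F] V)} {Φ : Frm F V}

section Op

variable (b : Module.Basis (I × Y) F V) (i j : I)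

/-- the action of families of `2 × 2` matrices -/
noncomputable def opY (A : Y → Matrix (Fin 2) (Fin 2) F) : Module.End F V :=
  b.constr F fun t => if t.1 = i then A t.2 0 0 • b (i, t.2) + A t.2 1 0 • b (j, t.2) else
    if t.1 = j then A t.2 0 1 • b (i, t.2) + A t.2 1 1 • b (j, t.2) else b t

theorem opY_i (A : Y → Matrix (Fin 2) (Fin 2) F) (y : Y) :
    opY b i j A (b (i, y)) = A y 0 0 • b (i, y) + A y 1 0 • b (j, y) := by
  rw [opY, Module.Basis.constr_basis, if_pos rfl]

variable {i j} in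
theorem opY_j (hij : i ≠ j) (A : Y → Matrix (Fin 2) (Fin 2) F) (y : Y) :
    opY b i j A (b (j, y)) = A y 0 1 • b (i, y) + A y 1 1 • b (j, y) := by
  rw [opY, Module.Basis.constr_basis, if_neg hij.symm, if_pos rfl]

variable {i j} in
theorem opY_k (A : Y → Matrix (Fin 2) (Fin 2) F) {k : I} (hi : k ≠ i) (hj : k ≠ j) (y : Y) :
    opY b i j A (b (k, y)) = b (k, y) := by
  rw [opY, Module.Basis.constr_basis, if_neg hi, if_neg hj]

variable {i j} in
/-- the monoid homomorphism -/
noncomputable def opH (hij : i ≠ j) : (Y → Matrix (Fin 2) (Fin 2) F) →* Module.End F V where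
  toFun := opY b i j
  map_one' := by
    refine b.ext fun t => ?_
    obtain ⟨k, y⟩ := t
    by_cases hi : k = i
    · subst hi
      rw [opY_i]
      show (1 : Matrix (Fin 2) (Fin 2) F) 0 0 • b (k, y) + (1 : Matrix (Fin 2) (Fin 2) F) 1 0 • b (j, y) = b (k, y)
      rw [Matrix.one_apply_eq, Matrix.one_apply_ne (by decide), one_smul, zero_smul, add_zero]
    by_cases hj : k = j
    · subst hj
      rw [opY_j b hij]
      show (1 : Matrix (Fin 2) (Fin 2) F) 0 1 • b (i, y) + (1 : Matrix (Fin 2) (Fin 2) F) 1 1 • b (k, y) = b (k, y)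
      rw [Matrix.one_apply_eq, Matrix.one_apply_ne (by decide), one_smul, zero_smul, zero_add]
    rw [opY_k b _ hi hj]
    rfl
  map_mul' A B := by
    refine b.ext fun t => ?_
    obtain ⟨k, y⟩ := t
    show _ = opY b i j A (opY b i j B (b (k, y)))
    have hm : ∀ s t, (A * B) y s t = A y s 0 * B y 0 t + A y s 1 * B y 1 t := by
      intro s t
      rw [Pi.mul_apply, Matrix.mul_apply, Fin.sum_univ_two]
    by_cases hi : k = i
    · subst hi
      rw [opY_i, opY_i, map_add, map_smul, map_smul, opY_i, opY_j b hij, hm, hm]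
      simp only [smul_add, add_smul, smul_smul]
      rw [mul_comm (A y 0 0), mul_comm (A y 0 1), mul_comm (A y 1 0), mul_comm (A y 1 1)]
      abel
    by_cases hj : k = j
    · subst hj
      rw [opY_j b hij, opY_j b hij, map_add, map_smul, map_smul, opY_i, opY_j b hij, hm, hm]
      simp only [smul_add, add_smul, smul_smul]
      rw [mul_comm (A y 0 0), mul_comm (A y 0 1), mul_comm (A y 1 0), mul_comm (A y 1 1)]
      abel
    rw [opY_k b _ hi hj, opY_k b _ hi hj, opY_k b _ hi hj]

/-- matrices of elements of `SU_2` -/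
def suM (F : Type*) [Field F] (r : ℕ) : ↥(SU 2 F r) →* Matrix (Fin 2) (Fin 2) F where
  toFun A := ((A : Matrix.SpecialLinearGroup (Fin 2) F) : Matrix (Fin 2) (Fin 2) F)
  map_one' := rfl
  map_mul' _ _ := rfl

variable {i j} in
/-- the action of `SU_2^Y` -/
noncomputable def opG (r : ℕ) (hij : i ≠ j) : (Y → ↥(SU 2 F r)) →* (V ≃ₗ[F] V) :=
  (LinearMap.GeneralLinearGroup.generalLinearEquiv F V).toMonoidHom.comp
    ((opH b hij).comp ((suM F r).compLeft Y)).toHomUnits

theorem opG_apply (hij : i ≠ j) (n : Y → ↥(SU 2 F r)) (v : V) :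
    opG b r hij n v = opY b i j (fun y => suM F r (n y)) v := rfl

end Op

/-- the entries of the elements of `SU_2` -/
theorem su_entries [Finite F] (hc : Nat.card F = r ^ 2) (A : ↥(SU 2 F r)) :
    suM F r A 0 0 ^ (r + 1) + suM F r A 1 0 ^ (r + 1) = 1 ∧ suM F r A 0 1 = -(suM F r A 1 0 ^ r) ∧
      suM F r A 1 1 = suM F r A 0 0 ^ r := by
  have hr0 : r ≠ 0 := by have := two_le_of_card hc; omega
  have hA := A.2
  rw [Cfsg.Agent.LieClassical.HermBasic.mem_SU_iff] at hA
  have hdet : suM F r A 0 0 * suM F r A 1 1 - suM F r A 0 1 * suM F r A 1 0 = 1 := by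
    have := (A : Matrix.SpecialLinearGroup (Fin 2) F).2
    rw [Matrix.det_fin_two] at this
    exact this
  have hcol : ∀ s t : Fin 2, suM F r A 0 s * suM F r A 0 t ^ r + suM F r A 1 s * suM F r A 1 t ^ r =
      if s = t then 1 else 0 := by
    intro s t
    have h1 := hA (Pi.single s 1) (Pi.single t 1)
    rw [Matrix.mulVec_single_one, Matrix.mulVec_single_one] at h1
    have h2 : hermForm 2 F r (Pi.single s 1) (Pi.single t 1) = if s = t then 1 else 0 := by
      show ∑ k : Fin 2, (Pi.single s 1 : Fin 2 → F) k * ((Pi.single t 1 : Fin 2 → F) k) ^ r = _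
      rw [Finset.sum_eq_single t]
      · rw [Pi.single_eq_same, one_pow, mul_one, Pi.single_apply]
        congr 1
        exact propext ⟨fun h => h.symm, fun h => h.symm⟩
      · intro k _ hk
        rw [Pi.single_eq_of_ne hk, zero_pow hr0, mul_zero]
      · intro h; exact absurd (Finset.mem_univ _) h
    rw [h2] at h1
    rw [← h1]
    show _ = ∑ k : Fin 2, _
    rw [Fin.sum_univ_two]
    rfl
  have h00 := hcol 0 0
  rw [if_pos rfl] at h00
  have h10 := hcol 1 0
  rw [if_neg (by decide)] at h10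
  set a := suM F r A 0 0
  set c := suM F r A 1 0
  set b := suM F r A 0 1
  set d := suM F r A 1 1
  refine ⟨?_, ?_, ?_⟩
  · rw [pow_succ', pow_succ']; exact h00
  · -- `b a^r + d c^r = 0`
    linear_combination (-(c ^ r)) * hdet + a * h10 + (-b) * h00
  · linear_combination (a ^ r) * hdet + c * h10 + (-d) * h00

/-- the elements of `SU_2` -/
theorem exists_su [Finite F] (hc : Nat.card F = r ^ 2) {u v : F} (h : u ^ (r + 1) + v ^ (r + 1) = 1) :
    ∃ A : ↥(SU 2 F r), suM F r A 0 0 = u ∧ suM F r A 1 0 = v ∧ suM F r A 0 1 = -(v ^ r) ∧ suM F r A 1 1 = u ^ r := by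
  let A0 : Matrix (Fin 2) (Fin 2) F := !![u, -(v ^ r); v, u ^ r]
  have hdet : A0.det = 1 := by
    rw [Matrix.det_fin_two_of, ← h]
    ring
  refine ⟨⟨⟨A0, hdet⟩, (Cfsg.Agent.LieClassical.HermBasic.mem_SU_iff _).2 ?_⟩, rfl, rfl, rfl, rfl⟩
  intro x y
  show ∑ k : Fin 2, (A0 *ᵥ x) k * ((A0 *ᵥ y) k) ^ r = ∑ k : Fin 2, x k * (y k) ^ r
  rw [Fin.sum_univ_two, Fin.sum_univ_two]
  have e0 : ∀ x : Fin 2 → F, (A0 *ᵥ x) 0 = u * x 0 + -(v ^ r) * x 1 := by
    intro x
    rw [Matrix.mulVec, dotProduct, Fin.sum_univ_two]; rfl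
  have e1 : ∀ x : Fin 2 → F, (A0 *ᵥ x) 1 = v * x 0 + u ^ r * x 1 := by
    intro x
    rw [Matrix.mulVec, dotProduct, Fin.sum_univ_two]; rfl
  rw [e0, e1, e0, e1, add_pow_r hc, add_pow_r hc, mul_pow, mul_pow, mul_pow, mul_pow, neg_pow_r hc, pow_r_pow_r hc,
    pow_r_pow_r hc]
  linear_combination (x 0 * y 0 ^ r + x 1 * y 1 ^ r) * h

section Herm

variable [Finite F] [Module.Finite F V] (hΦ : IsHerm r Φ) {b : Module.Basis (I × Y) F V}
  (hb : ∀ x x', Φ.B (b x) (b x') = if x = x' then 1 else 0) {i j : I} (hij : i ≠ j)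

include hb in
theorem ON_of : ON Φ b :=
  ⟨fun x x' h => by rw [hb, if_neg h], fun x => by rw [hb, if_pos rfl]⟩

theorem ne_pair {i j : I} (hij : i ≠ j) (y : Y) : ((i, y) : I × Y) ≠ (j, y) := fun h => hij (congrArg Prod.fst h)

include hΦ in
theorem opG_single (y : Y) (A : ↥(SU 2 F r)) :
    opG b r hij (Pi.mulSingle y A) = plE b r (ne_pair hij y) hΦ.card (su_entries hΦ.card A).1 := by
  obtain ⟨-, h2, h3⟩ := su_entries hΦ.card A
  apply LinearEquiv.toLinearMap_injective
  refine b.ext fun t => ?_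
  obtain ⟨k, z⟩ := t
  show opY b i j (fun y' => suM F r ((Pi.mulSingle y A : Y → ↥(SU 2 F r)) y')) (b (k, z)) =
    pl b r (i, y) (j, y) (suM F r A 0 0) (suM F r A 1 0) (b (k, z))
  by_cases hz : z = y
  · subst hz
    by_cases hi : k = i
    · subst hi
      rw [opY_i, pl_i, Pi.mulSingle_eq_same]
    by_cases hj : k = j
    · subst hj
      rw [opY_j b hij, pl_j b r (ne_pair hij z), Pi.mulSingle_eq_same, h2, h3]
    rw [opY_k b _ hi hj, pl_k b r _ _ (fun h => hi (congrArg Prod.fst h)) (fun h => hj (congrArg Prod.fst h))]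
  · rw [pl_k b r _ _ (fun h => hz (congrArg Prod.snd h)) (fun h => hz (congrArg Prod.snd h))]
    by_cases hi : k = i
    · subst hi
      rw [opY_i, Pi.mulSingle_eq_of_ne hz, map_one, Matrix.one_apply_eq, Matrix.one_apply_ne (by decide), one_smul,
        zero_smul, add_zero]
    by_cases hj : k = j
    · subst hj
      rw [opY_j b hij, Pi.mulSingle_eq_of_ne hz, map_one, Matrix.one_apply_eq, Matrix.one_apply_ne (by decide), one_smul,
        zero_smul, zero_add]
    rw [opY_k b _ hi hj]

include hΦ hb in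
theorem opG_iso (n : Y → ↥(SU 2 F r)) : opG b r hij n ∈ Φ.Iso ⊓ slV F V := by
  have h : n ∈ (Φ.Iso ⊓ slV F V).comap (opG b r hij) := by
    refine Subgroup.pi_mem_of_mulSingle_mem n fun y => ?_
    show opG b r hij (Pi.mulSingle y (n y)) ∈ Φ.Iso ⊓ slV F V
    rw [opG_single hΦ hij]
    exact ⟨plE_iso hΦ (ON_of hb) _ _, plE_det b r _ hΦ.card _⟩
  exact h

theorem B_ext {X : Type} [Fintype X] [DecidableEq X] {b : Module.Basis X F V} {S T : Module.End F V}
    (h : ∀ x x', Φ.B (S (b x)) (b x') = Φ.B (b x) (T (b x'))) (v w : V) : Φ.B (S v) w = Φ.B v (T w) := by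
  have h1 : ∀ v x', Φ.B (S v) (b x') = Φ.B v (T (b x')) := by
    intro v x'
    conv_lhs => rw [← b.sum_repr v, map_sum]
    conv_rhs => rw [← b.sum_repr v]
    rw [B_sum_left, B_sum_left]
    exact Finset.sum_congr rfl fun x _ => by rw [map_smul, Φ.smul_left, Φ.smul_left, h]
  conv_lhs => rw [← b.sum_repr w]
  conv_rhs => rw [← b.sum_repr w, map_sum]
  rw [B_sum_right, B_sum_right]
  exact Finset.sum_congr rfl fun x _ => by rw [map_smul, Φ.smul_right, Φ.smul_right, h1]

include hΦ hb in
/-- isometries commuting with `th i j` commute with `th j i` -/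
theorem comm_adj {y : V ≃ₗ[F] V} (hy : y ∈ Φ.Iso) (h : ∀ v, y (th b i j v) = th b i j (y v)) (v : V) :
    y (th b j i v) = th b j i (y v) := by
  have hadj : ∀ v w, Φ.B (th b j i v) w = Φ.B v (th b i j w) := by
    refine B_ext (b := b) fun x x' => ?_
    obtain ⟨k, y⟩ := x
    obtain ⟨l, z⟩ := x'
    rw [th_apply, th_apply]
    show Φ.B (if k = j then b (i, y) else 0) (b (l, z)) = Φ.B (b (k, y)) (if l = i then b (j, z) else 0)
    by_cases hk : k = j
    · rw [if_pos hk]
      by_cases hl : l = i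
      · rw [if_pos hl, hb, hb, hk, hl]
        simp
      · rw [if_neg hl, hb, B_zero_r, if_neg (fun h => hl (congrArg Prod.fst h).symm)]
    · rw [if_neg hk, B_zero_left]
      by_cases hl : l = i
      · rw [if_pos hl, hb, if_neg (fun h => hk (congrArg Prod.fst h))]
      · rw [if_neg hl, B_zero_r]
  have h1 : ∀ w, Φ.B (y (th b j i v)) w = Φ.B (th b j i (y v)) w := by
    intro w
    have hw : y (y⁻¹ w) = w := y.apply_symm_apply w
    rw [← hw, hy.1, hadj, ← hy.1, h, hadj]
  have h2 : y (th b j i v) - th b j i (y v) = 0 := by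
    refine hΦ.nd _ fun w => ?_
    have : y (th b j i v) - th b j i (y v) = y (th b j i v) + (-1 : F) • th b j i (y v) := by
      rw [neg_one_smul, sub_eq_add_neg]
    rw [this, Φ.add_left, Φ.smul_left, h1]
    ring
  exact sub_eq_zero.1 h2

include hij in
theorem opY_const (A : Matrix (Fin 2) (Fin 2) F) : opY b i j (fun _ => A) =
    1 + (A 0 0 - 1) • (th b j i * th b i j) + (A 1 1 - 1) • (th b i j * th b j i) + A 1 0 • th b i j +
      A 0 1 • th b j i := by
  refine b.ext fun t => ?_
  obtain ⟨k, y⟩ := t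
  have e : (1 + (A 0 0 - 1) • (th b j i * th b i j) + (A 1 1 - 1) • (th b i j * th b j i) + A 1 0 • th b i j +
      A 0 1 • th b j i) (b (k, y)) = b (k, y) + (A 0 0 - 1) • th b j i (th b i j (b (k, y))) +
        (A 1 1 - 1) • th b i j (th b j i (b (k, y))) + A 1 0 • th b i j (b (k, y)) + A 0 1 • th b j i (b (k, y)) := rfl
  rw [e]
  by_cases hi : k = i
  · subst hi
    have h1 : th b k j (b (k, y)) = b (j, y) := by rw [th_apply, if_pos rfl]
    have h2 : th b j k (b (j, y)) = b (k, y) := by rw [th_apply, if_pos rfl]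
    have h3 : th b j k (b (k, y)) = 0 := by rw [th_apply, if_neg hij]
    rw [opY_i, h1, h2, h3, map_zero, smul_zero, smul_zero, add_zero, add_zero, sub_smul, one_smul]
    abel
  by_cases hj : k = j
  · subst hj
    have h1 : th b k i (b (k, y)) = b (i, y) := by rw [th_apply, if_pos rfl]
    have h2 : th b i k (b (i, y)) = b (k, y) := by rw [th_apply, if_pos rfl]
    have h3 : th b i k (b (k, y)) = 0 := by rw [th_apply, if_neg hij.symm]
    rw [opY_j b hij, h1, h2, h3, map_zero, smul_zero, smul_zero, add_zero, add_zero, sub_smul, one_smul]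
    abel
  have h1 : th b i j (b (k, y)) = 0 := by rw [th_apply, if_neg hi]
  have h2 : th b j i (b (k, y)) = 0 := by rw [th_apply, if_neg hj]
  rw [opY_k b _ hi hj, h1, h2, map_zero, map_zero, smul_zero, smul_zero, smul_zero, smul_zero, add_zero, add_zero,
    add_zero, add_zero]

include hΦ hb in
/-- the constant elements -/
theorem opG_const (hE : NC p Φ.Iso E) (hM : Hyps p Φ.Iso E M) (hp : p.Prime) (hT : EO E (th b i j)) (A : ↥(SU 2 F r)) :
    opG b r hij (fun _ => A) ∈ M := by
  obtain ⟨hI, hd⟩ := opG_iso hΦ hb hij (fun _ => A)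
  refine mem_of_EO hE hM hp hT hI hd fun y hy hyT v => ?_
  have hyT' := comm_adj hΦ hb (hE.le hy) hyT
  have e : ∀ v, opG b r hij (fun _ => A) v = v + (suM F r A 0 0 - 1) • th b j i (th b i j v) +
      (suM F r A 1 1 - 1) • th b i j (th b j i v) + suM F r A 1 0 • th b i j v + suM F r A 0 1 • th b j i v := by
    intro v
    have h1 : opG b r hij (fun _ => A) v = opY b i j (fun _ => suM F r A) v := rfl
    rw [h1, opY_const hij]
    rfl
  rw [e, e]
  simp only [map_add, map_smul, hyT, hyT']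

include hΦ hb hij in
/-- **connection** -/
theorem connect (hr : 4 ≤ r) (hE : NC p Φ.Iso E) (hM : Hyps p Φ.Iso E M) (hp : p.Prime) (hT : EO E (th b i j))
    (hY : 3 ≤ Fintype.card Y) (hin : ∀ y y' : Y, y ≠ y' → HasP Φ b M (i, y) (i, y')) (y₀ : Y) :
    HasP Φ b M (i, y₀) (j, y₀) := by
  have := Fintype.ofFinite F
  have hF : Fintype.card F = r ^ 2 := by rw [← Nat.card_eq_fintype_card, hΦ.card]
  have hr0 : r ≠ 0 := by omega
  obtain ⟨hperf, hsimple⟩ : IsQuasisimple (SU 2 F r) := by
    obtain ⟨q, k, hq, -, hk, hk0⟩ := Cfsg.Agent.LieClassical.HermBasic.exists_prime_pow hF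
    have := Fact.mk hq
    have : Finite (GaloisField q k) := inferInstance
    have h1 : Nat.card (GaloisField q k) = r := by rw [GaloisField.card q k hk0.ne', hk]
    let _ : Fintype (GaloisField q k) := Fintype.ofFinite _
    obtain ⟨e⟩ := Cfsg.Agent.S0281.result (K := GaloisField q k) hF (by rw [← Nat.card_eq_fintype_card, h1])
    refine Cfsg.Agent.SignalizersComponents.Components.isQuasisimple_of_mulEquiv e.symm ?_
    exact Cfsg.Agent.SignalizersComponents.SLQuasisimple.isQuasisimple_two (by rw [h1]; exact hr)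
  -- an element of norm one
  obtain ⟨c, hc, hc3⟩ : ∃ c : Fˣ, c ^ (r + 1) = 1 ∧ c ^ 2 ≠ 1 := by
    obtain ⟨c, hc⟩ := Cfsg.Agent.H321.Ker.exists_orderOf_eq (F := F) (d := r + 1) ⟨r - 1, by rw [card_units hΦ.card, mul_comm]⟩
    refine ⟨c, by rw [← hc, pow_orderOf_eq_one], fun h => ?_⟩
    have := Nat.le_of_dvd (by norm_num) (hc ▸ orderOf_dvd_of_pow_eq_one h)
    omega
  have hcF : (c : F) ^ (r + 1) = 1 := by rw [← Units.val_pow_eq_pow_val, hc, Units.val_one]
  have hcr : (c : F) ^ r = ((c⁻¹ : Fˣ) : F) := by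
    rw [← Units.val_pow_eq_pow_val]
    congr 1
    rw [pow_succ] at hc
    exact eq_inv_of_mul_eq_one_left hc
  have hcF0 : (c : F) ^ (r + 1) + 0 ^ (r + 1) = 1 := by rw [hcF, zero_pow (by omega), add_zero]
  -- the Weyl element and the diagonal elements
  obtain ⟨w, hw00, hw10, hw01, hw11⟩ := exists_su (r := r) hΦ.card (u := (0 : F)) (v := 1)
    (by rw [zero_pow (by omega), one_pow, zero_add])
  have hdg : ∀ d : Fˣ, d ^ (r + 1) = 1 → ∃ A : ↥(SU 2 F r), suM F r A 0 0 = ((d⁻¹ : Fˣ) : F) ∧ suM F r A 1 0 = 0 ∧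
      suM F r A 0 1 = 0 ∧ suM F r A 1 1 = (d : F) := by
    intro d hd
    obtain ⟨A, h1, h2, h3, h4⟩ := exists_su (r := r) hΦ.card (u := ((d⁻¹ : Fˣ) : F)) (v := 0) (by
      rw [zero_pow (by omega), add_zero, ← Units.val_pow_eq_pow_val, inv_pow, hd, inv_one, Units.val_one])
    refine ⟨A, h1, h2, by rw [h3, zero_pow hr0, neg_zero], ?_⟩
    rw [h4, ← Units.val_pow_eq_pow_val]
    congr 1
    rw [pow_succ] at hd
    rw [inv_pow, eq_comm, eq_inv_iff_mul_eq_one, mul_comm]
    exact hd
  choose! dg hdg using hdg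
  let N : Subgroup (Y → ↥(SU 2 F r)) := M.comap (opG b r hij)
  have key := goursat (Q := ↥(SU 2 F r)) (W := Y) (Z := Subgroup.center ↥(SU 2 F r)) hperf.commutator_eq_top ?_ N y₀ ?_ ?_
  · -- conclusion
    intro g hg hd hfix
    obtain ⟨u, v, h, rfl⟩ := eq_plE hΦ (ON_of hb) (ne_pair hij y₀) hg hd hfix
    obtain ⟨A, h1, h2, -, -⟩ := exists_su (r := r) hΦ.card h
    have h3 := key A
    have h4 : opG b r hij (Pi.mulSingle y₀ A) ∈ M := h3
    rw [opG_single hΦ hij] at h4
    have h5 : plE b r (ne_pair hij y₀) hΦ.card (su_entries hΦ.card A).1 = plE b r (ne_pair hij y₀) hΦ.card h := by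
      apply LinearEquiv.toLinearMap_injective
      show pl b r (i, y₀) (j, y₀) _ _ = pl b r (i, y₀) (j, y₀) _ _
      rw [h1, h2]
    rwa [h5] at h4
  · -- normal subgroups
    intro N' hN' hnc
    have h1 : (N'.map (QuotientGroup.mk' (Subgroup.center ↥(SU 2 F r)))).Normal := hN'.map _ (QuotientGroup.mk'_surjective _)
    rcases hsimple.eq_bot_or_eq_top_of_normal _ h1 with h2 | h2
    · exfalso
      apply hnc
      intro x hx
      have h3 : (QuotientGroup.mk' (Subgroup.center ↥(SU 2 F r))) x ∈ N'.map (QuotientGroup.mk' (Subgroup.center ↥(SU 2 F r))) :=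
        ⟨x, hx, rfl⟩
      rw [h2, Subgroup.mem_bot] at h3
      exact (QuotientGroup.eq_one_iff x).1 h3
    · -- `N' Z = ⊤`, so `N'` contains the commutator subgroup
      rw [eq_top_iff, ← hperf.commutator_eq_top, commutator_def, Subgroup.commutator_le]
      have h3 : ∀ x : ↥(SU 2 F r), ∃ n ∈ N', ∃ z ∈ Subgroup.center ↥(SU 2 F r), x = n * z := by
        intro x
        have h4 : (QuotientGroup.mk' (Subgroup.center ↥(SU 2 F r))) x ∈ N'.map (QuotientGroup.mk' (Subgroup.center ↥(SU 2 F r))) := by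
          rw [h2]; trivial
        obtain ⟨n, hn, hnx⟩ := h4
        exact ⟨n, hn, n⁻¹ * x, QuotientGroup.eq.1 hnx, (mul_inv_cancel_left n x).symm⟩
      intro x _ y _
      obtain ⟨n, hn, z, hz, rfl⟩ := h3 x
      have hzc : ∀ t, z * t = t * z := fun t => (Subgroup.mem_center_iff.1 hz t).symm
      have h4 : ⁅n * z, y⁆ = n * (y * n⁻¹ * y⁻¹) := by
        rw [commutatorElement_def, mul_inv_rev, mul_assoc n z y, hzc y]
        group
      rw [h4]
      exact N'.mul_mem hn (hN'.conj_mem _ (N'.inv_mem hn) y)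
  · intro q
    exact ⟨fun _ => q, opG_const hΦ hb hij hE hM hp hT q, rfl⟩
  · -- separation
    intro y₁ hy₁
    obtain ⟨y₂, hy₂⟩ : ∃ y₂ : Y, y₂ ∉ ({y₀, y₁} : Finset Y) := by
      by_contra! h
      have h1 : (Finset.univ : Finset Y) ⊆ {y₀, y₁} := fun x _ => h x
      have h2 := Finset.card_le_card h1
      have h3 := Finset.card_le_two (a := y₀) (b := y₁)
      rw [Finset.card_univ] at h2
      omega
    rw [Finset.mem_insert, Finset.mem_singleton, not_or] at hy₂
    let d : Y → Fˣ := fun y => if y = y₀ then c else if y = y₂ then c⁻¹ else 1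
    have hd : ∀ y, d y ^ (r + 1) = 1 := by
      intro y
      show (if y = y₀ then c else if y = y₂ then c⁻¹ else 1) ^ (r + 1) = 1
      split_ifs
      · exact hc
      · rw [inv_pow, hc, inv_one]
      · exact one_pow _
    have h02 : ((i, y₀) : I × Y) ≠ (i, y₂) := fun h => hy₂.1 (congrArg Prod.snd h).symm
    set D := plE b r h02 hΦ.card hcF0 with hDdef
    have hDM : D ∈ M := (hin y₀ y₂ (Ne.symm hy₂.1)).plE_mem hΦ (ON_of hb) h02 hcF0
    have hDi : ∀ y, D (b (i, y)) = (d y : F) • b (i, y) := by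
      intro y
      show pl b r (i, y₀) (i, y₂) (c : F) 0 (b (i, y)) = _
      by_cases h0 : y = y₀
      · have : d y = c := if_pos h0
        rw [this, h0, pl_i, zero_smul, add_zero]
      by_cases h2 : y = y₂
      · have : d y = c⁻¹ := (if_neg h0).trans (if_pos h2)
        rw [this, h2, pl_j b r h02, zero_pow hr0, neg_zero, zero_smul, zero_add, hcr]
      · have : d y = 1 := (if_neg h0).trans (if_neg h2)
        rw [this, pl_k b r _ _ (fun h => h0 (congrArg Prod.snd h)) (fun h => h2 (congrArg Prod.snd h)), Units.val_one,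
          one_smul]
    have hDk : ∀ k, k ≠ i → ∀ y, D (b (k, y)) = b (k, y) := fun k hk y =>
      pl_k b r _ _ (fun h => hk (congrArg Prod.fst h)) (fun h => hk (congrArg Prod.fst h))
    let n : Y → ↥(SU 2 F r) := fun y => dg (d y)
    have hn : ∀ y, suM F r (n y) 0 0 = (((d y)⁻¹ : Fˣ) : F) ∧ suM F r (n y) 1 0 = 0 ∧
      suM F r (n y) 0 1 = 0 ∧ suM F r (n y) 1 1 = (d y : F) := fun y => hdg (d y) (hd y)
    have hW := opG_const hΦ hb hij hE hM hp hT w
    have hrel : opG b r hij (fun _ => w) * D = opG b r hij n * D * opG b r hij (fun _ => w) := by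
      apply LinearEquiv.toLinearMap_injective
      refine b.ext fun t => ?_
      obtain ⟨k, y⟩ := t
      show opY b i j (fun _ => suM F r w) (D (b (k, y))) =
        opY b i j (fun y => suM F r (n y)) (D (opY b i j (fun _ => suM F r w) (b (k, y))))
      obtain ⟨n00, n10, n01, n11⟩ := hn y
      by_cases hi : k = i
      · subst hi
        rw [hDi, map_smul, opY_i, hw00, hw10, zero_smul, zero_add, one_smul, hDk j hij.symm, opY_j b hij, n01, n11,
          zero_smul, zero_add]
      by_cases hj : k = j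
      · subst hj
        rw [hDk k hij.symm, opY_j b hij, hw01, hw11, one_pow, zero_pow hr0, zero_smul, add_zero, neg_smul, one_smul,
          map_neg, hDi, map_neg, map_smul, opY_i, n00, n10, zero_smul, add_zero, smul_smul, ← Units.val_mul,
          mul_inv_cancel, Units.val_one, one_smul]
      rw [hDk k hi, opY_k b _ hi hj, hDk k hi, opY_k b _ hi hj]
    refine ⟨n, ?_, ?_, ?_⟩
    · show opG b r hij n ∈ M
      have h1 : opG b r hij n = opG b r hij (fun _ => w) * D * (opG b r hij (fun _ => w))⁻¹ * D⁻¹ := by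
        rw [hrel]; group
      rw [h1]
      exact M.mul_mem (M.mul_mem (M.mul_mem hW hDM) (M.inv_mem hW)) (M.inv_mem hDM)
    · -- trivial at `y₁`
      have h1 : d y₁ = 1 := (if_neg hy₁).trans (if_neg (Ne.symm hy₂.2))
      obtain ⟨n00, n10, n01, n11⟩ := hn y₁
      rw [h1, inv_one, Units.val_one] at n00
      rw [h1, Units.val_one] at n11
      apply Subtype.ext
      apply Subtype.ext
      ext s t
      fin_cases s <;> fin_cases t
      · exact n00
      · exact n01
      · exact n10
      · exact n11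
    · -- not central at `y₀`
      intro hcen
      have h1 : d y₀ = c := if_pos rfl
      obtain ⟨n00, n10, n01, n11⟩ := hn y₀
      rw [h1] at n00 n11
      have h2 := Subgroup.mem_center_iff.1 hcen w
      have h3 := congrArg (fun A => suM F r A 1 0) h2
      simp only [map_mul, Matrix.mul_apply, Fin.sum_univ_two] at h3
      rw [hw10, hw11, n00, n10, n11, hw00, one_mul, zero_mul, mul_zero, mul_one, add_zero, zero_add] at h3
      apply hc3
      have h4 : c⁻¹ = c := Units.ext h3
      rw [sq]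
      nth_rw 1 [← h4]
      exact inv_mul_cancel c

end Herm

end Cfsg.Agent.H557.Gp

end

section
/-!
# S2187, non-commuting preimage: the unitary theorem
-/

set_option autoImplicit false
set_option linter.unusedSectionVars false
set_option linter.unusedVariables false

namespace Cfsg.Agent.H557.Gp

open Cfsg Cfsg.Geo
open scoped MatrixGroups Matrix
open Cfsg.Agent.H847.Bs Cfsg.Agent.H557.Bs
open Cfsg.Agent.H321.Ker

universe u v

/-- **the unitary theorem**, from the maximality facts -/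
theorem unitaryNC_of {p : ℕ} (hp : p.Prime) (hp2 : p ≠ 2) (U : UniFacts.{u} p) : UnitaryNC.{u, v} p := by
  intro F V _ _ _ _ _ r Φ hΦ h7 E M hE hM hirr g hg hd
  have := Fintype.ofFinite F
  have := Fact.mk hp
  have : NeZero p := ⟨hp.ne_zero⟩
  have := hE.nontrivial
  have hF : Fintype.card F = r ^ 2 := by rw [← Nat.card_eq_fintype_card, hΦ.card]
  have hEA : EA p Φ E := ⟨hE.le, hE.scal, hE.pow, hE.comm⟩
  have hA : An Φ E := fun W hW hTI => Or.inl (hirr W hW hTI)
  let N : Subgroup Fˣ := (powMonoidHom (r + 1) : Fˣ →* Fˣ).ker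
  have hN : ∀ c : Fˣ, c ∈ N ↔ c ^ (r + 1) = 1 := fun c => MonoidHom.mem_ker
  have K : Kd r N 1 Φ := Or.inr ⟨rfl, hΦ, hN⟩
  obtain ⟨x, hx, y, hy, hxy⟩ := hE.nc
  obtain ⟨c, hc⟩ := hE.comm y hy x hx
  have hcp := hEA.comm_root hy hc
  have hc0 : c ≠ 0 := by
    rintro rfl
    rw [zero_pow hp.ne_zero] at hcp
    exact zero_ne_one hcp
  obtain ⟨ζ, hζc⟩ : ∃ ζ : Fˣ, (ζ : F) = c := ⟨Units.mk0 c hc0, rfl⟩
  have hz : ζ ^ p = 1 := Units.ext (by rw [Units.val_pow_eq_pow_val, hζc, hcp, Units.val_one])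
  have hz1 : ζ ≠ 1 := by
    intro h
    have h1 : c = 1 := by rw [← hζc, h, Units.val_one]
    apply hxy
    refine LinearEquiv.ext fun v => ?_
    have := hc v
    rw [h1, one_smul] at this
    exact this.symm
  have hzN : ζ ∈ N := by
    refine (K.scal_iff (g := y * x * (x * y)⁻¹) (c := ζ) fun v => ?_).1
      (hE.le (E.mul_mem (E.mul_mem hy hx) (E.inv_mem (E.mul_mem hx hy))))
    show y (x ((x * y)⁻¹ v)) = (ζ : F) • v
    have h1 : x (y ((x * y)⁻¹ v)) = v := (x * y).apply_symm_apply v
    rw [hc, h1, hζc]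
  have hpr : p ∣ r + 1 := by
    rw [← orderOf_eq hp hz hz1]
    exact orderOf_dvd_of_pow_eq_one ((hN ζ).1 hzN)
  have hr3 := three_le_q hF hz hz1 ((hN ζ).1 hzN) h7
  have hr4 : 4 ≤ r := by
    by_contra hlt
    have h3 : r = 3 := by omega
    rw [h3] at hpr
    have h4 : p ∣ 2 ^ 2 := hpr
    have h5 := (Nat.prime_dvd_prime_iff_eq hp Nat.prime_two).1 (hp.dvd_of_dvd_pow h4)
    exact hp2 h5
  have hp3 : 3 ≤ p := by have := hp.two_le; omega
  obtain ⟨I, Y, _, _, _, _, b, G, hY⟩ := exists_good (N := N) (ν := (1 : F)) hp hp2 hz hz1 hzN _ le_rfl K hEA hA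
  have hY3 : 3 ≤ Fintype.card Y := hp3.trans (hY hE.nc)
  have hb : ∀ x x', Φ.B (b x) (b x') = if x = x' then 1 else 0 := G.gram
  have hON : ON Φ b := ON_of hb
  have hin : ∀ i y y', y ≠ y' → HasP Φ b M (i, y) (i, y') := by
    intro i y y' hyy
    have h1 : ∀ {s t : I × Y}, Relation.ReflTransGen (Edge b p ζ N E) s t → Relation.ReflTransGen (HasP Φ b M) s t := by
      intro s t h
      induction h with
      | refl => exact Relation.ReflTransGen.refl
      | tail _ h ih => exact ih.tail (edge_uni hp2 U h7 hΦ hN hz hz1 hzN hE hM hb h)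
    exact HasP.of_conn hΦ hON (h1 (G.conn i y y')) fun h => hyy (congrArg Prod.snd h)
  refine phan_ON hΦ (by omega) hON ?_ g hg hd
  rintro ⟨i, y⟩ ⟨j, y'⟩
  have hin' : ∀ i y y', Relation.ReflTransGen (HasP Φ b M) (i, y) (i, y') := by
    intro i y y'
    by_cases h : y = y'
    · rw [h]
    · exact Relation.ReflTransGen.single (hin i y y' h)
  by_cases hij : i = j
  · subst hij
    exact hin' i y y'
  · exact (hin' i y y').tail (connect hΦ hb hij hr4 hE hM hp (G.theta i j) hY3 (hin i) y')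

end Cfsg.Agent.H557.Gp

end
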